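import Cfsg.Agent.H38.KnTwkF

/-!
# The twisted action on the group of order 128 is impossible
-/

set_option autoImplicit false

namespace Cfsg.Agent.H38.KnTwk

open Equiv Subgroup Cfsg.Agent.H17.Kn

universe u

variable {G : Type u} [Group G] {J : N2 → G}

/-- `g` acts on the even sign changes as `α`. -/
def A (J : N2 → G) (g : G) (α : V → V) : Prop := ∀ v, Ev v → Ev (α v) ∧ R J g (sv v) (sv (α v))

theorem A.mul {g g' : G} {α α' : V → V} (h' : A J g' α') (h : A J g α) :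
    A J (g' * g) fun v => α' (α v) := fun v hv =>
  ⟨(h' _ (h v hv).1).1, (h v hv).2.trans (h' _ (h v hv).1).2⟩

theorem sv_inj {v w : V} (h : sv v = sv w) : v = w := congrArg N2.f h

theorem A.uniq (hE : Em J EE) {g : G} {α α' : V → V} (h : A J g α) (h' : A J g α') {v : V}
    (hv : Ev v) : α v = α' v :=
  sv_inj (hE.inj _ (sv_mem.2 (h v hv).1) _ (sv_mem.2 (h' v hv).1)
    ((Eq.symm (h v hv).2).trans (h' v hv).2))

theorem ev_add {v w : V} (h : Ev v) (h' : Ev w) : Ev (v + w) :=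
  sv_mem.1 (sv_mul v w ▸ EE.mul_mem (sv_mem.2 h) (sv_mem.2 h'))

/-- `g` maps one even vector to the other. -/
def Q (J : N2 → G) (g : G) (v w : V) : Prop := Ev v ∧ Ev w ∧ R J g (sv v) (sv w)

theorem Q.add (hE : Em J EE) {g : G} {v w v' w' : V} (h : Q J g v w) (h' : Q J g v' w') :
    Q J g (v + v') (w + w') := by
  refine ⟨ev_add h.1 h'.1, ev_add h.2.1 h'.2.1, ?_⟩
  have a := h.2.2
  have b := h'.2.2
  unfold R at *
  rw [← sv_mul, ← sv_mul, hE.mul _ (sv_mem.2 h.1) _ (sv_mem.2 h'.1),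
    hE.mul _ (sv_mem.2 h.2.1) _ (sv_mem.2 h'.2.1), ← a, ← b]
  group

theorem Q.smul (hE : Em J EE) {g : G} {v w : V} (h : Q J g v w) (c : ZMod 2) :
    Q J g (c • v) (c • w) := by
  have : c = 0 ∨ c = 1 := by revert c; decide
  rcases this with rfl | rfl
  · have e : J (sv 0) = 1 := hE.one
    rw [zero_smul, zero_smul]
    exact ⟨by decide, by decide, by rw [R, e]; group⟩
  · rwa [one_smul, one_smul]

theorem e1_blk {c : N2} (h : c ∈ E1) : ∃ a b c' d, c = sv (blk a b c' d) := by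
  refine ⟨c.f 0, c.f 2, c.f 4, c.f 6, (eq_sv h.1).trans (congrArg sv ?_)⟩
  have k := h.2.2.2
  funext i
  fin_cases i
  exacts [rfl, k 0, rfl, k 2, rfl, k 4, rfl, k 6]

theorem twk (hB : Base.{u}) (h1 : Pb1Stmt.{u}) : TwkStmt.{u} := by
  intro G _ _ J φ T F f s D hc
  obtain ⟨f1, f2, f3, f4, f5, f6, f7, f8, f9, f10, f11, m34, m14, m24, m34', t13, t14, e0, e1, e2,
    eb, hch, hblk⟩ := facts
  have le : EE ≤ AE := hB.m2.le.2.2.2.2.2.1
  have hE : Em J EE := T.emE.mono le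
  have A12 : A J (J (xe 1 2)) a12 := fun v hv =>
    ⟨(cm v hv).1.1, (cm v hv).1.2 ▸ T.a12 _ (sv_mem.2 hv)⟩
  have A13 : A J (J (xe 1 3)) a13 := fun v hv =>
    ⟨(cm v hv).2.1.1, (cm v hv).2.1.2 ▸ T.a13 _ (sv_mem.2 hv)⟩
  have A23 : A J (J (xe 2 3)) a23 := fun v hv =>
    ⟨(cm v hv).2.2.1.1, (cm v hv).2.2.1.2 ▸ T.a23 _ (sv_mem.2 hv)⟩
  obtain ⟨g, hg⟩ := T.a21
  have A21 : A J g a21 := fun v hv =>
    ⟨(cm v hv).2.2.2.1.1, (cm v hv).2.2.2.1.2 ▸ hg _ (sv_mem.2 hv)⟩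
  have A14 : A J (J (xe 1 4)) a14 := fun v hv =>
    ⟨(cm v hv).2.2.2.2.1.1, (cm v hv).2.2.2.2.1.2 ▸ T.emE.self m14 (le (sv_mem.2 hv))⟩
  have A24 : A J (J (xe 2 4)) a24 := fun v hv =>
    ⟨(cm v hv).2.2.2.2.2.1.1, (cm v hv).2.2.2.2.2.1.2 ▸ T.emE.self m24 (le (sv_mem.2 hv))⟩
  have A34 : A J (J (xe 3 4)) a34 := fun v hv =>
    ⟨(cm v hv).2.2.2.2.2.2.1.1, (cm v hv).2.2.2.2.2.2.1.2 ▸ T.emE.self m34' (le (sv_mem.2 hv))⟩
  have gen : ∀ v, Ev v → ∃ a b c d, Q J f v (v + blk a b c d) := fun v hv => by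
    obtain ⟨c, hc1, hc2⟩ := hc _ (sv_mem.2 hv)
    obtain ⟨a, b, c', d, rfl⟩ := e1_blk hc1
    exact ⟨a, b, c', d, hv, ev_add hv (sv_mem.1 hc1.1), sv_mul _ _ ▸ hc2⟩
  obtain ⟨a, b, c, d, q0⟩ := gen g0 e0
  obtain ⟨a', b', c', d', q1⟩ := gen g1 e1
  obtain ⟨a'', b'', c'', d'', q2⟩ := gen g2 e2
  have qb : ∀ a b c d, Q J f (blk a b c d) (blk a b c d) := fun a b c d => by
    have ev := sv_mem.1 (hblk a b c d).1
    refine ⟨ev, ev, ?_⟩
    rw [R, (D.ab f D.fF _ (D.le2 (mem_im (hblk a b c d)))).eq, mul_inv_cancel_right]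
  set β0 := β (blk a b c d) (blk a' b' c' d') (blk a'' b'' c'' d'') with hβ
  have Af : A J f β0 := fun v hv => by
    have k := ((((q0.smul hE (l0 v)).add hE (q1.smul hE (l1 v))).add hE (q2.smul hE (l2 v))).add hE
      (qb (v 0) (v 2) (v 4) (v 6)))
    rw [← dec v hv] at k
    have e : β0 v = l0 v • (g0 + blk a b c d) + l1 v • (g1 + blk a' b' c' d') +
        l2 v • (g2 + blk a'' b'' c'' d'') + blk (v 0) (v 2) (v 4) (v 6) := by
      rw [hβ, β_eq]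
      nth_rewrite 1 [dec v hv]
      simp only [smul_add]
      abel
    rw [e]
    exact k.2
  have hU : sv (blk a b c d) ∉ U1 := fun h => D.x01 (by
    have k := q0.2.2
    rw [R, add_comm, ← sv_mul, hE.mul _ (hblk a b c d).1 _ (sv_mem.2 e0)] at k
    rw [f1, k, mul_inv_cancel_right]
    exact mem_im h)
  have rel : ∀ (v u w : N2) (α : V → V), A J (J v) α → sv (α (blk 0 0 0 1)) = e34 * u →
      (v ∈ XX ∧ s12 * pm2 v * s12⁻¹ = pm2 v) →
      (u ∈ AE ∧ u ∈ XX ∧ w ∈ XX ∧ s12 * pm2 u * s12⁻¹ = pm2 w) → J v * f = f * J w * J v := by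
    intro v u w α hα e hv hu
    have r1 := D.sX v hv.1 v hv.1 hv.2
    have r2 := D.sX u hu.2.1 w hu.2.2.1 hu.2.2.2
    have r3 := (hα _ eb).2
    rw [e, ← f2, R, T.emE.mul _ m34 _ hu.1] at r3
    unfold R at r1 r2
    calc J v * f = s * J v * s⁻¹ * (s * J e34 * s⁻¹) := by rw [r1, D.fs]
      _ = s * (J v * J e34 * (J v)⁻¹) * s⁻¹ * (s * J v * s⁻¹) := by group
      _ = s * J e34 * s⁻¹ * (s * J u * s⁻¹) * (s * J v * s⁻¹) := by rw [r3]; group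
      _ = f * J w * J v := by rw [r1, r2, D.fs]
  have r24 := rel _ _ _ _ A24 f3 f6 f9
  have r34 := rel _ _ _ _ A34 f4 f7 f10
  have r23 := rel _ _ _ _ A23 f5 f8 f11
  rw [T.em.mul _ t13 _ t14] at r23
  have rl : ∀ v, Ev v → Rl β0 v := fun v hv =>
    ⟨A.uniq hE (A24.mul Af) (r24 ▸ (Af.mul A13).mul A24) hv,
      A.uniq hE (A34.mul Af) (r34 ▸ (Af.mul A12).mul A34) hv,
      A.uniq hE (A23.mul Af) (r23 ▸ (Af.mul (A13.mul A14)).mul A23) hv⟩
  have fn : ∀ v, Fn β0 v := sols a b c d hU a' b' c' d' a'' b'' c'' d'' (rl _ e0) (rl _ e2)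
    (rl _ e1)
  have W : A J (f * (g * J (xe 3 4))) (wd β0) := Af.mul (A21.mul A34)
  have W6 := W.mul (W.mul (W.mul (W.mul (W.mul W))))
  have fin : ∀ n, A J n (fun v => wd β0 (wd β0 (wd β0 (wd β0 (wd β0 (wd β0 v)))))) → False := by
    intro n hn
    refine hch (h1 J φ T.toE0 n ![0, 0, 1] (fun e he => ?_) _ (sv_mem.2 e1))
    have hv : Ev e.f := sv_mem.1 (eq_sv he ▸ he)
    have k := (hn _ hv).2
    simp only [fn _ hv] at k
    rw [← (cm _ hv).2.2.2.2.2.2.2, ← eq_sv he] at k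
    exact k
  exact fin _ W6

end Cfsg.Agent.H38.KnTwk
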