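import Cfsg.Agent.H37.FkKit
import Cfsg.Agent.S5388
import Cfsg.Agent.S2136
import Cfsg.Agent.S0205
import Cfsg.Agent.S1265
import Cfsg.Agent.H48.Simple
import Cfsg.Agent.H58.Simple

/-! Project FK (S5161): the groups `Co₁` and `Co₂`. -/

set_option autoImplicit false

namespace Cfsg.Agent.H38.FkCo

open Cfsg Subgroup Cfsg.Agent.H37.FK

theorem nsc2_of {L : Type*} [Group L] (h1 : NAS L) (h2 : NSC L) : NSC2 L := fun S T hT h0 => by
  have := h1.1
  refine ⟨by rw [(h2 S T hT).resolve_left h0, relIndex_self]; exact one_dvd _, ?_⟩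
  rw [(normalClosure_normal (s := (T : Set L))).eq_bot_or_eq_top.resolve_left fun h =>
    h0 (le_bot_iff.1 (h ▸ le_normalClosure))]
  exact le_top

/-- an extraspecial self-centralising subgroup gives the setting of LX -/
theorem lxd_of {K : Type*} [Group K] [Finite K] {z : K} (hz : orderOf z = 2)
    {Q : Subgroup (centralizer ({z} : Set K))} (hQ : IsExtraspecial 2 Q)
    (hc : centralizer (Q : Set (centralizer ({z} : Set K))) ≤ Q)
    (hp : ¬ IsPGroup 2 (centralizer ({z} : Set K))) : LXD z Q := by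
  let w : centralizer ({z} : Set K) := ⟨z, mem_centralizer_singleton_iff.2 rfl⟩
  have hw : ∀ x, x * w = w * x := fun x => Subtype.ext (mem_centralizer_singleton_iff.1 x.2)
  have h := H49.XS_of_mem hQ (z := w) (hc fun x _ => hw x)
    (fun e => (H49.orderOf_two_iff.1 hz).1 (congrArg Subtype.val e)) fun x _ => hw x
  have k : ∀ x : centralizer ({z} : Set K), x = 1 ∨ x = w → (x : K) ∈ zpowers z := by
    rintro _ (rfl | rfl)
    exacts [one_mem _, mem_zpowers _]
  refine ⟨hz, h.isPGroup, fun x hx => k _ (h.sq hx), fun x hx h1 _ => k _ (h.cent x hx h1), hc, ?_⟩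
  by_contra hn
  push Not at hn
  refine hp fun g => ?_
  obtain ⟨k, m, hm, e⟩ := Nat.exists_eq_two_pow_mul_odd (orderOf_pos g).ne'
  refine ⟨k, by_contra fun h1 => hn _ h1 (hm.of_dvd_nat (orderOf_dvd_of_pow_eq_one ?_))⟩
  rw [← pow_mul, ← e, pow_orderOf_eq_one]

theorem good_of (T : Tools) {K : Type} [Group K] [Finite K] [IsSimpleGroup K] {z : K}
    (hz : orderOf z = 2) {Q : Subgroup (centralizer ({z} : Set K))} [Q.Normal]
    (hQ : IsExtraspecial 2 Q) (hc : centralizer (Q : Set (centralizer ({z} : Set K))) ≤ Q)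
    {L : Type*} [Group L] (e : centralizer ({z} : Set K) ⧸ Q ≃* L) (h1 : NAS L) (h2 : NSC L) :
    Good K := by
  have h3 := h1.congr e
  have := h3.1
  refine T.lx K ⟨inferInstance, fun h => ?_⟩ z Q
    (lxd_of hz hQ hc fun h => H58.not_isPGroup h3.2 (h.to_quotient Q)) ?_
    (nsc2_of h3 (h2.congr e))
  · obtain ⟨_, h4⟩ := H49.exists_XS hQ
    obtain ⟨x, -, y, -, h5⟩ := h4.nonab
    exact h5 (Subtype.ext (h.1.1 _ _))
  · by_contra h
    exact h3.2 ⟨⟨IsSimpleGroup.comm_iff_isSolvable.mpr (S0205.result (Nat.not_even_iff_odd.mp h))⟩⟩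

theorem co1 : Co1Stmt := fun T => by
  have := H48.simple_Co1
  obtain ⟨z, hz, Q, _, h1, h2, -, ⟨e⟩, -⟩ := S5388.result
  exact good_of T hz h2 (h1 ▸ S1265.result) e T.sm2.1.1 T.sm2.1.2

open H43 H43.Co2Z in
theorem co2 : Co2Stmt := fun T => by
  have := H48.simple_Co2
  have : Finite Spor.Co2 := Finite.of_equiv _ Co2M.equiv.symm.toEquiv
  obtain ⟨π, hs, hk, -⟩ := exists_pi
  let e := (H42.centEquiv Co2M.equiv.symm ⟨_, cz_mem⟩).symm.trans ((H42.centSubEquiv _ _).trans
    (MulEquiv.subgroupCongr cz_eq))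
  have h1 : ((π.comp e.toMonoidHom).ker).map ((grp 2300 cz_K).subtype.comp e.toMonoidHom) =
      grp 2300 Q := by
    rw [← map_map, ← MonoidHom.comap_ker, map_comap_eq_self_of_surjective e.surjective, hk,
      map_subgroupOf_eq_of_le Q_le]
  have hi : Function.Injective ((grp 2300 cz_K).subtype.comp e.toMonoidHom) :=
    Subtype.val_injective.comp e.injective
  refine good_of T (z := Co2M.equiv.symm ⟨_, cz_mem⟩) ?_
    ((H49.isExtraspecial_map_iff hi).1 (h1 ▸ xs.isExtraspecial)) (fun x hx => ?_)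
    (QuotientGroup.quotientKerEquivOfSurjective _ (hs.comp e.surjective)) T.sm2.2.2.1.1
    T.sm2.2.2.1.2.1
  · rw [MulEquiv.orderOf_eq, ← Subgroup.orderOf_coe]
    exact ord_z
  · refine (mem_map_iff_mem hi).1 (h1.ge (grp_cons_le z_Q (grp_nil_le _)
      (cQ_eq.le ⟨cz_le (e x).2, fun y hy => ?_⟩)))
    obtain ⟨w, hw, rfl⟩ := h1.ge hy
    exact (map_mul ((grp 2300 cz_K).subtype.comp e.toMonoidHom) w x).symm.trans
      ((congrArg _ (hx w hw)).trans (map_mul _ x w))

end Cfsg.Agent.H38.FkCo
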