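import Cfsg.Agent.H38.E6If
import Cfsg.Agent.H49.Sing
import Cfsg.Agent.H49.Simp

/-!
# Collinear pairs of 2-central involutions with `|Q| = 2²¹`, `|Q ∩ Q'| = 2¹¹`
-/

set_option autoImplicit false

namespace Cfsg.Agent.H38.E6

open Subgroup H49 H98

variable {G : Type*} [Group G]

/-- `O₂(C(x))` -/
def Qx (x : G) : Subgroup G := O2C x

theorem cj_Qx (z g : G) : cj (Qx z) g = Qx (g * z * g⁻¹) := cj_O2C z g

theorem conj_mem_Qx {x z : G} (g : G) (h : x ∈ Qx z) : g * x * g⁻¹ ∈ Qx (g * z * g⁻¹) :=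
  cj_Qx z g ▸ conj_mem_cj g h

theorem conj_mem_Qx' {x z g a b : G} (h : x ∈ Qx z) (h1 : g * x * g⁻¹ = a) (h2 : g * z * g⁻¹ = b) :
    a ∈ Qx b := h1 ▸ h2 ▸ conj_mem_Qx g h

theorem mcs {a b : G} : a ∈ centralizer ({b} : Set G) ↔ a * b = b * a :=
  mem_centralizer_singleton_iff

theorem il {A B : Subgroup G} {a : G} (h : a ∈ A ⊓ B) : a ∈ A := h.1

theorem ir {A B : Subgroup G} {a : G} (h : a ∈ A ⊓ B) : a ∈ B := h.2

theorem conj_eq_of_comm {a b : G} (h : a * b = b * a) : a * b * a⁻¹ = b := by rw [h]; group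

theorem comm_of_conj_eq {a b : G} (h : a * b * a⁻¹ = b) : a * b = b * a :=
  mul_inv_eq_iff_eq_mul.1 h

theorem comm_conj {a b : G} (g : G) (h : a * b = b * a) :
    g * a * g⁻¹ * (g * b * g⁻¹) = g * b * g⁻¹ * (g * a * g⁻¹) := by
  calc g * a * g⁻¹ * (g * b * g⁻¹) = g * (a * b) * g⁻¹ := by group
    _ = _ := by rw [h]; group

theorem comm_of_conj {a b : G} (g : G)
    (h : g * a * g⁻¹ * (g * b * g⁻¹) = g * b * g⁻¹ * (g * a * g⁻¹)) : a * b = b * a := by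
  have := comm_conj g⁻¹ h
  simpa [mul_assoc] using this

theorem comm_inv {a b : G} (h : a * b = b * a) : a⁻¹ * b = b * a⁻¹ :=
  (Commute.inv_left (show Commute a b from h))

theorem comm_mul {a b c : G} (h : a * c = c * a) (h' : b * c = c * b) : a * b * c = c * (a * b) :=
  (Commute.mul_left (show Commute a c from h) h')

theorem inv_eq_self {a : G} (h : a * a = 1) : a⁻¹ = a := inv_eq_of_mul_eq_one_right h

theorem conj_conj_inv {g a b : G} (h : g * a * g⁻¹ = b) : g⁻¹ * b * g⁻¹⁻¹ = a := by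
  rw [← h]; group

theorem card_le_of_comm [Finite G] {Q A : Subgroup G} {z : G} (h : XS Q z)
    (hQ : Nat.card Q = 2 ^ 21) (hA : A ≤ Q) (hz : z ∈ A) (hc : ∀ a ∈ A, ∀ b ∈ A, a * b = b * a) :
    Nat.card A ≤ 2 ^ 11 := by
  have h1 := h.card_mul_card_centralizer_of_mem hA hz
  have h2 : Nat.card A ≤ Nat.card ↥(Q ⊓ centralizer (A : Set G)) :=
    card_le_of_le fun a ha => ⟨hA ha, fun b hb => hc b hb a ha⟩
  rw [hQ] at h1
  by_contra hlt
  push Not at hlt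
  have := Nat.mul_lt_mul'' hlt (hlt.trans_le h2)
  omega

theorem card_mul_card_inf_le [Finite G] {A B C : Subgroup G} (hA : A ≤ C) (hB : B ≤ C) :
    Nat.card A * Nat.card B ≤ Nat.card C * Nat.card ↥(A ⊓ B) := by
  have h1 := XS.card_mul_relIndex' B A
  have h2 := XS.card_mul_relIndex' B C
  have h3 : B.relIndex A ≤ B.relIndex C :=
    relIndex_le_of_le_right hA (index_ne_zero_of_finite (H := B.subgroupOf C))
  rw [inf_eq_right.2 hB] at h2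
  calc Nat.card A * Nat.card B = Nat.card ↥(A ⊓ B) * B.relIndex A * Nat.card B := by rw [h1]
    _ ≤ Nat.card ↥(A ⊓ B) * B.relIndex C * Nat.card B := by gcongr
    _ = _ := by rw [← h2]; ring

theorem conj_of_not_dvd [Finite G] {p : ℕ} [Fact p.Prime] {N : Subgroup G}
    (hN : ¬ p ∣ Nat.card N) {a b : G} (ha : ∀ n ∈ N, a⁻¹ * n * a ∈ N) (hb : b * a⁻¹ ∈ N)
    (ap : a ^ p = 1) (bp : b ^ p = 1) : ∃ n ∈ N, n * a * n⁻¹ = b := by
  classical
  have := Fintype.ofFinite N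
  have hm : ∀ n : N, b⁻¹ * n * a ∈ N := fun n => by
    have := ha _ (mul_mem (inv_mem hb) n.2)
    simpa [mul_assoc] using this
  let σ : Equiv.Perm N := Equiv.ofBijective (fun n => ⟨_, hm n⟩)
    (Finite.injective_iff_bijective.1 fun n n' e =>
      Subtype.ext (by simpa using congrArg Subtype.val e))
  have hσ : ∀ (k : ℕ) (n : N), ((σ ^ k) n : G) = b⁻¹ ^ k * n * a ^ k := by
    intro k
    induction k with
    | zero => simp
    | succ k ih =>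
      intro n
      rw [pow_succ', Equiv.Perm.mul_apply]
      change b⁻¹ * ((σ ^ k) n : G) * a = _
      rw [ih, pow_succ', pow_succ]; group
  obtain ⟨n, hn⟩ := Equiv.Perm.exists_fixed_point_of_prime (p := p) (n := 1) (σ := σ)
    (by rwa [← Nat.card_eq_fintype_card]) (by
      ext n; rw [pow_one, hσ, inv_pow, ap, bp]; simp)
  have e : b⁻¹ * n * a = n := congrArg Subtype.val hn
  refine ⟨n, n.2, ?_⟩
  calc (n : G) * a * (n : G)⁻¹ = b * (b⁻¹ * n * a) * (n : G)⁻¹ := by group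
    _ = b := by rw [e]; group

/-- `Q_z ∩ Q_x` -/
abbrev EE (z x : G) : Subgroup G := Qx z ⊓ Qx x
/-- `C_{Q_x}(z)` -/
abbrev YY (z x : G) : Subgroup G := Qx x ⊓ centralizer {z}
/-- `O₂(⟨Q_z, Q_x⟩)` -/
abbrev RR (z x : G) : Subgroup G := YY z x ⊔ YY x z
/-- `⟨z, x⟩` -/
abbrev VV (z x : G) : Subgroup G := closure {z, x}

theorem pair_conj {z x : G} (h : Pair (Qx z) (Qx x) z x) (g : G) :
    Pair (Qx (g * z * g⁻¹)) (Qx (g * x * g⁻¹)) (g * z * g⁻¹) (g * x * g⁻¹) := by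
  refine ⟨cj_Qx z g ▸ h.hQ.cj g, ?_, conj_mem_Qx g h.xQ, conj_mem_Qx g h.zS,
    fun e => h.ne (by simpa using e)⟩
  obtain ⟨k, hk, -⟩ := h.conj
  refine ⟨g * k * g⁻¹, by rw [hk]; group, ?_⟩
  rw [cj_Qx, hk]; congr 1; group

theorem exists_swap {z x : G} (h : Pair (Qx z) (Qx x) z x) :
    ∃ k ∈ Qx z ⊔ Qx x, k * z * k⁻¹ = x ∧ k * x * k⁻¹ = z := by
  obtain ⟨q, hq, hqx⟩ := h.hQ.exists_conj_eq_mul_z h.xQ h.hS.ne h.ne
  obtain ⟨r, hr, hrz⟩ := h.hS.exists_conj_eq_mul_z h.zS h.hQ.ne h.ne.symm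
  have c1 : r * x * r⁻¹ = x := conj_eq_of_comm (h.hS.cen r hr)
  have c2 : q * z * q⁻¹ = z := conj_eq_of_comm (h.hQ.cen q hq)
  have hzx := h.four.comm
  have c3 : r * (x * z) * r⁻¹ = z := by
    calc r * (x * z) * r⁻¹ = (r * x * r⁻¹) * (r * z * r⁻¹) := by group
      _ = z := by rw [c1, hrz, hzx, ← mul_assoc, h.hS.zz, one_mul]
  have c4 : q * (z * x) * q⁻¹ = x := by
    calc q * (z * x) * q⁻¹ = (q * z * q⁻¹) * (q * x * q⁻¹) := by group
      _ = x := by rw [c2, hqx, ← mul_assoc, hzx, mul_assoc, h.hQ.zz, mul_one]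
  refine ⟨r * q * r, mul_mem (mul_mem (mem_sup_right hr) (mem_sup_left hq)) (mem_sup_right hr),
    ?_, ?_⟩
  · calc r * q * r * z * (r * q * r)⁻¹ = r * (q * (r * z * r⁻¹) * q⁻¹) * r⁻¹ := by group
      _ = x := by rw [hrz, c4, c1]
  · calc r * q * r * x * (r * q * r)⁻¹ = r * (q * (r * x * r⁻¹) * q⁻¹) * r⁻¹ := by group
      _ = z := by rw [c1, hqx, c3]

theorem conj_mem_YY {z x y g a b : G} (hy : y ∈ YY z x) (h1 : g * z * g⁻¹ = a)
    (h2 : g * x * g⁻¹ = b) : g * y * g⁻¹ ∈ YY a b :=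
  ⟨conj_mem_Qx' hy.1 rfl h2, mcs.2 (h1 ▸ comm_conj g (mcs.1 hy.2))⟩

theorem conj_mem_EE {z x y g a b : G} (hy : y ∈ EE z x) (h1 : g * z * g⁻¹ = a)
    (h2 : g * x * g⁻¹ = b) : g * y * g⁻¹ ∈ EE a b :=
  ⟨conj_mem_Qx' hy.1 rfl h1, conj_mem_Qx' hy.2 rfl h2⟩

/-- A collinear pair. -/
structure BP (z x : G) : Prop where
  pr : Pair (Qx z) (Qx x) z x
  cQ : Nat.card (Qx z) = 2 ^ 21
  cE : Nat.card (EE z x) = 2 ^ 11

namespace BP

variable {z x : G}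

theorem symm (h : BP z x) : BP x z :=
  ⟨h.pr.symm, h.pr.card_eq.trans h.cQ, by rw [EE, inf_comm]; exact h.cE⟩

theorem conj (h : BP z x) (g : G) : BP (g * z * g⁻¹) (g * x * g⁻¹) :=
  ⟨pair_conj h.pr g, by rw [← cj_Qx, card_cj, h.cQ], by
    rw [EE, ← cj_Qx, ← cj_Qx, ← cj_inf, card_cj, h.cE]⟩

theorem conj' (h : BP z x) {g a b : G} (h1 : g * z * g⁻¹ = a) (h2 : g * x * g⁻¹ = b) : BP a b :=
  h1 ▸ h2 ▸ h.conj g

theorem hQ (h : BP z x) : LX (Qx z) z := h.pr.hQ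
theorem hS (h : BP z x) : LX (Qx x) x := h.pr.hS
theorem zE (h : BP z x) : z ∈ EE z x := ⟨h.hQ.mem, h.pr.zS⟩
theorem xE (h : BP z x) : x ∈ EE z x := ⟨h.pr.xQ, h.hS.mem⟩
theorem zx (h : BP z x) : z * x = x * z := h.pr.four.comm
theorem mem_V (h : BP z x) {v : G} : v ∈ VV z x ↔ v = 1 ∨ v = z ∨ v = x ∨ v = z * x :=
  h.pr.four.mem_closure
theorem z_V (z x : G) : z ∈ VV z x := subset_closure (by simp)
theorem x_V (z x : G) : x ∈ VV z x := subset_closure (by simp)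

theorem cY [Finite G] (h : BP z x) : Nat.card (YY z x) = 2 ^ 20 := by
  have : 2 * Nat.card (YY z x) = _ := h.pr.card_B
  rw [h.cQ] at this
  omega

theorem Y_inf_Q (h : BP z x) : YY z x ⊓ Qx z = EE z x :=
  le_antisymm (le_inf inf_le_right (inf_le_left.trans inf_le_left)) (le_inf h.pr.E_le_B inf_le_left)

theorem mem_S_of_comm [Finite G] (h : BP z x) {q : G} (hq : q ∈ Qx z)
    (hc : ∀ e ∈ EE z x, e * q = q * e) : q ∈ Qx x := by
  have h1 := h.hQ.card_mul_card_centralizer_of_mem (U := EE z x) inf_le_left h.zE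
  rw [h.cE, h.cQ] at h1
  have h2 : EE z x = Qx z ⊓ centralizer (EE z x : Set G) :=
    eq_of_le_of_card_ge (fun e he => ⟨he.1, fun f hf => h.pr.E_comm hf he⟩) (by rw [h.cE]; omega)
  have : q ∈ EE z x := h2 ▸ ⟨hq, hc⟩
  exact this.2

theorem exists_E_not_comm [Finite G] (h : BP z x) {q : G} (hq : q ∈ Qx z) (hn : q ∉ Qx x) :
    ∃ e ∈ EE z x, e * q ≠ q * e := by
  by_contra hc
  push Not at hc
  exact hn (h.mem_S_of_comm hq hc)

theorem third [Finite G] (h : BP z x) {q y : G} (hq : q ∈ Qx z) (hqx : q * x ≠ x * q)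
    (hy : y ∈ Qx x) (hy' : q * y * q⁻¹ ∈ Qx x) : y ∈ Qx z := by
  have e1 : q⁻¹ * x * q⁻¹⁻¹ = x * z :=
    h.hQ.conj_of_ne (inv_mem hq) h.pr.xQ (fun e => hqx (by simpa using comm_inv e))
  have h8 : 8 < Nat.card (Qx x) := by rw [h.symm.cQ]; norm_num
  have hp := h.hS.pair h8 (g := q⁻¹) (e1 ▸ mul_mem h.hS.mem h.pr.zS)
    (by rw [e1]; exact h.hQ.mul_z_ne x)
  have hle : EE z x ≤ Qx x ⊓ cj (Qx x) q⁻¹ := le_inf inf_le_right (h.pr.E_le_cj (inv_mem hq))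
  have h1 := card_le_of_comm h.hS.toXS h.symm.cQ inf_le_left (hle h.xE)
    (fun a ha b hb => hp.E_comm ha hb)
  have h2 := eq_of_le_of_card_ge hle (by rw [h.cE]; exact h1)
  have : y ∈ EE z x := by
    rw [h2]
    exact ⟨hy, mem_cj.2 (by rwa [inv_inv])⟩
  exact this.1

theorem third' [Finite G] (h : BP z x) {q y : G} (hq : q ∈ Qx z) (hqx : q * x ≠ x * q)
    (hy : y ∈ Qx x) (hy' : q * y * q⁻¹ * y⁻¹ ∈ Qx x) : y ∈ Qx z :=
  h.third hq hqx hy (by simpa using mul_mem hy' hy)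

theorem R_conj_E (h : BP z x) {r e : G} (hr : r ∈ Qx z ⊔ Qx x) (he : e ∈ EE z x) :
    r * e * r⁻¹ ∈ EE z x := conj_mem_of_mem_normalizer (h.pr.X_le_normalizer_E hr) he

theorem CV_iff {c : G} : c ∈ centralizer (VV z x : Set G) ↔ c * z = z * c ∧ c * x = x * c :=
  Four.mem_centralizer

theorem E_le_R (h : BP z x) : EE z x ≤ RR z x := h.pr.E_le_B.trans le_sup_left

theorem R_comm_V (h : BP z x) {r v : G} (hr : r ∈ RR z x) (hv : v ∈ VV z x) : r * v = v * r :=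
  (h.pr.R_le_CV hr v hv).symm

theorem mem_Y_of_R (h : BP z x) {r : G} (hr : r ∈ RR z x) (hS : r ∈ Qx x) : r ∈ YY z x :=
  ⟨hS, mcs.2 (h.R_comm_V hr (z_V z x))⟩

end BP

/-- An element of order 3 of `⟨Q_z, Q_x⟩`. -/
structure Tri (z x g : G) : Prop where
  bp : BP z x
  mem : g ∈ Qx z ⊔ Qx x
  g3 : g * g * g = 1
  gz : g * z * g⁻¹ = x
  gx : g * x * g⁻¹ = z * x

namespace Tri

variable {z x g : G}

theorem gzx (h : Tri z x g) : g * (z * x) * g⁻¹ = z := by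
  calc g * (z * x) * g⁻¹ = (g * z * g⁻¹) * (g * x * g⁻¹) := by group
    _ = z := by rw [h.gz, h.gx, h.bp.zx, ← mul_assoc, h.bp.hS.zz, one_mul]

theorem eq_one_of_V (h : Tri z x g) {v : G} (hv : v ∈ VV z x) (hc : g * v = v * g) : v = 1 := by
  have e := conj_eq_of_comm hc
  rcases h.bp.mem_V.1 hv with rfl | rfl | rfl | rfl
  · rfl
  · exact absurd (h.gz.symm.trans e) h.bp.pr.ne
  · exact absurd (h.gx.symm.trans e) h.bp.pr.four.zx_ne_x
  · exact absurd (e.symm.trans h.gzx) h.bp.pr.four.zx_ne_z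

theorem conj (h : Tri z x g) {r : G} (hr : r ∈ RR z x) : Tri z x (r * g * r⁻¹) := by
  have hX := Pair.R_le_X _ _ _ _ hr
  have hV : ∀ v ∈ VV z x, ∀ v' ∈ VV z x, g * v * g⁻¹ = v' →
      r * g * r⁻¹ * v * (r * g * r⁻¹)⁻¹ = v' := fun v hv v' hv' e => by
    calc r * g * r⁻¹ * v * (r * g * r⁻¹)⁻¹ = r * (g * (r⁻¹ * v * r⁻¹⁻¹) * g⁻¹) * r⁻¹ := by group
      _ = v' := by rw [conj_eq_of_comm (h.bp.R_comm_V (inv_mem hr) hv), e,
        conj_eq_of_comm (h.bp.R_comm_V hr hv')]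
  refine ⟨h.bp, mul_mem (mul_mem hX h.mem) (inv_mem hX), ?_,
    hV _ (BP.z_V z x) _ (BP.x_V z x) h.gz,
    hV _ (BP.x_V z x) _ (mul_mem (BP.z_V z x) (BP.x_V z x)) h.gx⟩
  calc _ = r * (g * g * g) * r⁻¹ := by group
    _ = 1 := by rw [h.g3]; group

theorem mem_R_of_eq [Finite G] (hb : BP z x) {a b : G} (ha : a ∈ Qx z ⊔ Qx x) (hb' : b ∈ Qx z ⊔ Qx x)
    (h1 : a * z * a⁻¹ = b * z * b⁻¹) (h2 : a * x * a⁻¹ = b * x * b⁻¹) : b⁻¹ * a ∈ RR z x := by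
  rw [RR, ← hb.pr.X_inf_CV]
  refine mem_inf.2 ⟨mul_mem (inv_mem hb') ha, BP.CV_iff.2 ⟨comm_of_conj_eq ?_, comm_of_conj_eq ?_⟩⟩
  · calc _ = b⁻¹ * (a * z * a⁻¹) * b := by group
      _ = z := by rw [h1]; group
  · calc _ = b⁻¹ * (a * x * a⁻¹) * b := by group
      _ = x := by rw [h2]; group

/-- `g` is fixed point free on `R / E`. -/
theorem fpf [Finite G] (h : Tri z x g) {r : G} (hr : r ∈ RR z x)
    (hc : g * r * g⁻¹ * r⁻¹ ∈ EE z x) : r ∈ EE z x := by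
  have hb := h.bp
  obtain ⟨q, hq, hqx⟩ := hb.hQ.exists_conj_eq_mul_z hb.pr.xQ hb.hS.ne hb.pr.ne
  obtain ⟨y', hy', hyz⟩ := hb.hS.exists_conj_eq_mul_z hb.pr.zS hb.hQ.ne hb.pr.ne.symm
  have c1 : y' * x * y'⁻¹ = x := conj_eq_of_comm (hb.hS.cen y' hy')
  have c2 : q * z * q⁻¹ = z := conj_eq_of_comm (hb.hQ.cen q hq)
  have qx : q⁻¹ * x ≠ x * q⁻¹ := fun e => hb.hQ.mul_z_ne x (by
    rw [← hqx]; exact conj_eq_of_comm (by simpa using comm_inv e))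
  have yz : y' * z ≠ z * y' := fun e => hb.hS.mul_z_ne z (by rw [← hyz]; exact conj_eq_of_comm e)
  have hX : q * y' ∈ Qx z ⊔ Qx x := mul_mem (mem_sup_left hq) (mem_sup_right hy')
  have hr0 := mem_R_of_eq hb h.mem hX
    (by rw [h.gz]
        calc x = (z * z) * x := by rw [hb.hQ.zz, one_mul]
          _ = (q * z * q⁻¹) * (q * x * q⁻¹) := by rw [c2, hqx, mul_assoc, hb.zx]
          _ = q * (y' * z * y'⁻¹) * q⁻¹ := by rw [hyz]; group
          _ = _ := by group)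
    (by rw [h.gx]
        calc z * x = q * (y' * x * y'⁻¹) * q⁻¹ := by rw [c1, hqx, hb.zx]
          _ = _ := by group)
  set r0 := (q * y')⁻¹ * g with hr0d
  have eg : g = q * y' * r0 := by rw [hr0d]; group
  obtain ⟨rz, rx⟩ := BP.CV_iff.1 (hb.pr.R_le_CV hr)
  have e1 := hb.pr.R_commutator hr0 hr
  have hβ := hb.pr.symm.commutator_mem hy' rx rz
  have hα := hb.pr.commutator_mem (inv_mem hq) rz rx
  have key : (y' * r * y'⁻¹ * r⁻¹) * (q⁻¹ * r * q⁻¹⁻¹ * r⁻¹)⁻¹ ∈ EE z x := by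
    have : (y' * r * y'⁻¹ * r⁻¹) * (q⁻¹ * r * q⁻¹⁻¹ * r⁻¹)⁻¹ =
        (y' * (r0 * r * r0⁻¹ * r⁻¹)⁻¹ * y'⁻¹) * (q⁻¹ * (g * r * g⁻¹ * r⁻¹) * q⁻¹⁻¹) := by
      rw [eg]; group
    rw [this]
    exact mul_mem (hb.R_conj_E (mem_sup_right hy') (inv_mem e1))
      (hb.R_conj_E (mem_sup_left (inv_mem hq)) hc)
  have hβQ : y' * r * y'⁻¹ * r⁻¹ ∈ Qx z := by
    have := mul_mem (il key) (il hα)
    rwa [inv_mul_cancel_right] at this
  have hαS : q⁻¹ * r * q⁻¹⁻¹ * r⁻¹ ∈ Qx x := by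
    have := mul_mem (inv_mem (ir key)) (il hβ)
    rwa [mul_inv_rev, inv_inv, inv_mul_cancel_right] at this
  obtain ⟨y, hy, a, ha, rfl⟩ := hb.pr.mem_R.1 hr
  have hyQ : y ∈ Qx z := by
    refine hb.third (inv_mem hq) qx hy.1 ?_
    have : q⁻¹ * y * q⁻¹⁻¹ = (q⁻¹ * (y * a) * q⁻¹⁻¹ * (y * a)⁻¹) * y *
        (q⁻¹ * a * q⁻¹⁻¹ * a⁻¹)⁻¹ := by group
    rw [this]
    exact mul_mem (mul_mem hαS hy.1) (inv_mem ((zpowers_le.2 hb.pr.zS)
      (hb.hQ.commutator_mem (inv_mem hq) ha.1)))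
  exact ⟨mul_mem hyQ ha.1, hb.symm.third' hy' yz (mul_mem hyQ ha.1) hβQ⟩

theorem mem_E_of_comm [Finite G] (h : Tri z x g) {r : G} (hr : r ∈ RR z x) (hc : g * r = r * g) :
    r ∈ EE z x := h.fpf hr (by rw [hc]; simp)

/-- `E = V × C_E(g)` -/
theorem decomp (h : Tri z x g) {e : G} (he : e ∈ EE z x) :
    ∃ v ∈ VV z x, ∃ e0 ∈ EE z x, g * e0 = e0 * g ∧ e = v * e0 := by
  have hb := h.bp
  have h1 := hb.pr.commutator_X_E h.mem he
  have h2 := hb.pr.commutator_X_E (mul_mem h.mem h.mem) he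
  have m1 := hb.R_conj_E h.mem he
  have m2 := hb.R_conj_E (mul_mem h.mem h.mem) he
  refine ⟨((g * e * g⁻¹ * e⁻¹) * (g * g * e * (g * g)⁻¹ * e⁻¹))⁻¹, inv_mem (mul_mem h1 h2),
    e * (g * e * g⁻¹) * (g * g * e * (g * g)⁻¹), mul_mem (mul_mem he m1) m2, comm_of_conj_eq ?_, ?_⟩
  · calc g * (e * (g * e * g⁻¹) * (g * g * e * (g * g)⁻¹)) * g⁻¹
        = (g * e * g⁻¹) * (g * g * e * (g * g)⁻¹) * ((g * g * g) * e * (g * g * g)⁻¹) := by group
      _ = _ := by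
        rw [h.g3, one_mul, inv_one, mul_one, hb.pr.E_comm (mul_mem m1 m2) he, ← mul_assoc e]
  · generalize g * g * e * (g * g)⁻¹ = b at m2
    generalize g * e * g⁻¹ = a at m1
    have ee := hb.pr.E_sq he
    calc e = (a * e⁻¹ * (b * e⁻¹))⁻¹ * (a * e⁻¹ * b) := by group
      _ = _ := by rw [inv_eq_self ee, hb.pr.E_comm m1 he]

theorem not_mem_R (h : Tri z x g) : g ∉ RR z x := fun e =>
  h.bp.pr.ne (h.gz.symm.trans (conj_eq_of_comm (h.bp.R_comm_V e (BP.z_V z x))))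

/-- conjugacy of complements -/
theorem exists_conj [Finite G] (h : Tri z x g) {g' : G} (h3 : g' * g' * g' = 1)
    (hR : g' * g⁻¹ ∈ RR z x) : ∃ r ∈ RR z x, r * g * r⁻¹ = g' := by
  have : Fact (Nat.Prime 3) := ⟨Nat.prime_three⟩
  have : Fact (Nat.Prime 2) := ⟨Nat.prime_two⟩
  refine conj_of_not_dvd (p := 3) (fun hd => ?_) (fun n hn => ?_) hR
    (by rw [← h.g3, pow_three, mul_assoc]) (by rw [← h3, pow_three, mul_assoc])
  · obtain ⟨n, hn⟩ := IsPGroup.iff_card.1 h.bp.pr.isPGroup_R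
    rw [RR, hn] at hd
    exact absurd (Nat.Prime.dvd_of_dvd_pow Nat.prime_three hd) (by norm_num)
  · have := conj_mem_of_mem_normalizer (h.bp.pr.X_le_normalizer_R (inv_mem h.mem)) hn
    rwa [inv_inv] at this

/-- `C(V) = R C_{C(V)}(g)` -/
theorem frattini [Finite G] (h : Tri z x g) {c : G} (hz : c * z = z * c) (hx : c * x = x * c) :
    ∃ r ∈ RR z x, g * (r⁻¹ * c) = r⁻¹ * c * g := by
  have m := h.bp.pr.commutator_X_CV h.mem (BP.CV_iff.2 ⟨hz, hx⟩)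
  obtain ⟨r, hr, e⟩ := h.exists_conj (g' := c * g * c⁻¹)
    (by calc _ = c * (g * g * g) * c⁻¹ := by group
          _ = 1 := by rw [h.g3]; group)
    (by simpa [mul_assoc] using inv_mem m)
  refine ⟨r, hr, ?_⟩
  calc g * (r⁻¹ * c) = r⁻¹ * (r * g * r⁻¹) * c := by group
    _ = _ := by rw [e]; group

end Tri

theorem BP.exists_tri [Finite G] {z x : G} (hb : BP z x) : ∃ g, Tri z x g := by
  obtain ⟨q, hq, hqx⟩ := hb.hQ.exists_conj_eq_mul_z hb.pr.xQ hb.hS.ne hb.pr.ne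
  obtain ⟨y', hy', hyz⟩ := hb.hS.exists_conj_eq_mul_z hb.pr.zS hb.hQ.ne hb.pr.ne.symm
  have c1 : y' * x * y'⁻¹ = x := conj_eq_of_comm (hb.hS.cen y' hy')
  have c2 : q * z * q⁻¹ = z := conj_eq_of_comm (hb.hQ.cen q hq)
  have hX : q * y' ∈ Qx z ⊔ Qx x := mul_mem (mem_sup_left hq) (mem_sup_right hy')
  set g := q * y' with hg
  have gz : g * z * g⁻¹ = x := by
    calc g * z * g⁻¹ = q * (y' * z * y'⁻¹) * q⁻¹ := by rw [hg]; group
      _ = (q * z * q⁻¹) * (q * x * q⁻¹) := by rw [hyz]; group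
      _ = x := by rw [c2, hqx, ← hb.zx, ← mul_assoc, hb.hQ.zz, one_mul]
  have gx : g * x * g⁻¹ = z * x := by
    calc g * x * g⁻¹ = q * (y' * x * y'⁻¹) * q⁻¹ := by rw [hg]; group
      _ = _ := by rw [c1, hqx, hb.zx]
  have gzx : g * (z * x) * g⁻¹ = z := by
    calc g * (z * x) * g⁻¹ = (g * z * g⁻¹) * (g * x * g⁻¹) := by group
      _ = z := by rw [gz, gx, hb.zx, ← mul_assoc, hb.hS.zz, one_mul]
  clear_value g
  have h3 : g * g * g ∈ RR z x := by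
    have := Tri.mem_R_of_eq hb (mul_mem (mul_mem hX hX) hX) (one_mem _)
      (by calc g * g * g * z * (g * g * g)⁻¹ = g * (g * (g * z * g⁻¹) * g⁻¹) * g⁻¹ := by group
            _ = _ := by rw [gz, gx, gzx]; group)
      (by calc g * g * g * x * (g * g * g)⁻¹ = g * (g * (g * x * g⁻¹) * g⁻¹) * g⁻¹ := by group
            _ = _ := by rw [gx, gzx, gz]; group)
    simpa using this
  have h12 := hb.pr.E_sq (hb.pr.R_sq h3)
  have hV : ∀ v ∈ VV z x, g * (g * g * g) * v * (g * (g * g * g))⁻¹ = g * v * g⁻¹ := fun v hv => by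
    calc _ = g * (g * g * g * v * (g * g * g)⁻¹) * g⁻¹ := by group
      _ = _ := by rw [conj_eq_of_comm (hb.R_comm_V h3 hv)]
  refine ⟨g * (g * g * g), hb, mul_mem hX (mul_mem (mul_mem hX hX) hX), ?_,
    (hV _ (BP.z_V z x)).trans gz, (hV _ (BP.x_V z x)).trans gx⟩
  rw [← h12]; simp only [mul_assoc]

end Cfsg.Agent.H38.E6
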