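import Cfsg.Agent.H38.E6A

/-!
# The points of `O₂(C(z)) / ⟨z⟩`
-/

set_option autoImplicit false

namespace Cfsg.Agent.H38.E6

open Subgroup H49 H98
open scoped commutatorElement

universe u

theorem card_le_two_mul {G : Type*} [Group G] [Finite G] {A B : Subgroup G} (hle : A ≤ B)
    (h : ∀ a ∈ B, ∀ b ∈ B, a ∉ A → b ∉ A → a * b ∈ A) : Nat.card B ≤ 2 * Nat.card A := by
  have h1 := XS.card_mul_relIndex' A B
  rw [inf_eq_right.2 hle] at h1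
  have h2 : A.relIndex B ∣ 2 := by
    rw [relIndex, index_dvd_two_iff]
    by_cases hc : B ≤ A
    · exact ⟨1, fun b => Or.inr (hc b.2)⟩
    · obtain ⟨a, ha, ha'⟩ := SetLike.not_le_iff_exists.1 hc
      refine ⟨⟨a, ha⟩, fun b => ?_⟩
      by_cases hb : (b : G) ∈ A
      · exact Or.inr hb
      · exact Or.inl (h b b.2 a ha hb ha')
  have := Nat.le_of_dvd two_pos h2
  rw [← h1, mul_comm]
  gcongr

theorem mul_mem_of_relIndex {G : Type*} [Group G] [Finite G] {A B : Subgroup G}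
    (h : A.relIndex B ≤ 2) {a b : G} (ha : a ∈ B) (hb : b ∈ B) (ha' : a ∉ A) (hb' : b ∉ A) :
    a * b ∈ A := by
  have h0 : A.relIndex B ≠ 0 := index_ne_zero_of_finite (H := A.subgroupOf B)
  have h1 : A.relIndex B ≠ 1 := fun e => ha' (relIndex_eq_one.1 e ha)
  have h2 : (A.subgroupOf B).index = 2 := by rw [← relIndex]; omega
  exact (mul_mem_iff_of_index_two h2 (a := ⟨a, ha⟩) (b := ⟨b, hb⟩)).2 ⟨fun e => absurd e ha',
    fun e => absurd e hb'⟩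

theorem mul_mem_of_card {G : Type*} [Group G] [Finite G] {A B : Subgroup G} (hle : A ≤ B)
    (h : Nat.card B ≤ 2 * Nat.card A) {a b : G} (ha : a ∈ B) (hb : b ∈ B) (ha' : a ∉ A)
    (hb' : b ∉ A) : a * b ∈ A := by
  refine mul_mem_of_relIndex ?_ ha hb ha' hb'
  have h1 := XS.card_mul_relIndex' A B
  rw [inf_eq_right.2 hle] at h1
  rw [← h1, mul_comm 2] at h
  exact Nat.le_of_mul_le_mul_left h Nat.card_pos

theorem conj_mul_comm {G : Type*} [Group G] {a z : G} (h : a * z = z * a) (x : G) :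
    a * (x * z) * a⁻¹ = a * x * a⁻¹ * z := by
  rw [mul_assoc _ a⁻¹, comm_inv h]; group

/-- The hypotheses. -/
structure Ctx (G W : Type u) [Group G] [Group W] where
  z : G
  h : LX (Qx z) z
  card : Nat.card (Qx z) = 2 ^ 21
  π : centralizer ({z} : Set G) →* W
  surj : Function.Surjective π
  ker : ∀ c, π c = 1 ↔ (c : G) ∈ Qx z
  U : UD W

namespace Ctx

variable {G W : Type u} [Group G] [Group W] (S : Ctx G W)

/-- `c` is a lift of `w`. -/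
def Lf (c : G) (w : W) : Prop := ∃ h : c ∈ centralizer ({S.z} : Set G), S.π ⟨c, h⟩ = w

/-- conjugates of `z` -/
def D (x : G) : Prop := ∃ g : G, g * S.z * g⁻¹ = x

variable {S}

theorem Lf.comm {c : G} {w : W} (h : S.Lf c w) : c * S.z = S.z * c := mcs.1 h.1

theorem Lf.cz {c : G} {w : W} (h : S.Lf c w) : c * S.z * c⁻¹ = S.z := conj_eq_of_comm h.comm

theorem Lf.mul {a b : G} {v w : W} (h : S.Lf a v) (h' : S.Lf b w) : S.Lf (a * b) (v * w) := by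
  obtain ⟨h1, rfl⟩ := h
  obtain ⟨h2, rfl⟩ := h'
  exact ⟨mul_mem h1 h2, by rw [← map_mul]; rfl⟩

theorem Lf.inv {a : G} {v : W} (h : S.Lf a v) : S.Lf a⁻¹ v⁻¹ := by
  obtain ⟨h1, rfl⟩ := h
  exact ⟨inv_mem h1, by rw [← map_inv]; rfl⟩

theorem Lf.conj {a b : G} {v w : W} (h : S.Lf a v) (h' : S.Lf b w) :
    S.Lf (a * b * a⁻¹) (v * w * v⁻¹) := (h.mul h').mul h.inv

theorem Lf.uniq {a : G} {v w : W} (h : S.Lf a v) (h' : S.Lf a w) : v = w := by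
  obtain ⟨h1, rfl⟩ := h
  obtain ⟨h2, rfl⟩ := h'
  rfl

theorem lf_one {a : G} : S.Lf a 1 ↔ a ∈ Qx S.z :=
  ⟨fun ⟨h, e⟩ => (S.ker ⟨a, h⟩).1 e, fun h => ⟨S.h.le_centralizer h, (S.ker _).2 h⟩⟩

theorem Lf.pow {a : G} {v : W} (h : S.Lf a v) (n : ℕ) : S.Lf (a ^ n) (v ^ n) := by
  obtain ⟨h1, rfl⟩ := h
  exact ⟨pow_mem h1 n, by rw [← map_pow]; rfl⟩

theorem Lf.eq_one_iff {a : G} {v : W} (h : S.Lf a v) : v = 1 ↔ a ∈ Qx S.z :=
  ⟨fun e => lf_one.1 (e ▸ h), fun e => h.uniq (lf_one.2 e)⟩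

theorem Lf.inv_mul_mem {a b : G} {v : W} (h : S.Lf a v) (h' : S.Lf b v) : a⁻¹ * b ∈ Qx S.z :=
  (h.inv.mul h').eq_one_iff.1 (inv_mul_cancel v)

theorem Lf.mul_inv_mem {a b : G} {v : W} (h : S.Lf a v) (h' : S.Lf b v) : a * b⁻¹ ∈ Qx S.z :=
  (h.mul h'.inv).eq_one_iff.1 (mul_inv_cancel v)

theorem Lf.mul_Q {a q : G} {v : W} (h : S.Lf a v) (hq : q ∈ Qx S.z) : S.Lf (a * q) v := by
  simpa using h.mul (lf_one.2 hq)

theorem Lf.Q_mul {a q : G} {v : W} (h : S.Lf a v) (hq : q ∈ Qx S.z) : S.Lf (q * a) v := by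
  simpa using (lf_one.2 hq).mul h

theorem Lf.conj_Q {c q : G} {w : W} (h : S.Lf c w) (hq : q ∈ Qx S.z) : c * q * c⁻¹ ∈ Qx S.z :=
  S.h.conj_mem h.comm hq

theorem exists_lf {c : G} (h : c * S.z = S.z * c) : ∃ w, S.Lf c w := ⟨_, mcs.2 h, rfl⟩

variable (S) in
theorem exists_lift (w : W) : ∃ c, S.Lf c w := by
  obtain ⟨c, rfl⟩ := S.surj w
  exact ⟨c, c.2, rfl⟩

theorem D.conj {x : G} (h : S.D x) (g : G) : S.D (g * x * g⁻¹) := by
  obtain ⟨k, rfl⟩ := h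
  exact ⟨g * k, by group⟩

theorem D.conj' {x y g : G} (h : S.D x) (e : g * x * g⁻¹ = y) : S.D y := e ▸ h.conj g

variable (S) in
theorem Dz : S.D S.z := ⟨1, by group⟩

theorem D.lx {x : G} (h : S.D x) : LX (Qx x) x := LX.O2C_conj S.h h

theorem D.sq {x : G} (h : S.D x) : x * x = 1 := h.lx.zz

theorem D.card {x : G} (h : S.D x) : Nat.card (Qx x) = 2 ^ 21 := by
  obtain ⟨g, rfl⟩ := h
  rw [← cj_Qx, card_cj, S.card]

theorem D.exists_conj {x y : G} (h : S.D x) (h' : S.D y) : ∃ g, g * x * g⁻¹ = y := by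
  obtain ⟨a, rfl⟩ := h
  obtain ⟨b, rfl⟩ := h'
  exact ⟨b * a⁻¹, by group⟩

theorem D.symm [Finite G] {x y : G} (h : S.D x) (h' : S.D y) (m : y ∈ Qx x) : x ∈ Qx y := by
  obtain ⟨g, rfl⟩ := h.exists_conj h'
  exact LX.mem_O2C_of_mem h.lx m

theorem D.pair [Finite G] {x y : G} (h : S.D x) (h' : S.D y) (m : y ∈ Qx x) (hne : y ≠ x) :
    Pair (Qx x) (Qx y) x y := LX.pair_O2C S.h h h' m (h.symm h' m) hne

theorem D.mul [Finite G] {x y : G} (h : S.D x) (h' : S.D y) (m : y ∈ Qx x) (hne : y ≠ x) :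
    S.D (y * x) := by
  obtain ⟨q, -, e⟩ := h.lx.exists_conj_eq_mul_z m h'.lx.ne hne
  exact h'.conj' e

variable (S) in
/-- the image in `W` -/
def img (A : Subgroup G) : Subgroup W := (A.subgroupOf (centralizer {S.z})).map S.π

theorem mem_img {A : Subgroup G} {w : W} : w ∈ S.img A ↔ ∃ a ∈ A, S.Lf a w :=
  ⟨fun ⟨a, ha, e⟩ => ⟨a, ha, a.2, e⟩, fun ⟨a, ha, h, e⟩ => ⟨⟨a, h⟩, ha, e⟩⟩

theorem Lf.mem_img {A : Subgroup G} {a : G} {w : W} (h : S.Lf a w) (ha : a ∈ A) : w ∈ S.img A :=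
  Ctx.mem_img.2 ⟨a, ha, h⟩

theorem img_mono {A B : Subgroup G} (h : A ≤ B) : S.img A ≤ S.img B := fun _ hw => by
  obtain ⟨a, ha, e⟩ := mem_img.1 hw
  exact e.mem_img (h ha)

theorem img_cj {A : Subgroup G} {c : G} {w : W} (h : S.Lf c w) :
    S.img (cj A c) = cj (S.img A) w := by
  ext v
  rw [mem_cj, mem_img, mem_img]
  constructor
  · rintro ⟨a, ha, e⟩
    exact ⟨_, mem_cj.1 ha, (h.inv.mul e).mul h⟩
  · rintro ⟨a, ha, e⟩
    exact ⟨_, conj_mem_cj c ha, by simpa [mul_assoc] using h.conj e⟩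

theorem card_img [Finite G] {A : Subgroup G} (hA : A ≤ centralizer {S.z}) :
    Nat.card (S.img A) * Nat.card ↥(A ⊓ Qx S.z) = Nat.card A := by
  let f : A →* W := S.π.comp (inclusion hA)
  have h1 : f.range = S.img A := by
    ext w
    rw [mem_img]
    exact ⟨fun ⟨a, e⟩ => ⟨a, a.2, hA a.2, e⟩, fun ⟨a, ha, _, e⟩ => ⟨⟨a, ha⟩, e⟩⟩
  have h2 : f.ker = (A ⊓ Qx S.z).subgroupOf A := by
    ext a
    rw [MonoidHom.mem_ker, mem_subgroupOf, mem_inf]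
    exact (S.ker (inclusion hA a)).trans ⟨fun h => ⟨a.2, h⟩, fun h => h.2⟩
  rw [← h1, ← index_ker, h2, ← Nat.card_congr (subgroupOfEquivOfLe (inf_le_left : A ⊓ Qx S.z ≤ A)).toEquiv,
    index_mul_card]

theorem finite [Finite G] (S : Ctx G W) : Finite W := Finite.of_surjective _ S.surj

variable (S) in
/-- `t` is a point whose group has image `A`. -/
structure Pt (t : G) (A : Subgroup W) : Prop where
  bp : BP S.z t
  d : S.D t
  im : S.img (YY S.z t) = A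

theorem cj_YY (a b g : G) : cj (YY a b) g = YY (g * a * g⁻¹) (g * b * g⁻¹) := by
  rw [YY, cj_inf, cj_Qx, cj_centralizer_singleton]

theorem Pt.mem {t : G} {A : Subgroup W} (h : S.Pt t A) : t ∈ Qx S.z := h.bp.pr.xQ

theorem Pt.conj {t c : G} {A : Subgroup W} {w : W} (h : S.Pt t A) (hc : S.Lf c w) :
    S.Pt (c * t * c⁻¹) (cj A w) :=
  ⟨h.bp.conj' hc.cz rfl, h.d.conj c, by rw [← h.im, ← img_cj hc, cj_YY, hc.cz]⟩

theorem Pt.mul_z {t : G} {A : Subgroup W} (h : S.Pt t A) : S.Pt (t * S.z) A := by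
  obtain ⟨q, hq, e⟩ := S.h.exists_conj_eq_mul_z h.mem h.bp.hS.ne h.bp.pr.ne
  have := h.conj (lf_one.2 hq)
  rwa [e, cj_one] at this

theorem Pt.lift {t : G} {A : Subgroup W} (h : S.Pt t A) {a : W} (ha : a ∈ A) :
    ∃ y ∈ YY S.z t, S.Lf y a := mem_img.1 (h.im ▸ ha)

theorem Pt.ex {t y : G} {A : Subgroup W} (h : S.Pt t A) (hy : y ∈ YY S.z t) :
    ∃ a ∈ A, S.Lf y a := by
  obtain ⟨a, ha⟩ := exists_lf (S := S) (mcs.1 hy.2)
  exact ⟨a, h.im ▸ ha.mem_img hy, ha⟩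

theorem Pt.mem_A {t y : G} {A : Subgroup W} {a : W} (h : S.Pt t A) (hy : y ∈ YY S.z t)
    (ha : S.Lf y a) : a ∈ A := h.im ▸ ha.mem_img hy

theorem Pt.mem_A' {t r : G} {A : Subgroup W} {a : W} (h : S.Pt t A) (hr : r ∈ RR S.z t)
    (ha : S.Lf r a) : a ∈ A := by
  obtain ⟨y, hy, x, hx, rfl⟩ := h.bp.pr.mem_R.1 hr
  exact h.mem_A hy (by simpa using ha.mul_Q (inv_mem (il hx)))

theorem Pt.sq {t : G} {A : Subgroup W} (h : S.Pt t A) {a : W} (ha : a ∈ A) : a * a = 1 := by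
  obtain ⟨y, hy, e⟩ := h.lift ha
  exact (e.mul e).eq_one_iff.2 (zpowers_le.2 h.mem (h.bp.hS.sq_mem hy.1))

theorem Pt.comm {t : G} {A : Subgroup W} (h : S.Pt t A) {a b : W} (ha : a ∈ A) (hb : b ∈ A) :
    a * b = b * a :=
  congrArg Subtype.val (mul_comm_of_sq (V := A) (fun v => Subtype.ext (h.sq v.2)) ⟨a, ha⟩ ⟨b, hb⟩)

theorem exists_pt [Finite G] {t : G} (hd : S.D t) (m : t ∈ Qx S.z) (hne : t ≠ S.z) :
    ∃ n ∈ S.U.N, S.Pt t (cj S.U.Rp n) := by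
  have hp := S.Dz.pair hd m hne
  have h1 := card_img (S := S) (A := YY S.z t) inf_le_right
  have h2 : YY S.z t ⊓ Qx S.z = EE S.z t :=
    le_antisymm (le_inf inf_le_right (inf_le_left.trans inf_le_left))
      (le_inf hp.E_le_B inf_le_left)
  have h3 : 2 * Nat.card (YY S.z t) = _ := hp.card_B
  have h4 := card_le_of_comm S.h.toXS S.card (A := EE S.z t) inf_le_left ⟨S.h.mem, hp.zS⟩
    (fun a ha b hb => hp.E_comm ha hb)
  rw [S.card] at h3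
  rw [h2] at h1
  obtain ⟨n, hn, e⟩ := S.U.big (S.img (YY S.z t)) (fun a ha => by
    obtain ⟨y, hy, e⟩ := mem_img.1 ha
    exact (e.mul e).eq_one_iff.2 (zpowers_le.2 m (hp.hS.sq_mem hy.1))) (by
      by_contra hc
      push Not at hc
      have := Nat.mul_lt_mul_of_lt_of_le hc h4 (by norm_num)
      omega)
  refine ⟨n, hn, ⟨hp, S.card, ?_⟩, hd, e⟩
  rw [e, card_cj, S.U.card_Rp] at h1
  omega

theorem D.bp [Finite G] {x y : G} (h : S.D x) (h' : S.D y) (m : y ∈ Qx x) (hne : y ≠ x) : BP x y := by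
  obtain ⟨g, rfl⟩ := h
  obtain ⟨n, -, hp⟩ := exists_pt (h'.conj g⁻¹) (conj_mem_Qx' (g := g⁻¹) m rfl (by group))
    (fun e => hne (by rw [← e]; group))
  exact hp.bp.conj' rfl (by group)

theorem exists_conj_pt [Finite G] {t : G} (hd : S.D t) (m : t ∈ Qx S.z) (hne : t ≠ S.z) :
    ∃ n ∈ S.U.N, ∃ c, S.Lf c n ∧ S.Pt (c * t * c⁻¹) S.U.Rp := by
  obtain ⟨n, hn, hp⟩ := exists_pt hd m hne
  obtain ⟨c, hc⟩ := S.exists_lift n⁻¹
  have := hp.conj hc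
  rw [cj_inv_cj] at this
  exact ⟨_, inv_mem hn, c, hc, this⟩

variable (S) in
/-- elements of `C(z)` fixing `x` modulo `z` -/
def Fc (x : G) : Subgroup G where
  carrier := {c | c * S.z = S.z * c ∧ (c * x * c⁻¹ = x ∨ c * x * c⁻¹ = x * S.z)}
  one_mem' := ⟨by simp, Or.inl (by simp)⟩
  mul_mem' := by
    rintro a b ⟨ha, ha'⟩ ⟨hb, hb'⟩
    refine ⟨comm_mul ha hb, ?_⟩
    have e : a * b * x * (a * b)⁻¹ = a * (b * x * b⁻¹) * a⁻¹ := by group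
    have e2 : a * (x * S.z) * a⁻¹ = a * x * a⁻¹ * S.z := conj_mul_comm ha x
    rw [e]
    rcases hb' with h | h <;> rw [h]
    · exact ha'
    · rw [e2]
      rcases ha' with h | h <;> rw [h]
      · exact Or.inr rfl
      · left; rw [mul_assoc, S.h.zz, mul_one]
  inv_mem' := by
    rintro a ⟨ha, ha'⟩
    refine ⟨comm_inv ha, ?_⟩
    rcases ha' with h | h
    · exact Or.inl (conj_conj_inv h)
    · right
      calc a⁻¹ * x * a⁻¹⁻¹ = a⁻¹ * (x * S.z) * a⁻¹⁻¹ * (a⁻¹ * S.z * a⁻¹⁻¹) := by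
            rw [show a⁻¹ * (x * S.z) * a⁻¹⁻¹ * (a⁻¹ * S.z * a⁻¹⁻¹) =
              a⁻¹ * (x * (S.z * S.z)) * a⁻¹⁻¹ by group, S.h.zz, mul_one]
        _ = _ := by rw [conj_conj_inv h, conj_eq_of_comm (comm_inv ha)]

variable (S) in
/-- the stabiliser of `x ⟨z⟩` -/
def St (x : G) : Subgroup W := S.img (S.Fc x)

theorem Lf.mem_St {c x : G} {w : W} (h : S.Lf c w)
    (e : c * x * c⁻¹ = x ∨ c * x * c⁻¹ = x * S.z) : w ∈ S.St x := h.mem_img ⟨h.comm, e⟩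

theorem Lf.mem_St_of_comm {c x : G} {w : W} (h : S.Lf c w) (e : c * x = x * c) : w ∈ S.St x :=
  h.mem_St (Or.inl (conj_eq_of_comm e))

theorem Lf.of_St {c x : G} {w : W} (h : S.Lf c w) (hx : x ∈ Qx S.z) (hw : w ∈ S.St x) :
    c * x * c⁻¹ = x ∨ c * x * c⁻¹ = x * S.z := by
  obtain ⟨a, ha, e⟩ := Ctx.mem_img.1 hw
  have m := e.inv_mul_mem h
  have : a⁻¹ * c ∈ S.Fc x := ⟨S.h.cen _ m, S.h.conj m hx⟩
  simpa using (mul_mem ha this).2

theorem Lf.of_St' {c x : G} {w : W} (h : S.Lf c w) (hx : x ∈ Qx S.z) (hw : w ∈ S.St x) :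
    c * x * c⁻¹ * x⁻¹ ∈ zpowers S.z := by
  rcases h.of_St hx hw with e | e <;> rw [e]
  · simp
  · rw [S.h.cen x hx]; simp

theorem Lf.mem_St' {c x : G} {w : W} (h : S.Lf c w) (hx : x ∈ Qx S.z)
    (e : c * x * c⁻¹ * x⁻¹ ∈ zpowers S.z) : w ∈ S.St x := by
  apply h.mem_St
  rcases S.h.mem_Z.1 e with e | e
  · exact Or.inl (mul_inv_eq_one.1 e)
  · right; rw [S.h.cen x hx, ← e]; group

theorem St_conj {c x : G} {w v : W} (h : S.Lf c w) (hv : v ∈ S.St x) :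
    w * v * w⁻¹ ∈ S.St (c * x * c⁻¹) := by
  obtain ⟨a, ⟨-, ha⟩, e⟩ := Ctx.mem_img.1 hv
  apply (h.conj e).mem_St
  have : c * a * c⁻¹ * (c * x * c⁻¹) * (c * a * c⁻¹)⁻¹ = c * (a * x * a⁻¹) * c⁻¹ := by group
  rw [this]
  rcases ha with ha | ha <;> rw [ha]
  · exact Or.inl rfl
  · exact Or.inr (conj_mul_comm h.comm x)

theorem St_conj' {c x : G} {w v : W} (h : S.Lf c w) (hv : w⁻¹ * v * w ∈ S.St x) :
    v ∈ S.St (c * x * c⁻¹) := by simpa [mul_assoc] using St_conj h hv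

theorem St_mul {x y : G} {w : W} (hx : x ∈ Qx S.z) (hy : y ∈ Qx S.z) (h1 : w ∈ S.St x)
    (h2 : w ∈ S.St y) : w ∈ S.St (x * y) := by
  obtain ⟨c, hc⟩ := S.exists_lift w
  apply hc.mem_St' (mul_mem hx hy)
  have e : c * (x * y) * c⁻¹ * (x * y)⁻¹ =
      (c * x * c⁻¹ * x⁻¹) * (x * (c * y * c⁻¹ * y⁻¹) * x⁻¹) := by group
  rw [e]
  refine mul_mem (hc.of_St' hx h1) ?_
  rcases S.h.mem_Z.1 (hc.of_St' hy h2) with e | e <;> rw [e]
  · simp
  · rw [conj_eq_of_comm (S.h.cen x hx)]; exact mem_zpowers _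

theorem St_z (w : W) : w ∈ S.St S.z := by
  obtain ⟨c, hc⟩ := S.exists_lift w
  exact hc.mem_St_of_comm hc.comm

theorem St_mul_z {x : G} {w : W} (hx : x ∈ Qx S.z) (h1 : w ∈ S.St x) : w ∈ S.St (x * S.z) :=
  St_mul hx S.h.mem h1 (St_z w)

theorem exists_lift_comm {x : G} {w : W} (hx : x ∈ Qx S.z) (h1 : x ≠ 1) (hz : x ≠ S.z)
    (hw : w ∈ S.St x) : ∃ c, S.Lf c w ∧ c * x = x * c := by
  obtain ⟨c, hc⟩ := S.exists_lift w
  rcases hc.of_St hx hw with e | e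
  · exact ⟨c, hc, comm_of_conj_eq e⟩
  · obtain ⟨q, hq, e'⟩ := S.h.exists_conj_eq_mul_z hx h1 hz
    refine ⟨q⁻¹ * c, hc.Q_mul (inv_mem hq), comm_of_conj_eq ?_⟩
    calc _ = q⁻¹ * (c * x * c⁻¹) * q := by group
      _ = x := by rw [e, ← e']; group

theorem Pt.lift_comm {t : G} {A : Subgroup W} {w : W} (h : S.Pt t A) (hw : w ∈ S.St t) :
    ∃ c, S.Lf c w ∧ c * t = t * c := exists_lift_comm h.mem h.bp.hS.ne h.bp.pr.ne hw

theorem Pt.le_St {t : G} {A : Subgroup W} (h : S.Pt t A) : A ≤ S.St t := fun a ha => by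
  obtain ⟨y, hy, e⟩ := h.lift ha
  exact e.mem_St_of_comm (h.bp.hS.cen y hy.1)

theorem Pt.St_le {t : G} {A : Subgroup W} (h : S.Pt t A) : S.St t ≤ normalizer (A : Set W) :=
  fun w hw => by
  obtain ⟨c, hc, e⟩ := h.lift_comm hw
  have := (h.conj hc).im
  rw [conj_eq_of_comm e, h.im] at this
  exact cj_eq_iff.1 this.symm

variable (S) in
/-- the fixed points of `w` modulo `z` -/
def FF (w : W) : Subgroup G where
  carrier := {q | q ∈ Qx S.z ∧ w ∈ S.St q}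
  one_mem' := ⟨one_mem _, by
    obtain ⟨c, hc⟩ := S.exists_lift w
    exact hc.mem_St_of_comm (by simp)⟩
  mul_mem' := fun ha hb => ⟨mul_mem ha.1 hb.1, St_mul ha.1 hb.1 ha.2 hb.2⟩
  inv_mem' := by
    rintro a ⟨ha, ha'⟩
    refine ⟨inv_mem ha, ?_⟩
    have e : a⁻¹ = a * a * a := by
      have := S.h.pow_four ha
      exact inv_eq_of_mul_eq_one_right (by rw [← this]; simp [pow_succ, mul_assoc])
    rw [e]
    exact St_mul (mul_mem ha ha) ha (St_mul ha ha ha' ha') ha'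

theorem FF_le (w : W) : S.FF w ≤ Qx S.z := fun _ h => h.1

theorem card_FF_conj [Finite G] (w v : W) : Nat.card (S.FF v) ≤ Nat.card (S.FF (w * v * w⁻¹)) := by
  obtain ⟨c, hc⟩ := S.exists_lift w
  rw [← card_cj _ c]
  apply card_le_of_le
  rintro _ ⟨q, hq, rfl⟩
  exact ⟨hc.conj_Q hq.1, St_conj hc hq.2⟩

theorem not_small [Finite G] : ¬ ∀ a ∈ S.U.Rp, 2 ^ 19 ≤ Nat.card (S.FF a) := by
  intro H
  obtain ⟨g₁, g₂, g₃, g₄, a₁, h₁, a₂, h₂, a₃, h₃, a₄, h₄, ho⟩ := S.U.eleven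
  have k₁ := (H a₁ h₁).trans (card_FF_conj g₁ a₁)
  have k₂ := (H a₂ h₂).trans (card_FF_conj g₂ a₂)
  have k₃ := (H a₃ h₃).trans (card_FF_conj g₃ a₃)
  have k₄ := (H a₄ h₄).trans (card_FF_conj g₄ a₄)
  generalize g₁ * a₁ * g₁⁻¹ = b₁ at k₁ ho
  generalize g₂ * a₂ * g₂⁻¹ = b₂ at k₂ ho
  generalize g₃ * a₃ * g₃⁻¹ = b₃ at k₃ ho
  generalize g₄ * a₄ * g₄⁻¹ = b₄ at k₄ ho
  have key : ∀ (a b : W) (m n : ℕ), 2 ^ (m + 21) ≤ Nat.card (S.FF a) * n →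
      n ≤ Nat.card (S.FF b) → 2 ^ m ≤ Nat.card (S.FF (a * b)) := by
    intro a b m n h1 h2
    have h3 := card_mul_card_inf_le (FF_le (S := S) a) (FF_le (S := S) b)
    have h4 : Nat.card ↥(S.FF a ⊓ S.FF b) ≤ Nat.card (S.FF (a * b)) :=
      card_le_of_le fun q hq => ⟨hq.1.1, mul_mem hq.1.2 hq.2.2⟩
    rw [S.card] at h3
    have h5 : 2 ^ 21 * 2 ^ m ≤ 2 ^ 21 * Nat.card (S.FF (a * b)) := by
      calc 2 ^ 21 * 2 ^ m = 2 ^ (m + 21) := by ring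
        _ ≤ Nat.card (S.FF a) * Nat.card (S.FF b) := h1.trans (by gcongr)
        _ ≤ _ := h3.trans (by gcongr)
    exact Nat.le_of_mul_le_mul_left h5 (by norm_num)
  have l1 := key b₁ b₂ 17 _ (by omega) k₂
  have l2 := key (b₁ * b₂) b₃ 15 _ (by omega) k₃
  have l3 := key (b₁ * b₂ * b₃) b₄ 13 _ (by omega) k₄
  generalize b₁ * b₂ * b₃ * b₄ = b at ho l3
  obtain ⟨c, hc⟩ := S.exists_lift b
  have h11 : b ^ 11 = 1 := ho ▸ pow_orderOf_eq_one b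
  have h44 : c ^ 44 = 1 := by
    have := S.h.pow_four ((hc.pow 11).eq_one_iff.1 h11)
    rwa [← pow_mul] at this
  have hd : S.Lf (c ^ 12) b := by
    have := hc.pow 12
    rwa [pow_succ b, h11, one_mul] at this
  have hd11 : (c ^ 12) ^ 11 = 1 := by rw [← pow_mul, show 12 * 11 = 44 * 3 by norm_num, pow_mul, h44, one_pow]
  generalize c ^ 12 = d at hd hd11
  have hodd : Odd (orderOf d) := Odd.of_dvd_nat (by decide) (orderOf_dvd_of_pow_eq_one hd11)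
  have : Fact (Nat.Prime 11) := ⟨by norm_num⟩
  have : Fact (Nat.Prime 2) := ⟨Nat.prime_two⟩
  have hp : IsPGroup 11 (zpowers d) := fun y => ⟨1, Subtype.ext (by
    obtain ⟨_, n, rfl⟩ := y
    show (d ^ n) ^ 11 ^ 1 = 1
    rw [pow_one, ← zpow_natCast, ← zpow_mul, mul_comm, zpow_mul, zpow_natCast, hd11, one_zpow])⟩
  have hN : zpowers d ≤ normalizer (Qx S.z : Set G) := zpowers_le.2 (S.h.nz (mcs.2 hd.comm))
  let _ : MulAction (zpowers d) (Qx S.z) :=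
    MulAction.compHom _ ((Qx S.z).normalizerMonoidHom.comp (inclusion hN))
  have hm := hp.card_modEq_card_fixedPoints (Qx S.z)
  have hf : Nat.card (MulAction.fixedPoints (zpowers d) (Qx S.z)) = Nat.card (S.FF b) := by
    refine Nat.card_congr ⟨fun x => ⟨x.1, x.1.2, hd.mem_St (Or.inl
      (congrArg Subtype.val (x.2 ⟨d, mem_zpowers d⟩)))⟩, fun x => ⟨⟨x.1, x.2.1⟩, fun y =>
        Subtype.ext ?_⟩, fun _ => rfl, fun _ => rfl⟩
    have h1 := conj_eq_of_odd hodd S.h.zz hd.comm (hd.of_St x.2.1 x.2.2)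
    have h2 : zpowers d ≤ centralizer {x.1} := zpowers_le.2 (mcs.2 (comm_of_conj_eq h1))
    exact conj_eq_of_comm (mcs.1 (h2 y.2))
  obtain ⟨k, hk⟩ := IsPGroup.iff_card.1 (S.h.isPGroup.to_le (FF_le (S := S) b))
  have hle : Nat.card (S.FF b) ≤ 2 ^ 21 := S.card ▸ card_le_of_le (FF_le b)
  rw [hf, S.card, hk] at hm
  rw [hk] at l3 hle
  have i1 := (Nat.pow_le_pow_iff_right (by norm_num : 1 < 2)).1 l3
  have i2 := (Nat.pow_le_pow_iff_right (by norm_num : 1 < 2)).1 hle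
  have i3 : k = 21 := by interval_cases k <;> first | rfl | exact absurd hm (by decide)
  have he : S.FF b = Qx S.z := eq_of_le_of_card_ge (FF_le b) (by rw [hk, i3, S.card])
  have : d ∈ Qx S.z := S.h.mem_of_conj fun u hu => hd.of_St hu (he.ge hu).2
  rw [hd.eq_one_iff.2 this, orderOf_one] at ho
  exact absurd ho (by norm_num)

end Ctx

end Cfsg.Agent.H38.E6
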