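import Cfsg.Agent.H38.E6B

/-!
# Fixed points of `Rp`, opposite points
-/

set_option autoImplicit false

namespace Cfsg.Agent.H38.E6

open Subgroup H49 H98
open scoped commutatorElement

universe u

theorem braid_of_cube {G : Type*} [Group G] {a b : G} (ha : a * a = 1) (hb : b * b = 1)
    (h : a * b * (a * b) * (a * b) = 1) : a * b * a = b * a * b := by
  calc a * b * a = a * b * a * (b * (a * (b * b) * a) * b) := by
        rw [hb, mul_one, ha, mul_one, hb, mul_one]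
    _ = a * b * (a * b) * (a * b) * (b * a * b) := by group
    _ = _ := by rw [h, one_mul]

namespace UD

variable {W : Type u} [Group W] (U : UD W)

/-- the opposite radical -/
abbrev Rm : Subgroup W := cj U.Rp U.w

theorem w_inv : U.w⁻¹ = U.w := inv_eq_self U.ww
theorem ττ : U.τ * U.τ = 1 := U.Rp_sq _ U.τ_mem
theorem τm_mem : U.τm ∈ U.Rm := conj_mem_cj _ U.τ_mem
theorem τmτm : U.τm * U.τm = 1 := by
  calc U.τm * U.τm = U.w * (U.τ * U.τ) * U.w⁻¹ := by rw [τm]; group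
    _ = 1 := by rw [U.ττ]; group

theorem n1_eq : U.n1 = U.τm * U.τ * U.τm :=
  braid_of_cube U.ττ U.τmτm (by rw [← U.braid, pow_three, mul_assoc]; rfl)

theorem wτm : U.w * U.τm * U.w⁻¹ = U.τ := by
  calc U.w * U.τm * U.w⁻¹ = (U.w * U.w) * U.τ * (U.w * U.w)⁻¹ := by rw [τm]; group
    _ = _ := by rw [U.ww]; group

theorem wn1 : U.w * U.n1 * U.w⁻¹ = U.n1 := by
  calc U.w * U.n1 * U.w⁻¹ = U.τm * (U.w * U.τm * U.w⁻¹) * U.τm := by rw [n1, τm]; group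
    _ = _ := by rw [U.wτm, U.n1_eq]

theorem n1τm : U.n1 * U.τm * U.n1⁻¹ = U.τ := by
  calc U.n1 * U.τm * U.n1⁻¹ = U.τm * U.τ * (U.τm * U.τm) * (U.τm * U.τ * U.τm)⁻¹ := by
        rw [← U.n1_eq, U.n1_eq]; group
    _ = U.τm * U.τ * U.τm⁻¹ * U.τ⁻¹ * U.τm⁻¹ := by rw [U.τmτm]; group
    _ = U.n1 * U.τ * U.τm := by rw [inv_eq_self U.τmτm, inv_eq_self U.ττ, U.n1_eq]
    _ = U.τ * U.τm * (U.τ * U.τ) * U.τm := by rw [n1]; group
    _ = _ := by rw [U.ττ, mul_one, mul_assoc, U.τmτm, mul_one]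

theorem cj_Rm_w : cj U.Rm U.w = U.Rp := by rw [← cj_mul, U.ww, cj_one]

theorem Rm_le : U.Rm ≤ U.N := by
  rintro _ ⟨a, ha, rfl⟩
  exact U.normal.conj_mem _ (U.Rp_le ha) _

theorem n1_mem : U.n1 ∈ U.N :=
  mul_mem (mul_mem (U.Rp_le U.τ_mem) (U.Rm_le U.τm_mem)) (U.Rp_le U.τ_mem)

theorem comm_L : U.Rp ≤ ⁅U.Rp, U.L⁆ := U.comm_τ.trans (commutator_mono le_rfl inf_le_left)

theorem fix_L {y : W} (hy : y ∈ U.Rp) (h : ∀ l ∈ U.L, l * y = y * l) : y = 1 := by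
  rcases U.irr (zpowers y) (zpowers_le.2 hy) (fun l hl => by
    rw [← cj_eq_iff, cj_zpowers, conj_eq_of_comm (h l hl)]) with e | e
  · exact zpowers_eq_bot.1 e
  · by_contra h1
    have := card_zpowers_invol h1 (U.Rp_sq y hy)
    rw [e, U.card_Rp] at this
    exact absurd this (by norm_num)

theorem Rm_ne : U.Rm ≠ U.Rp := fun e => U.τ_ne (mem_bot.1 (U.disj ▸ ⟨U.τ_mem, e.ge U.τ_mem⟩))

end UD

/-- `k` swaps `z` and `t`. -/
structure Sw {G : Type*} [Group G] (z t k : G) : Prop where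
  mem : k ∈ Qx z ⊔ Qx t
  kz : k * z * k⁻¹ = t
  kt : k * t * k⁻¹ = z

theorem BP.sw {G : Type*} [Group G] {z t : G} (h : BP z t) : ∃ k, Sw z t k := by
  obtain ⟨k, h1, h2, h3⟩ := exists_swap h.pr
  exact ⟨k, h1, h2, h3⟩

theorem Sw.inv {G : Type*} [Group G] {z t k : G} (h : Sw z t k) : Sw z t k⁻¹ :=
  ⟨inv_mem h.mem, conj_conj_inv h.kt, conj_conj_inv h.kz⟩

theorem BP.mem_V_of_comm {G : Type*} [Group G] [Finite G] {z t x : G} (h : BP z t)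
    (hc : ∀ y ∈ YY z t, y * x = x * y) : x ∈ VV z t := by
  rw [VV, ← Pair.closure_comm, ← h.pr.symm.centralizer_A]
  exact hc

namespace Ctx

variable {G W : Type u} [Group G] [Group W] {S : Ctx G W} [Finite G]

theorem Pt.small_iff {t y : G} {A : Subgroup W} {a : W} (h : S.Pt t A) (hy : y ∈ YY S.z t)
    (ha : S.Lf y a) :
    2 ^ 19 ≤ Nat.card (S.FF a) ↔ ∀ q ∈ YY t S.z, y * q * y⁻¹ * q⁻¹ ∈ VV S.z t := by
  have hb := h.bp
  have cX := hb.symm.cY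
  have hZ : zpowers S.z ≤ VV S.z t := zpowers_le.2 (BP.z_V _ _)
  have split : ∀ f q : G, y * (f * q) * y⁻¹ * (f * q)⁻¹ =
      (y * f * y⁻¹ * f⁻¹) * (f * (y * q * y⁻¹ * q⁻¹) * f⁻¹) := fun f q => by group
  have cV : ∀ f ∈ YY t S.z, ∀ v ∈ VV S.z t, f * v * f⁻¹ = v := fun f hf v hv =>
    conj_eq_of_comm (hb.R_comm_V (mem_sup_right hf) hv)
  constructor
  · intro H q hq
    by_cases hyQ : y ∈ Qx S.z
    · exact hZ (S.h.commutator_mem hyQ hq.1)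
    obtain ⟨e, he, hne⟩ := hb.symm.exists_E_not_comm hy.1 hyQ
    have he' : e ∈ EE S.z t := ⟨he.2, he.1⟩
    have hye := hb.hS.commutator_eq_z hy.1 he.1 (Ne.symm hne)
    have hle : S.FF a ≤ YY t S.z := fun f hf => ⟨hf.1, mcs.2 (by
      by_contra hc
      refine hyQ (hb.third' hf.1 hc hy.1 ?_)
      have := inv_mem (zpowers_le.2 hb.pr.zS (ha.of_St' hf.1 hf.2))
      simpa [mul_assoc] using this)⟩
    by_cases hqF : q ∈ S.FF a
    · exact hZ (ha.of_St' hqF.1 hqF.2)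
    have heF : e ∉ S.FF a := fun m => by
      have := ha.of_St' m.1 m.2
      rw [hye, S.h.mem_Z] at this
      exact this.elim hb.hS.ne hb.pr.ne
    have m := mul_mem_of_card hle (by omega) hq (hb.pr.E_le_A he') hqF heF
    have e1 : q = q * e * e := by rw [mul_assoc, hb.pr.E_sq he', mul_one]
    rw [e1, split, hye, cV _ (hle m) _ (BP.x_V _ _)]
    exact mul_mem (hZ (ha.of_St' m.1 m.2)) (BP.x_V _ _)
  · intro H
    have := card_le_two_mul (A := YY t S.z ⊓ S.FF a) (B := YY t S.z) inf_le_left (by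
      intro p hp q hq hp' hq'
      have key : ∀ p ∈ YY t S.z, p ∉ YY t S.z ⊓ S.FF a →
          ∃ v ∈ zpowers S.z, y * p * y⁻¹ * p⁻¹ = v * t := by
        intro p hp hp'
        rcases hb.mem_V.1 (H p hp) with e | e | e | e
        · exact absurd ⟨hp, hp.1, ha.mem_St' hp.1 (e ▸ one_mem _)⟩ hp'
        · exact absurd ⟨hp, hp.1, ha.mem_St' hp.1 (e ▸ mem_zpowers _)⟩ hp'
        · exact ⟨1, one_mem _, by rw [e, one_mul]⟩
        · exact ⟨_, mem_zpowers _, e⟩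
      obtain ⟨v, hv, e1⟩ := key p hp hp'
      obtain ⟨v', hv', e2⟩ := key q hq hq'
      refine ⟨mul_mem hp hq, mul_mem (il hp) (il hq), ha.mem_St' (mul_mem (il hp) (il hq)) ?_⟩
      rw [split, cV p hp _ (H q hq), e1, e2, mul_assoc, ← mul_assoc t,
        hb.R_comm_V (hb.E_le_R hb.xE) (hZ hv'), mul_assoc, hb.hS.zz, mul_one]
      exact mul_mem hv hv')
    have h2 : Nat.card ↥(YY t S.z ⊓ S.FF a) ≤ Nat.card (S.FF a) := card_le_of_le inf_le_right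
    omega

theorem Pt.mem_V_Rp {t x : G} (h : S.Pt t S.U.Rp) (hx : x ∈ Qx S.z) (hs : S.U.Rp ≤ S.St x) :
    x ∈ VV S.z t := by
  have hb := h.bp
  have := S.finite
  have hc : ∀ y ∈ YY S.z t, y * x * y⁻¹ * x⁻¹ ∈ zpowers S.z := fun y hy => by
    obtain ⟨a, ha, e⟩ := h.ex hy
    exact e.of_St' hx (hs ha)
  by_cases h1 : x * t = t * x
  swap
  · have : YY S.z t ≤ EE S.z t := fun y hy => ⟨hb.third' hx h1 hy.1 (by
      simpa [mul_assoc] using inv_mem (zpowers_le.2 hb.pr.zS (hc y hy))), hy.1⟩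
    have := card_le_of_le this
    rw [hb.cY, hb.cE] at this
    omega
  by_cases h2 : x ∈ Qx t
  · refine hb.mem_V_of_comm fun y hy => ?_
    by_contra hne
    have := hc y hy
    rw [hb.hS.commutator_eq_z hy.1 h2 hne, S.h.mem_Z] at this
    exact this.elim hb.hS.ne hb.pr.ne
  exfalso
  obtain ⟨k, hk⟩ := hb.sw
  have hy0 : k * x * k⁻¹ ∈ YY S.z t := conj_mem_YY ⟨hx, mcs.2 h1⟩ hk.kt hk.kz
  obtain ⟨a0, ha0, e0⟩ := h.ex hy0
  let R1 := S.img (YY S.z t ⊓ commMod (YY t S.z) (VV S.z t))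
  have hR : ∀ a, a ∈ R1 ↔ a ∈ S.U.Rp ∧ 2 ^ 19 ≤ Nat.card (S.FF a) := by
    intro a
    constructor
    · intro ha
      obtain ⟨y, hy, e⟩ := mem_img.1 ha
      exact ⟨h.mem_A hy.1 e, (h.small_iff hy.1 e).2 hy.2.2⟩
    · rintro ⟨ha, H⟩
      obtain ⟨y, hy, e⟩ := h.lift ha
      exact e.mem_img ⟨hy, hb.pr.S_le_normalizer_V hy.1, (h.small_iff hy e).1 H⟩
  rcases S.U.irr R1 (fun a ha => ((hR a).1 ha).1) (fun l hl => mem_normalizer_of_conj_mem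
    fun a ha => (hR _).2 ⟨conj_mem_of_mem_normalizer (S.U.L_norm hl) ((hR a).1 ha).1,
      ((hR a).1 ha).2.trans (card_FF_conj l a)⟩) with e | e
  · have : a0 ∈ R1 := (hR a0).2 ⟨ha0, (h.small_iff hy0 e0).2 fun q hq => by
      have m := hc _ (conj_mem_YY hq hk.inv.kt hk.inv.kz)
      have m2 := conj_mem_cj k (inv_mem m)
      rw [cj_zpowers, hk.kz] at m2
      have := zpowers_le.2 (BP.x_V S.z t) m2
      simpa [mul_assoc] using this⟩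
    rw [e, mem_bot] at this
    exact h2 (conj_mem_Qx' (e0.eq_one_iff.1 this) (g := k⁻¹) (by group) hk.inv.kz)
  · exact not_small fun a ha => ((hR a).1 (e.ge ha)).2

theorem Pt.mem_V {t x : G} {A : Subgroup W} (h : S.Pt t A) (hx : x ∈ Qx S.z) (hs : A ≤ S.St x) :
    x ∈ VV S.z t := by
  obtain ⟨n, -, c, hc, hp⟩ := exists_conj_pt h.d h.mem h.bp.pr.ne
  have e := (h.conj hc).im.symm.trans hp.im
  have := hp.mem_V_Rp (hc.conj_Q hx) (fun a ha => St_conj' hc (hs (mem_cj.1 (e.ge ha))))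
  rw [h.bp.mem_V]
  rcases hp.bp.mem_V.1 this with e | e | e | e
  · left; simpa using e
  · right; left; rw [← hc.cz] at e; simpa using e
  · right; right; left; simpa using e
  · right; right; right
    rw [← hc.cz] at e
    calc x = c⁻¹ * (c * x * c⁻¹) * c := by group
      _ = _ := by rw [e]; group

theorem Pt.eq_or {t t' : G} {A : Subgroup W} (h : S.Pt t A) (h' : S.Pt t' A) :
    t' = t ∨ t' = t * S.z := by
  rcases h.bp.mem_V.1 (h.mem_V h'.mem h'.le_St) with e | e | e | e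
  · exact absurd e h'.bp.hS.ne
  · exact absurd e h'.bp.pr.ne
  · exact Or.inl e
  · exact Or.inr (e.trans h.bp.zx)

theorem Pt.norm_le {t : G} {A : Subgroup W} (h : S.Pt t A) : normalizer (A : Set W) ≤ S.St t :=
  fun w hw => by
  obtain ⟨c, hc⟩ := S.exists_lift w
  have := h.conj hc
  rw [cj_eq_iff.2 hw] at this
  exact hc.mem_St (h.eq_or this)

theorem Pt.exists_conj {t a : G} (h : S.Pt t S.U.Rp) (hd : S.D a) (m : a ∈ Qx S.z) (hne : a ≠ S.z) :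
    ∃ n ∈ S.U.N, ∃ c, S.Lf c n ∧ c * a * c⁻¹ = t := by
  obtain ⟨n, hn, c, hc, hp⟩ := exists_conj_pt hd m hne
  rcases h.eq_or hp with e | e
  · exact ⟨n, hn, c, hc, e⟩
  · obtain ⟨q, hq, e'⟩ := S.h.exists_conj_eq_mul_z h.mem h.bp.hS.ne h.bp.pr.ne
    refine ⟨n, hn, q⁻¹ * c, hc.Q_mul (inv_mem hq), ?_⟩
    calc _ = q⁻¹ * (c * a * c⁻¹) * q := by group
      _ = t := by rw [e, ← e']; group

omit [Finite G] in
theorem Pt.ph_ex {t k x : G} {A : Subgroup W} (h : S.Pt t A) (hk : Sw S.z t k) (hx : x ∈ YY t S.z) :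
    ∃ a ∈ A, S.Lf (k * x * k⁻¹) a := h.ex (conj_mem_YY hx hk.kt hk.kz)

omit [Finite G] in
theorem ph_one {t k x : G} {a : W} (hk : Sw S.z t k) (ha : S.Lf (k * x * k⁻¹) a) :
    a = 1 ↔ x ∈ Qx t :=
  ha.eq_one_iff.trans ⟨fun m => conj_mem_Qx' m (g := k⁻¹) (by group) hk.inv.kz,
    fun m => conj_mem_Qx' m rfl hk.kt⟩

omit [Finite G] in
theorem Pt.ph_conj {t k x c : G} {A : Subgroup W} {a l : W} (h : S.Pt t A) (hk : Sw S.z t k)
    (hx : x ∈ YY t S.z) (ha : S.Lf (k * x * k⁻¹) a) (hc : S.Lf c l) (ct : c * t = t * c) :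
    S.Lf (k * (c * x * c⁻¹) * k⁻¹) (l * a * l⁻¹) := by
  have hr := h.bp.pr.commutator_X_CV hk.mem (BP.CV_iff.2 ⟨hc.comm, ct⟩)
  obtain ⟨r, e⟩ := exists_lf (S := S) (h.bp.R_comm_V hr (BP.z_V _ _))
  have h1 := h.mem_A' hr e
  have h2 : l * a * l⁻¹ ∈ A := conj_mem_of_mem_normalizer (h.St_le (hc.mem_St_of_comm ct))
    (h.mem_A (conj_mem_YY hx hk.kt hk.kz) ha)
  have := (e.mul hc).conj ha
  rw [show r * l * a * (r * l)⁻¹ = r * (l * a * l⁻¹) * r⁻¹ by group, conj_eq_of_comm (h.comm h1 h2)]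
    at this
  convert this using 1
  group

omit [Finite G] in
theorem Pt.ph_comm {t k x : G} {A : Subgroup W} {a l : W} (h : S.Pt t A) (hk : Sw S.z t k)
    (hx : x ∈ YY t S.z) (ha : S.Lf (k * x * k⁻¹) a) (h1 : l ∈ S.St t) (h2 : l ∈ S.St x) :
    l * a = a * l := by
  obtain ⟨c, hc, ct⟩ := h.lift_comm h1
  have := h.ph_conj hk hx ha hc ct
  apply comm_of_conj_eq
  rcases hc.of_St hx.1 h2 with e | e <;> rw [e] at this
  · exact this.uniq ha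
  · refine this.uniq ?_
    have e2 : k * (x * S.z) * k⁻¹ = k * x * k⁻¹ * t := by rw [← hk.kz]; group
    rw [e2]
    exact ha.mul_Q h.mem

omit [Finite G] in
theorem Pt.comm_of_mem_img {t e y : G} {A : Subgroup W} {a : W} (h : S.Pt t A) (he : e ∈ EE S.z t)
    (hy : y ∈ YY S.z t) (ha : S.Lf y a) (m : a ∈ S.img (YY S.z t ⊓ centralizer {e})) :
    y * e = e * y := by
  obtain ⟨y', hy', e'⟩ := mem_img.1 m
  have : y'⁻¹ * y ∈ EE S.z t :=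
    mem_inf.2 ⟨e'.inv_mul_mem ha, mul_mem (inv_mem (il (il hy'))) (il hy)⟩
  have := comm_mul (mcs.1 hy'.2) (h.bp.pr.E_comm this he)
  rwa [mul_inv_cancel_left] at this

omit [Finite G] in
theorem Pt.commutator_le {t e : G} {A J : Subgroup W} (h : S.Pt t A) (he : e ∈ EE S.z t)
    (hJ : ∀ l ∈ J, ∃ c, S.Lf c l ∧ c * t = t * c ∧ c * e * c⁻¹ * e⁻¹ ∈ VV S.z t) :
    ⁅A, J⁆ ≤ S.img (YY S.z t ⊓ centralizer {e}) := by
  rw [Subgroup.commutator_le]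
  intro a ha l hl
  obtain ⟨y, hy, e1⟩ := h.lift ha
  obtain ⟨c, hc, ct, hv⟩ := hJ l hl
  have hy' : c * y⁻¹ * c⁻¹ ∈ YY S.z t := conj_mem_YY (inv_mem hy) hc.cz (conj_eq_of_comm ct)
  have key : c * y⁻¹ * c⁻¹ * e = e * (c * y⁻¹ * c⁻¹) ↔ y * e = e * y := by
    have h1 := h.bp.R_comm_V (mem_sup_left hy') hv
    constructor
    · intro H
      have := comm_mul h1.symm H.symm
      rw [inv_mul_cancel_right] at this
      simpa using (comm_inv (comm_of_conj c this).symm)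
    · intro H
      have := comm_mul (comm_inv h1.symm) (comm_conj c (comm_inv H)).symm
      rw [show (c * e * c⁻¹ * e⁻¹)⁻¹ * (c * e * c⁻¹) = e by group] at this
      exact this.symm
  have : S.Lf (y * (c * y⁻¹ * c⁻¹)) ⁅a, l⁆ := by
    have := e1.mul (hc.conj e1.inv)
    rwa [← mul_assoc a, ← mul_assoc a] at this
  refine this.mem_img ⟨mul_mem hy hy', mcs.2 ?_⟩
  by_cases H : y * e = e * y
  · exact comm_mul H (key.2 H)
  · exact h.bp.hS.mul_comm_of_ne_of_ne hy.1 hy'.1 he.2 H (fun H' => H (key.1 H'))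

theorem Pt.mem_V_of_fix {t e : G} {A J : Subgroup W} (h : S.Pt t A) (he : e ∈ EE S.z t)
    (hJ : ∀ l ∈ J, ∃ c, S.Lf c l ∧ c * t = t * c ∧ c * e * c⁻¹ * e⁻¹ ∈ VV S.z t)
    (hA : A ≤ ⁅A, J⁆) : e ∈ VV S.z t :=
  h.bp.mem_V_of_comm fun y hy => by
    obtain ⟨a, ha, e1⟩ := h.ex hy
    exact h.comm_of_mem_img he hy e1 (h.commutator_le he hJ (hA ha))

theorem Pt.mem_V_of_St {t e : G} {A J : Subgroup W} (h : S.Pt t A) (he : e ∈ EE S.z t)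
    (h1 : J ≤ S.St t) (h2 : J ≤ S.St e) (hA : A ≤ ⁅A, J⁆) : e ∈ VV S.z t :=
  h.mem_V_of_fix he (fun l hl => by
    obtain ⟨c, hc, ct⟩ := h.lift_comm (h1 hl)
    exact ⟨c, hc, ct, zpowers_le.2 (BP.z_V _ _) (hc.of_St' he.1 (h2 hl))⟩) hA

theorem Pt.ph_surj {t k b : G} {J : Subgroup G} (h : S.Pt t S.U.Rp) (hk : Sw S.z t k)
    (hJ : J ≤ YY t S.z) (hb : b ∈ J) (hb' : b ∉ Qx t)
    (hn : ∀ l ∈ S.U.L, ∃ c, S.Lf c l ∧ c * t = t * c ∧ ∀ x ∈ J, c * x * c⁻¹ ∈ J) :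
    S.img (cj J k) = S.U.Rp := by
  have := S.finite
  refine (S.U.irr _ (fun a ha => ?_) (fun l hl => mem_normalizer_of_conj_mem fun a ha => ?_)).resolve_left
    fun e => ?_
  · obtain ⟨_, ⟨x, hx, rfl⟩, e⟩ := mem_img.1 ha
    exact h.mem_A (conj_mem_YY (hJ hx) hk.kt hk.kz) e
  · obtain ⟨_, ⟨x, hx, rfl⟩, e⟩ := mem_img.1 ha
    obtain ⟨c, hc, ct, hc'⟩ := hn l hl
    exact (h.ph_conj hk (hJ hx) e hc ct).mem_img (conj_mem_cj k (hc' x hx))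
  · obtain ⟨a, -, ha⟩ := h.ph_ex hk (hJ hb)
    exact hb' ((ph_one hk ha).1 (mem_bot.1 (e ▸ ha.mem_img (conj_mem_cj k hb))))

theorem Pt.ph_surj' {t b x : G} {J : Subgroup G} (h : S.Pt t S.U.Rp)
    (hJ : J ≤ YY t S.z) (hb : b ∈ J) (hb' : b ∉ Qx t)
    (hn : ∀ l ∈ S.U.L, ∃ c, S.Lf c l ∧ c * t = t * c ∧ ∀ x ∈ J, c * x * c⁻¹ ∈ J)
    (hx : x ∈ YY t S.z) : ∃ b ∈ J, x * b⁻¹ ∈ EE S.z t := by
  obtain ⟨k, hk⟩ := h.bp.sw
  obtain ⟨a, ha, e⟩ := h.ph_ex hk hx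
  obtain ⟨_, ⟨y, hy, rfl⟩, e'⟩ := mem_img.1 ((h.ph_surj hk hJ hb hb' hn).ge ha)
  refine ⟨y, hy, mem_inf.2 ⟨mul_mem (il hx) (inv_mem (il (hJ hy))), ?_⟩⟩
  refine conj_mem_Qx' (e.mul_inv_mem e') (g := k⁻¹) ?_ hk.inv.kz
  simp [mul_assoc]

variable (S) in
/-- two opposite points -/
structure Op (t s : G) : Prop where
  pt : S.Pt t S.U.Rp
  ps : S.Pt s S.U.Rm

namespace Op

variable {t s : G}

theorem Lt (h : S.Op t s) : S.U.L ≤ S.St t := S.U.L_norm.trans h.pt.norm_le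
theorem Ls (h : S.Op t s) : S.U.L ≤ S.St s := S.U.L_norm'.trans h.ps.norm_le

theorem ne (h : S.Op t s) : s * t ≠ t * s := by
  intro hc
  obtain ⟨k, hk⟩ := h.pt.bp.sw
  have hs : s ∈ YY t S.z := ⟨h.ps.mem, mcs.2 hc⟩
  obtain ⟨a, ha, e⟩ := h.pt.ph_ex hk hs
  have h1 := (ph_one hk e).1 (S.U.fix_L ha fun l hl => h.pt.ph_comm hk hs e (h.Lt hl) (h.Ls hl))
  rcases h.pt.bp.mem_V.1 (h.pt.mem_V_of_St ⟨hs.1, h1⟩ h.Lt h.Ls S.U.comm_L) with e | e | e | e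
  · exact h.ps.bp.hS.ne e
  · exact h.ps.bp.pr.ne e
  · exact S.U.Rm_ne (h.ps.im.symm.trans (e ▸ h.pt.im))
  · rw [h.pt.bp.zx] at e
    exact S.U.Rm_ne (h.ps.im.symm.trans (e ▸ h.pt.mul_z.im))

theorem sts (h : S.Op t s) : s * t * s⁻¹ = t * S.z := S.h.conj_of_ne h.ps.mem h.pt.mem h.ne

theorem tst (h : S.Op t s) : t * s * t⁻¹ = s * S.z := S.h.conj_of_ne h.pt.mem h.ps.mem h.ne.symm

omit [Finite G] in
theorem ss (h : S.Op t s) : s * s = 1 := h.ps.d.sq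

omit [Finite G] in
theorem mul_z (h : S.Op t s) : S.Op t (s * S.z) := ⟨h.pt, h.ps.mul_z⟩

theorem lift (h : S.Op t s) {l : W} (h1 : l ∈ S.St t) (h2 : l ∈ S.St s) :
    ∃ c, S.Lf c l ∧ c * t = t * c ∧ c * s = s * c := by
  obtain ⟨c, hc, ct⟩ := h.pt.lift_comm h1
  rcases hc.of_St h.ps.mem h2 with e | e
  · exact ⟨c, hc, ct, comm_of_conj_eq e⟩
  · refine ⟨t⁻¹ * c, hc.Q_mul (inv_mem h.pt.mem), comm_mul (by group) ct, comm_of_conj_eq ?_⟩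
    calc _ = t⁻¹ * (c * s * c⁻¹) * t := by group
      _ = s := by rw [e, ← h.tst]; group

section

variable {ρ : G} (h : S.Op t s) (hρ : S.Lf ρ S.U.τ)
include h hρ

theorem b_mem : s * (ρ * s * ρ⁻¹) ∈ YY t S.z := by
  refine ⟨mul_mem h.ps.mem (hρ.conj_Q h.ps.mem), mcs.2 (S.h.mul_comm_of_ne_of_ne h.ps.mem
    (hρ.conj_Q h.ps.mem) h.pt.mem h.ne fun e => h.ne ?_)⟩
  have e1 := comm_conj ρ⁻¹ e
  rw [conj_conj_inv rfl] at e1
  rcases hρ.inv.of_St h.pt.mem (inv_mem (h.pt.le_St S.U.τ_mem)) with e2 | e2 <;> rw [e2] at e1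
  · exact e1
  · rw [← mul_assoc, mul_assoc t, ← S.h.cen s h.ps.mem, ← mul_assoc] at e1
    exact mul_right_cancel e1

theorem b_not_mem : s * (ρ * s * ρ⁻¹) ∉ Qx t := by
  intro m
  obtain ⟨y, hy, e⟩ := h.pt.lift S.U.τ_mem
  refine S.U.τ_ne (e.eq_one_iff.2 (h.pt.bp.third' h.ps.mem h.ne hy.1 ?_))
  have h1 := S.h.commutator_mem (hρ.inv_mul_mem e) h.ps.mem
  have h2 := conj_mem_cj ρ h1
  rw [cj_zpowers, hρ.cz] at h2
  have h3 := h.pt.bp.R_conj_E (mem_sup_left h.ps.mem) (zpowers_le.2 h.pt.bp.zE h2)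
  have := mul_mem (ir h3) m
  rw [show s * (ρ * (ρ⁻¹ * y * s * (ρ⁻¹ * y)⁻¹ * s⁻¹) * ρ⁻¹) * s⁻¹ * (s * (ρ * s * ρ⁻¹)) =
    s * y * s * y⁻¹ by group] at this
  rwa [inv_eq_self h.ss]

theorem b_St {l : W} (hl : l ∈ S.U.L) (hc : l * S.U.τ = S.U.τ * l) : l ∈ S.St (s * (ρ * s * ρ⁻¹)) :=
  St_mul h.ps.mem (hρ.conj_Q h.ps.mem) (h.Ls hl) (St_conj' hρ (by
    rw [mul_assoc, hc, inv_mul_cancel_left]; exact h.Ls hl))

theorem b_comm : s * (ρ * s * ρ⁻¹) = (ρ * s * ρ⁻¹) * s := by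
  by_contra hne
  obtain ⟨a, ha, a1, hc⟩ := S.U.meet
  obtain ⟨y, hy, e⟩ := h.ps.lift ha
  have hp := h.ps.conj hρ
  refine a1 (e.eq_one_iff.2 (h.ps.bp.third' hp.mem (Ne.symm hne) hy.1 ?_))
  have := e.of_St' hp.mem (hp.le_St (mem_cj.2 (by rw [mul_assoc, ← hc.eq, inv_mul_cancel_left]; exact ha)))
  simpa [mul_assoc] using inv_mem (zpowers_le.2 h.ps.bp.pr.zS this)

theorem b_mem_s : s * (ρ * s * ρ⁻¹) ∈ Qx s := by
  obtain ⟨k, hk⟩ := h.ps.bp.sw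
  have hs : s * (ρ * s * ρ⁻¹) ∈ YY s S.z :=
    ⟨(h.b_mem hρ).1, mcs.2 (comm_mul rfl (h.b_comm hρ).symm)⟩
  obtain ⟨a, ha, e⟩ := h.ps.ph_ex hk hs
  exact (ph_one hk e).1 (S.U.fixm a ha fun l hl hc =>
    h.ps.ph_comm hk hs e (h.Ls hl) (h.b_St hρ hl hc))

theorem b_pt : S.Pt (s * (ρ * s * ρ⁻¹)) (cj S.U.Rm S.U.n1) := by
  obtain ⟨y, hy, e⟩ := h.ps.lift S.U.τm_mem
  have ys := conj_eq_of_comm (h.ps.bp.hS.cen y hy.1)
  have e1 : y * (ρ * s * ρ⁻¹) * y⁻¹ = s * (y * (s * (ρ * s * ρ⁻¹)) * y⁻¹) := by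
    calc _ = (s * (y * s * y⁻¹)) * (y * (ρ * s * ρ⁻¹) * y⁻¹) := by rw [ys, h.ss, one_mul]
      _ = _ := by group
  rcases h.ps.bp.hS.conj hy.1 (h.b_mem_s hρ) with e2 | e2 <;> rw [e2] at e1
  · exfalso
    rw [← mul_assoc s, h.ss, one_mul] at e1
    have m1 := e.mem_St (Or.inl e1)
    have m2 := St_conj hρ (h.ps.le_St S.U.τm_mem)
    have m3 := mul_mem (mul_mem m1 m2) m1
    rw [inv_eq_self S.U.ττ, show S.U.τ * S.U.τm * S.U.τ = S.U.n1 from rfl, S.U.n1_eq,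
      ← mul_assoc, ← mul_assoc, S.U.τmτm, one_mul, mul_assoc S.U.τ, S.U.τmτm, mul_one] at m3
    have m4 := St_conj hρ.inv m3
    rw [conj_conj_inv rfl, inv_mul_cancel, one_mul, inv_inv] at m4
    apply h.b_not_mem hρ
    rcases hρ.of_St h.ps.mem m4 with e3 | e3 <;> rw [e3]
    · rw [h.ss]; exact one_mem _
    · rw [← mul_assoc, h.ss, one_mul]; exact h.pt.bp.pr.zS
  · rw [← mul_assoc s, ← mul_assoc s, h.ss, one_mul, ← h.b_comm hρ] at e1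
    have := (h.ps.conj hρ).conj e
    rw [e1, ← cj_mul] at this
    rwa [S.U.n1_eq, cj_mul, cj_eq_iff.2 (le_normalizer S.U.τm_mem)]

end

theorem E_inf (h : S.Op t s) {e : G} (h1 : e ∈ EE S.z t) (h2 : e ∈ Qx s) : e = 1 ∨ e = S.z := by
  obtain ⟨ρ, hρ⟩ := S.exists_lift S.U.τ
  obtain ⟨k, hk⟩ := h.pt.bp.sw
  have hle : EE S.z s ⊓ centralizer {t} ≤ YY t S.z := inf_le_inf_right _ inf_le_left
  have h3 := h.pt.ph_surj hk hle ⟨⟨(h.b_mem hρ).1, h.b_mem_s hρ⟩, (h.b_mem hρ).2⟩ (h.b_not_mem hρ)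
    (fun l hl => by
      obtain ⟨c, hc, ct, cs⟩ := h.lift (h.Lt hl) (h.Ls hl)
      exact ⟨c, hc, ct, fun x hx => ⟨conj_mem_EE hx.1 hc.cz (conj_eq_of_comm cs),
        (conj_mem_YY (hle hx) (conj_eq_of_comm ct) hc.cz).2⟩⟩)
  have h4 := card_img (S := S) (A := cj (EE S.z s ⊓ centralizer {t}) k) (by
    rintro _ ⟨x, hx, rfl⟩
    exact (conj_mem_YY (hle hx) hk.kt hk.kz).2)
  have h5 : Qx S.z = cj (Qx t) k := by rw [cj_Qx, hk.kt]
  rw [h3, S.U.card_Rp, card_cj, h5, ← cj_inf, card_cj] at h4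
  have h6 : Nat.card ↥(EE S.z s ⊓ centralizer {t}) ≤ 2 ^ 10 := by
    have d := card_dvd_of_le (inf_le_left : EE S.z s ⊓ centralizer {t} ≤ _)
    have n : Nat.card ↥(EE S.z s ⊓ centralizer {t}) ≠ Nat.card (EE S.z s) := fun e =>
      h.ne (mcs.1 ((eq_of_le_of_card_ge inf_le_left e.ge).ge h.ps.bp.xE).2)
    rw [h.ps.bp.cE] at d n
    obtain ⟨m, hm⟩ := d
    have : m ≠ 1 := by rintro rfl; omega
    have : m ≠ 0 := by rintro rfl; omega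
    have : Nat.card ↥(EE S.z s ⊓ centralizer {t}) * 2 ≤ 2 ^ 11 := by rw [hm]; gcongr; omega
    omega
  have h7 : zpowers S.z = EE S.z s ⊓ centralizer {t} ⊓ Qx t := eq_of_le_of_card_ge
    (zpowers_le.2 ⟨⟨h.ps.bp.zE, mcs.2 h.pt.bp.zx⟩, h.pt.bp.pr.zS⟩) (by rw [S.h.card_Z]; omega)
  rw [← S.h.mem_Z, h7]
  exact ⟨⟨⟨h1.1, h2⟩, (h.pt.bp.pr.E_le_A h1).2⟩, h1.2⟩

end Op

end Ctx

end Cfsg.Agent.H38.E6
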