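import Cfsg.Agent.H38.E6D

/-!
# The complement `C(z, z')`
-/

set_option autoImplicit false

namespace Cfsg.Agent.H38.E6

open Subgroup H49 H98
open scoped commutatorElement

universe u

namespace Ctx

variable {G W : Type u} [Group G] [Group W] {S : Ctx G W}

variable (S) in
/-- the preimage in `C(z)` -/
def pre (A : Subgroup W) : Subgroup G := (A.comap S.π).map (centralizer {S.z}).subtype

theorem mem_pre {A : Subgroup W} {c : G} : c ∈ S.pre A ↔ ∃ a ∈ A, S.Lf c a :=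
  ⟨fun ⟨x, hx, e⟩ => ⟨_, hx, e ▸ x.2, by subst e; rfl⟩, fun ⟨_, ha, h, e⟩ =>
    ⟨⟨c, h⟩, mem_comap.2 (e.symm ▸ ha), rfl⟩⟩

theorem Lf.mem_pre {A : Subgroup W} {c : G} {a : W} (h : S.Lf c a) : c ∈ S.pre A ↔ a ∈ A :=
  ⟨fun m => by obtain ⟨b, hb, e⟩ := Ctx.mem_pre.1 m; rwa [h.uniq e], fun m => Ctx.mem_pre.2 ⟨a, m, h⟩⟩

theorem Q_le_pre (A : Subgroup W) : Qx S.z ≤ S.pre A := fun _ h => (lf_one.2 h).mem_pre.2 (one_mem _)

theorem pre_le (A : Subgroup W) : S.pre A ≤ centralizer {S.z} := map_subtype_le _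

theorem isPGroup_pre {A : Subgroup W} (hA : IsPGroup 2 A) : IsPGroup 2 (S.pre A) := by
  intro c
  obtain ⟨a, ha, e⟩ := mem_pre.1 c.2
  obtain ⟨k, hk⟩ := hA ⟨a, ha⟩
  refine ⟨k + 2, Subtype.ext ?_⟩
  have := S.h.pow_four ((e.pow (2 ^ k)).eq_one_iff.1 (congrArg Subtype.val hk))
  rw [← pow_mul] at this
  show (c : G) ^ 2 ^ (k + 2) = 1
  rw [← this, pow_add]; rfl

theorem isPGroup_Rp : IsPGroup 2 S.U.Rp := fun a => ⟨1, Subtype.ext (by
  rw [pow_one, pow_two]; exact S.U.Rp_sq a a.2)⟩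

variable [Finite G]

variable (S) in
/-- `C(z, t, g)` -/
abbrev D1 (t g : G) : Subgroup G := centralizer {S.z} ⊓ centralizer {t} ⊓ centralizer {g}

omit [Finite G] in
theorem mem_D1 {t g d : G} : d ∈ S.D1 t g ↔ S.DD t g d :=
  ⟨fun h => ⟨mcs.1 h.1.1, mcs.1 h.1.2, mcs.1 h.2⟩, fun h => ⟨⟨mcs.2 h.z, mcs.2 h.t⟩, mcs.2 h.g⟩⟩

theorem Pre.card_St_le {t s g : G} (h : S.Pre t s g) : Nat.card (S.St t) ≤ Nat.card (S.D1 t g) := by
  have := S.finite
  have hb := h.tri.bp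
  have h1 : S.St t ≤ S.img (S.D1 t g) ⊔ S.U.Rp := fun l hl => by
    obtain ⟨r, hr, d, hd, e⟩ := h.exists_d' hl
    simpa using mul_mem (mem_sup_right (inv_mem hr) : _ ∈ S.img (S.D1 t g) ⊔ S.U.Rp)
      (mem_sup_left (e.mem_img (mem_D1.2 hd)))
  have h2 := Nat.le_of_dvd (Nat.mul_pos Nat.card_pos Nat.card_pos)
    (H3.card_sup_dvd_of_le_normalizer (H := S.img (S.D1 t g)) (N := S.U.Rp) fun l hl => by
      obtain ⟨d, hd, e⟩ := mem_img.1 hl
      exact h.op.pt.St_le (e.mem_St_of_comm (mem_D1.1 hd).t))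
  have h3 : EE S.z t ≤ (EE S.z t ⊓ centralizer {g}) ⊔ VV S.z t := fun e he => by
    obtain ⟨v, hv, e0, he0, hc, rfl⟩ := h.tri.decomp he
    exact mul_mem (mem_sup_right hv) (mem_sup_left ⟨he0, mcs.2 hc.symm⟩)
  have h4 := Nat.le_of_dvd (Nat.mul_pos Nat.card_pos Nat.card_pos)
    (H3.card_sup_dvd_of_le_normalizer (H := EE S.z t ⊓ centralizer {g}) (N := VV S.z t)
      ((inf_le_left.trans inf_le_left).trans hb.pr.Q_le_normalizer_V))
  have h5 := card_img (S := S) (A := S.D1 t g) (inf_le_left.trans inf_le_left)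
  have h6 : Nat.card ↥(EE S.z t ⊓ centralizer {g}) ≤ Nat.card ↥(S.D1 t g ⊓ Qx S.z) :=
    card_le_of_le fun e he => ⟨⟨⟨S.h.le_centralizer he.1.1, hb.hS.le_centralizer he.1.2⟩, he.2⟩, he.1.1⟩
  have h7 := card_le_of_le h3
  rw [hb.cE] at h7
  rw [hb.pr.four.card_closure] at h4
  rw [S.U.card_Rp] at h2
  calc _ ≤ _ := (card_le_of_le h1).trans h2
    _ ≤ Nat.card (S.img (S.D1 t g)) * Nat.card ↥(S.D1 t g ⊓ Qx S.z) := by gcongr; omega
    _ = _ := h5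

variable (S) in
/-- an opposite involution and the complement -/
structure Md where
  t : G
  z' : G
  t' : G
  κ : W →* G
  pt : S.Pt t S.U.Rp
  dz : S.D z'
  dt : S.D t'
  lf : ∀ w, S.Lf (κ w) w
  κz : ∀ w, κ w * z' = z' * κ w
  κt : ∀ w ∈ S.St t, κ w * t = t * κ w
  Qz : ∀ q ∈ Qx S.z, q * z' = z' * q → q = 1
  cube : S.z * z' * (S.z * z') * (S.z * z') = 1
  r1 : S.z * t' * S.z⁻¹ = t' * t
  r2 : z' * t * z'⁻¹ = t * t'
  m1 : t' ∈ Qx t
  m2 : t' ∈ Qx z'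

theorem exists_md (h0 : ∃ x, S.D x ∧ x ∈ Qx S.z ∧ x ≠ S.z) : Nonempty S.Md := by
  have := S.finite
  have : Fact (Nat.Prime 2) := ⟨Nat.prime_two⟩
  obtain ⟨x, hx, hx1, hx2⟩ := h0
  obtain ⟨_, -, c0, -, pt⟩ := exists_conj_pt hx hx1 hx2
  generalize c0 * x * c0⁻¹ = t at pt
  obtain ⟨cw, hw⟩ := S.exists_lift S.U.w
  obtain ⟨g, hpre⟩ := Op.exists_pre ⟨pt, pt.conj hw⟩
  obtain ⟨s, fr⟩ := hpre.exists_fr
  clear hpre hw cw hx hx1 hx2 x c0
  have ps := fr.op.ps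
  obtain ⟨n0, -, c, hc, cs⟩ := pt.exists_conj ps.d ps.mem ps.bp.pr.ne
  obtain ⟨k, hk⟩ := pt.bp.sw
  have hs : k * c * s * (k * c)⁻¹ = S.z := by rw [← hk.kt, ← cs]; group
  have hz : k * c * S.z * (k * c)⁻¹ = t := by
    calc _ = k * (c * S.z * c⁻¹) * k⁻¹ := by group
      _ = t := by rw [hc.cz, hk.kz]
  generalize k * c = h at hs hz
  clear hk k hc cs c n0
  obtain ⟨z', hz'⟩ : ∃ z', h * (g * s * g⁻¹) * h⁻¹ = z' := ⟨_, rfl⟩
  obtain ⟨t', ht'⟩ : ∃ t', h * t * h⁻¹ = t' := ⟨_, rfl⟩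
  have dz : S.D z' := (ps.d.conj g).conj' hz'
  have dt : S.D t' := pt.d.conj' ht'
  have cube : S.z * z' * (S.z * z') * (S.z * z') = 1 := by
    have : S.z * z' = h * g * h⁻¹ := by
      calc S.z * z' = h * (s * (g * s * g⁻¹)) * h⁻¹ := by rw [← hz', ← hs]; group
        _ = _ := by rw [fr.g_eq]
    rw [this]
    calc _ = h * (g * g * g) * h⁻¹ := by group
      _ = 1 := by rw [fr.tri.g3]; group
  have r1 : S.z * t' * S.z⁻¹ = t' * t := by
    calc S.z * t' * S.z⁻¹ = h * (s * t * s⁻¹) * h⁻¹ := by rw [← hs, ← ht']; group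
      _ = (h * t * h⁻¹) * (h * S.z * h⁻¹) := by rw [fr.op.sts]; group
      _ = _ := by rw [ht', hz]
  have m1 : t' ∈ Qx t := conj_mem_Qx' pt.mem ht' hz
  have sQ : g * s * g⁻¹ ∈ Qx t := conj_mem_Qx' ps.mem rfl fr.tri.gz
  have m2 : t' ∈ Qx z' := conj_mem_Qx' (pt.d.symm (ps.d.conj g) sQ) ht' hz'
  have r2 : z' * t * z'⁻¹ = t * t' := by
    have : g * s * g⁻¹ * S.z * (g * s * g⁻¹)⁻¹ = S.z * t :=
      pt.bp.hS.conj_of_ne sQ pt.bp.pr.zS fun e => fr.op.ne (by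
        rw [← fr.tri.gzx] at e
        have e1 := comm_of_conj g e
        rw [← mul_assoc, S.h.cen s ps.mem, mul_assoc, mul_assoc] at e1
        exact mul_left_cancel e1)
    calc z' * t * z'⁻¹ = h * (g * s * g⁻¹ * S.z * (g * s * g⁻¹)⁻¹) * h⁻¹ := by rw [← hz', ← hz]; group
      _ = (h * S.z * h⁻¹) * (h * t * h⁻¹) := by rw [this]; group
      _ = _ := by rw [ht', hz]
  let K : Subgroup G := centralizer {S.z} ⊓ centralizer {z'}
  have hK : ∀ e, s * e = e * s → g * e = e * g → h * e * h⁻¹ ∈ K := fun e h1 h2 =>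
    ⟨mcs.2 (hs ▸ comm_conj h h1.symm), mcs.2 (hz' ▸ comm_conj h
      (comm_mul (comm_mul h2 h1) (comm_inv h2)).symm)⟩
  have hD : cj (S.D1 t g) h ≤ K ⊓ centralizer {t} := by
    rintro _ ⟨d, hd, rfl⟩
    have hd := mem_D1.1 hd
    exact ⟨hK d (fr.comm_s hd).symm hd.g.symm, mcs.2 (hz ▸ comm_conj h hd.z)⟩
  have hI : S.img (cj (S.D1 t g) h) = S.St t := by
    refine eq_of_le_of_card_ge (fun a ha => ?_) ?_
    · obtain ⟨d, hd, e⟩ := mem_img.1 ha
      exact e.mem_St_of_comm (mcs.1 (hD hd).2)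
    · have h1 := card_img (S := S) (hD.trans (inf_le_left.trans inf_le_left))
      have h2 : cj (S.D1 t g) h ⊓ Qx S.z = ⊥ := by
        rw [eq_bot_iff]
        rintro _ ⟨⟨d, hd, rfl⟩, m⟩
        have := fr.eq_one_of_mem (mem_D1.1 hd) (conj_mem_Qx' m (conj_conj_inv rfl) (conj_conj_inv hs))
        simp [this]
      rw [h2, card_bot, mul_one, card_cj] at h1
      rw [h1]; exact fr.pre.card_St_le
  have hN : normalizer (S.U.Rp : Set W) ≤ S.img K :=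
    pt.norm_le.trans (hI.ge.trans (img_mono (hD.trans inf_le_left)))
  have hT : S.img K = ⊤ := by
    obtain ⟨ρ, hρ⟩ := S.exists_lift S.U.τ
    obtain ⟨e, he, e1, e2, e3⟩ := fr.exists_e hρ rfl
    have hp := fr.z1_pt hρ rfl
    have y1 := fr.z1_Y hρ rfl
    have y2 := fr.z1_s hρ rfl
    generalize s * (ρ * s * ρ⁻¹) = z1 at he e3 hp y1 y2
    have m := hK e e1 e2
    have ne : h * z1 * h⁻¹ ≠ S.z := fun e => fr.op.ne (by
      rw [← hs] at e
      have : z1 = s := by simpa using e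
      exact this ▸ mcs.1 y1.2)
    obtain ⟨n, hn, hp2⟩ := exists_pt (hp.d.conj h) (conj_mem_Qx' y2 rfl hs) ne
    obtain ⟨a, ⟨b, hb, rfl⟩, e4⟩ := hp2.ex ⟨conj_mem_Qx h he, m.1⟩
    have h1 := S.U.max (S.img K) (sup_le (le_normalizer.trans hN) (S.U.L_norm.trans hN)) _
      (e4.mem_img m) (S.U.normal.conj_mem _ (S.U.Rp_le hb) n) (fun m2 => by
        have e5 : h * e * h⁻¹ * t * (h * e * h⁻¹)⁻¹ = t * (h * z1 * h⁻¹) := by
          calc _ = h * (e * S.z * e⁻¹) * h⁻¹ := by rw [← hz]; group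
            _ = _ := by rw [e3, ← hz]; group
        rcases e4.of_St pt.mem (pt.norm_le m2) with e6 | e6 <;> rw [e5] at e6
        · exact hp2.bp.hS.ne (by simpa using e6)
        · exact ne (mul_left_cancel e6))
    rw [eq_top_iff]
    intro a _
    obtain ⟨n, hn, e⟩ := S.U.big (cj S.U.Rp a) (by
      rintro _ ⟨b, hb, rfl⟩
      show a * b * a⁻¹ * (a * b * a⁻¹) = 1
      rw [show a * b * a⁻¹ * (a * b * a⁻¹) = a * (b * b) * a⁻¹ by group, S.U.Rp_sq b hb]; group)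
      (by rw [card_cj, S.U.card_Rp])
    have : n⁻¹ * a ∈ normalizer (S.U.Rp : Set W) := by rw [← cj_eq_iff, cj_mul, e, cj_inv_cj]
    simpa using mul_mem (h1 hn) (hN this)
  have hQ : K ⊓ Qx S.z = ⊥ := by
    by_contra hne
    have hp : IsPGroup 2 ↥(K ⊓ Qx S.z) := S.h.isPGroup.to_inf_right
    obtain ⟨n, hn0, hn⟩ := hp.nontrivial_iff_card.1 ((nontrivial_iff_ne_bot _).2 hne)
    obtain ⟨x, hx, x1, hc⟩ := exists_fixed_of_dvd (Q := K ⊓ S.pre S.U.Rp) (N := K ⊓ Qx S.z)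
      (isPGroup_pre isPGroup_Rp).to_inf_right
      (fun a ha => mem_normalizer_of_conj_mem fun y hy =>
        mem_inf.2 ⟨mul_mem (mul_mem (il ha) (il hy)) (inv_mem (il ha)),
          S.h.conj_mem (mcs.1 ha.1.1) hy.2⟩)
      (by rw [hn]; exact dvd_pow_self 2 hn0.ne')
    have hV := pt.mem_V hx.2 fun a ha => by
      obtain ⟨k, hk, e⟩ := mem_img.1 (hT.ge (mem_top a))
      exact e.mem_St_of_comm (hc k ⟨hk, e.mem_pre.2 ha⟩)
    have xz := mcs.1 hx.1.2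
    have tt := pt.bp.hS.cen t' m1
    rcases pt.bp.mem_V.1 hV with e | e | e | e
    · exact x1 e
    · rw [e] at xz
      rw [mul_assoc S.z z', ← mul_assoc z', ← xz, mul_assoc S.z z', dz.sq, mul_one, S.h.zz,
        one_mul] at cube
      rw [eq_inv_of_mul_eq_one_right cube, inv_inv, inv_eq_self S.h.zz, pt.bp.zx, mul_assoc,
        S.h.zz] at r2
      exact dt.lx.ne (mul_left_cancel r2).symm
    · rw [e] at xz
      rw [← xz, mul_inv_cancel_right] at r2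
      exact dt.lx.ne (by simpa using r2)
    · rw [e] at xz
      have e1 : S.z * z' * (S.z * z') = t' := by
        calc _ = S.z * z' * (S.z * z'⁻¹) := by rw [inv_eq_self dz.sq]
          _ = S.z * (z' * (S.z * t) * z'⁻¹) * (z' * t * z'⁻¹)⁻¹ := by group
          _ = (S.z * S.z) * t * (t * t')⁻¹ := by rw [conj_eq_of_comm xz.symm, r2]; group
          _ = t' := by rw [S.h.zz, ← tt, one_mul, mul_inv_rev, mul_inv_cancel_left, inv_eq_self dt.sq]
      have e2 : S.z * z' = t' := by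
        rw [e1] at cube
        rw [eq_inv_of_mul_eq_one_right cube, inv_eq_self dt.sq]
      rw [e2, dt.sq] at e1
      exact dt.lx.ne e1.symm
  let f : K →* W := S.π.comp (inclusion inf_le_left)
  have hf : Function.Bijective f := by
    refine ⟨(injective_iff_map_eq_one f).2 fun a ha => Subtype.ext (mem_bot.1 (hQ ▸ ⟨a.2,
      (S.ker _).1 ha⟩)), fun a => ?_⟩
    obtain ⟨k, hk, e⟩ := mem_img.1 (hT.ge (mem_top a))
    exact ⟨⟨k, hk⟩, e.2⟩
  let κ : W →* G := K.subtype.comp (MulEquiv.ofBijective f hf).symm.toMonoidHom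
  have κK : ∀ w, κ w ∈ K := fun w => ((MulEquiv.ofBijective f hf).symm w).2
  have lf : ∀ w, S.Lf (κ w) w := fun w =>
    ⟨(κK w).1, (MulEquiv.ofBijective f hf).apply_symm_apply w⟩
  refine ⟨⟨t, z', t', κ, pt, dz, dt, lf, fun w => mcs.1 (κK w).2, fun w hw => ?_,
    fun q hq e => mem_bot.1 (hQ ▸ ⟨⟨S.h.le_centralizer hq, mcs.2 e⟩, hq⟩), cube, r1, r2, m1, m2⟩⟩
  obtain ⟨d, hd, e⟩ := mem_img.1 (hI.ge hw)
  have : d⁻¹ * κ w = 1 := mem_bot.1 (hQ ▸ mem_inf.2 ⟨mul_mem (inv_mem (il (hD hd))) (κK w),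
    e.inv_mul_mem (lf w)⟩)
  rw [← inv_mul_eq_one.1 this]
  exact mcs.1 (hD hd).2

end Ctx

end Cfsg.Agent.H38.E6
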