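import Cfsg.Agent.H38.E6E

/-!
# The Curtis–Tits relations
-/

set_option autoImplicit false

namespace Cfsg.Agent.H38.E6

open Subgroup H49 H98
open scoped commutatorElement

universe u

theorem conj_mul' {G : Type*} [Group G] (g a b : G) :
    g * (a * b) * g⁻¹ = (g * a * g⁻¹) * (g * b * g⁻¹) := by group

theorem conj_rel {G : Type*} [Group G] (g : G) {a b c : G} (h : a * b * a⁻¹ = c) :
    (g * a * g⁻¹) * (g * b * g⁻¹) * (g * a * g⁻¹)⁻¹ = g * c * g⁻¹ := by rw [← h]; group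

theorem conj_commutator {G : Type*} [Group G] (g a b : G) :
    g * ⁅a, b⁆ * g⁻¹ = ⁅g * a * g⁻¹, g * b * g⁻¹⁆ := by
  simp only [commutatorElement_def]; group

theorem swap_rel {G : Type*} [Group G] {a b c : G} (ha : a * a = 1) (hb : b * b = 1)
    (h : a * b * a⁻¹ = b * c) : b * a * b⁻¹ = c * a := by
  rw [inv_eq_self ha] at h
  calc b * a * b⁻¹ = b * (a * b * a) * a := by
        rw [inv_eq_self hb, mul_assoc b (a * b * a), mul_assoc _ a a, ha, mul_one, mul_assoc]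
    _ = _ := by rw [h, ← mul_assoc, hb, one_mul]

namespace Ctx

variable {G W : Type u} [Group G] [Group W] {S : Ctx G W} [Finite G]

theorem Op.V_comm {t s v : G} (h : S.Op t s) (hv : v ∈ VV S.z t) (hc : s * v = v * s) :
    v = 1 ∨ v = S.z := by
  rcases h.pt.bp.mem_V.1 hv with e | e | e | e
  · exact Or.inl e
  · exact Or.inr e
  · exact absurd (e ▸ hc) h.ne
  · rw [e, ← mul_assoc, S.h.cen s h.ps.mem, mul_assoc, mul_assoc] at hc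
    exact absurd (mul_left_cancel hc) h.ne

theorem Op.b_ph {t s ρ k : G} (h : S.Op t s) (hρ : S.Lf ρ S.U.τ) (hk : Sw S.z t k) :
    S.Lf (k * (s * (ρ * s * ρ⁻¹)) * k⁻¹) S.U.τ := by
  obtain ⟨a, ha, e⟩ := h.pt.ph_ex hk (h.b_mem hρ)
  rcases S.U.fixp a ha (fun l hl hc => h.pt.ph_comm hk (h.b_mem hρ) e (h.Lt hl) (h.b_St hρ hl hc))
    with rfl | rfl
  · exact absurd ((ph_one hk e).1 rfl) (h.b_not_mem hρ)
  · exact e

theorem Op.Qt_inf {t s x : G} (h : S.Op t s) (h1 : x ∈ Qx t) (h2 : x ∈ Qx s) : x = 1 ∨ x = S.z := by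
  have hz : x * S.z = S.z * x := by
    by_contra hne
    exact h.ne (by rw [(h.pt.bp.hS.commutator_eq_z h1 h.pt.bp.pr.zS hne).symm.trans
      (h.ps.bp.hS.commutator_eq_z h2 h.ps.bp.pr.zS hne)])
  obtain ⟨a, ha, e⟩ := h.pt.ex ⟨h1, mcs.2 hz⟩
  have := h.ps.mem_A ⟨h2, mcs.2 hz⟩ e
  exact h.E_inf ⟨e.eq_one_iff.1 (mem_bot.1 (S.U.disj ▸ ⟨ha, this⟩)), h1⟩ h2

namespace Md

variable (M : S.Md)

/-- the opposite point -/
def s : G := M.κ S.U.w * M.t * (M.κ S.U.w)⁻¹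
/-- `x_{α₁+α₂}` -/
def z1 : G := M.s * (M.κ S.U.τ * M.s * (M.κ S.U.τ)⁻¹)
/-- the reflection in `θ` -/
def ν : G := S.z * M.z' * S.z

omit [Finite G]

theorem op : S.Op M.t M.s := ⟨M.pt, M.pt.conj (M.lf _)⟩

theorem κ_conj (a b : W) : M.κ a * M.κ b * (M.κ a)⁻¹ = M.κ (a * b * a⁻¹) := by simp

theorem ww_conj (x : G) : M.κ S.U.w * (M.κ S.U.w * x * (M.κ S.U.w)⁻¹) * (M.κ S.U.w)⁻¹ = x := by
  calc _ = M.κ (S.U.w * S.U.w) * x * (M.κ (S.U.w * S.U.w))⁻¹ := by rw [map_mul]; group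
    _ = x := by rw [S.U.ww, map_one]; group

theorem Ut : S.U.t M.κ M.s = M.t := M.ww_conj _

theorem tt' : M.t' * M.t = M.t * M.t' := M.pt.bp.hS.cen _ M.m1
theorem t'z' : M.t' * M.z' = M.z' * M.t' := M.dz.lx.cen _ M.m2

theorem κt' {w : W} (hw : w ∈ S.St M.t) : M.κ w * M.t' = M.t' * M.κ w := by
  have : M.t' = M.t⁻¹ * (M.z' * M.t * M.z'⁻¹) := by rw [M.r2]; group
  rw [this]
  exact (comm_mul (comm_inv (M.κt w hw).symm) (comm_mul (comm_mul (M.κz w).symm (M.κt w hw).symm)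
    (comm_inv (M.κz w).symm))).symm

theorem κs {w : W} (hw : w ∈ S.St M.s) : M.κ w * M.s = M.s * M.κ w := by
  have h1 := St_conj (M.lf S.U.w) hw
  rw [s, M.ww_conj] at h1
  have h2 := comm_conj (M.κ S.U.w) (M.κt _ h1)
  rwa [← M.κ_conj, M.ww_conj] at h2

theorem t'z : M.t' * S.z * M.t'⁻¹ = M.t * S.z := swap_rel S.h.zz M.dt.sq M.r1
theorem tz' : M.t * M.z' * M.t⁻¹ = M.t' * M.z' := swap_rel M.dz.sq M.pt.d.sq M.r2

theorem νκ (w : W) : M.ν * M.κ w * M.ν⁻¹ = M.κ w :=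
  conj_eq_of_comm (comm_mul (comm_mul (M.lf w).comm.symm (M.κz w).symm) (M.lf w).comm.symm)

theorem νν (x : G) : M.ν * (M.ν * x * M.ν⁻¹) * M.ν⁻¹ = x := by
  have : M.ν * M.ν = 1 := by
    calc M.ν * M.ν = S.z * (M.z' * (S.z * S.z) * M.z') * S.z := by rw [ν]; group
      _ = 1 := by rw [S.h.zz, mul_one, M.dz.sq, mul_one, S.h.zz]
  calc _ = (M.ν * M.ν) * x * (M.ν * M.ν)⁻¹ := by group
    _ = x := by rw [this]; group

theorem νz : M.ν * S.z * M.ν⁻¹ = M.z' := by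
  calc _ = S.z * (M.z' * S.z * M.z'⁻¹) * S.z⁻¹ := by rw [ν]; group
    _ = (S.z * S.z) * M.z' * (S.z * S.z⁻¹) := by
      rw [inv_eq_self M.dz.sq, ← braid_of_cube S.h.zz M.dz.sq M.cube]; group
    _ = _ := by rw [S.h.zz]; group

theorem νt : M.ν * M.t * M.ν⁻¹ = M.t' := by
  calc _ = S.z * (M.z' * (S.z * M.t * S.z⁻¹) * M.z'⁻¹) * S.z⁻¹ := by rw [ν]; group
    _ = _ := by rw [conj_eq_of_comm M.pt.bp.zx, M.r2, conj_mul', conj_eq_of_comm M.pt.bp.zx, M.r1,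
      M.tt', ← mul_assoc, M.pt.d.sq, one_mul]

theorem νs : M.ν * M.s * M.ν⁻¹ = S.U.sb M.κ M.t' := by
  rw [s, ← conj_rel M.ν rfl, M.νκ, M.νt]; rfl

theorem t'_ne : M.t' * S.z ≠ S.z * M.t' := fun e =>
  M.pt.bp.hS.ne (by simpa using M.t'z.symm.trans (conj_eq_of_comm e))

theorem z'_ne : M.z' * S.z ≠ S.z * M.z' := fun e => S.h.ne (M.Qz _ S.h.mem e.symm)

variable [Finite G]

theorem Uz : S.U.z M.κ M.s = S.z := by
  rw [UD.z, M.Ut, commutatorElement_def, M.op.sts, ← M.pt.bp.zx, mul_inv_cancel_right]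

theorem Uz' : S.U.z' M.κ M.t' = M.z' := by
  rw [UD.z', ← M.νs, ← M.νz, ← M.Uz, UD.z, M.Ut, conj_commutator, M.νt]

theorem st : M.s * M.t' * (M.s * M.t') * (M.s * M.t') = 1 := by
  have e1 : S.U.sb M.κ M.t' * S.z * (S.U.sb M.κ M.t')⁻¹ = M.s * S.z := by
    have := conj_rel (M.κ S.U.w) M.t'z
    rwa [conj_mul' _ M.t, (M.lf _).cz] at this
  have e2 : S.U.sb M.κ M.t' * M.t' * (S.U.sb M.κ M.t')⁻¹ = M.t' * M.z' := by
    have := conj_rel M.ν M.op.sts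
    rwa [conj_mul' _ M.t, M.νs, M.νt, M.νz] at this
  have e3 : S.U.sb M.κ M.t' * M.z' * (S.U.sb M.κ M.t')⁻¹ = M.z' := by
    have := conj_rel (M.κ S.U.w) (conj_eq_of_comm M.t'z')
    rwa [conj_eq_of_comm (M.κz _)] at this
  generalize S.U.sb M.κ M.t' = b at e1 e2 e3
  have tz := conj_eq_of_comm M.pt.bp.zx.symm
  have n1 : M.t * b * M.t * S.z * (M.t * b * M.t)⁻¹ = M.s := by
    calc _ = M.t * (b * (M.t * S.z * M.t⁻¹) * b⁻¹) * M.t⁻¹ := by group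
      _ = _ := by rw [tz, e1, conj_mul', M.op.tst, tz, mul_assoc, S.h.zz, mul_one]
  have n2 : M.t * b * M.t * M.z' * (M.t * b * M.t)⁻¹ = M.t' := by
    calc _ = M.t * (b * (M.t * M.z' * M.t⁻¹) * b⁻¹) * M.t⁻¹ := by group
      _ = _ := by rw [M.tz', conj_mul' b, e2, e3, mul_assoc M.t', M.dz.sq, mul_one,
        conj_eq_of_comm M.tt'.symm]
  rw [← n1, ← n2, ← conj_mul', ← conj_mul', ← conj_mul', M.cube]; group

theorem gz : M.s * M.t' * S.z * (M.s * M.t')⁻¹ = M.t := by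
  calc _ = M.s * (M.t' * S.z * M.t'⁻¹) * M.s⁻¹ := by group
    _ = _ := by rw [M.t'z, conj_mul', M.op.sts, conj_eq_of_comm (S.h.cen _ M.op.ps.mem), mul_assoc,
      S.h.zz, mul_one]

theorem fr : S.Fr M.t M.s (M.s * M.t') := by
  refine ⟨M.op, ⟨M.pt.bp, mul_mem (mem_sup_left M.op.ps.mem) (mem_sup_right M.m1), M.st, M.gz, ?_⟩, ?_⟩
  · calc _ = M.s * (M.t' * M.t * M.t'⁻¹) * M.s⁻¹ := by group
      _ = _ := by rw [conj_eq_of_comm M.tt', M.op.sts, M.pt.bp.zx]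
  · rw [← mul_assoc, M.op.ss, one_mul, mul_inv_rev, inv_eq_self M.dt.sq]

omit [Finite G] in
theorem z1_eq : ⁅M.s, M.κ S.U.τ⁆ = M.z1 := by
  rw [commutatorElement_def, inv_eq_self M.op.ss, z1]; group

theorem sz1 : M.s * M.z1 = M.z1 * M.s :=
  (M.op.ps.bp.hS.cen _ (M.fr.z1_s (M.lf _) rfl)).symm

theorem dz1 : S.D M.z1 := (M.fr.z1_pt (M.lf _) rfl).d

omit [Finite G] in
theorem t'_conj (x : G) : M.t' * x * M.t'⁻¹ = M.s * (M.s * M.t' * x * (M.s * M.t')⁻¹) * M.s⁻¹ := by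
  calc _ = (M.s * M.s) * M.t' * x * ((M.s * M.s) * M.t')⁻¹ := by rw [M.op.ss, one_mul]
    _ = _ := by group

theorem t1_eq : M.s * M.t' * M.z1 * (M.s * M.t')⁻¹ = M.κ S.U.τ := by
  have fr := M.fr
  have hρ := M.lf S.U.τ
  have hz : M.s * (M.κ S.U.τ * M.s * (M.κ S.U.τ)⁻¹) = M.z1 := rfl
  have y1 := fr.t1_Y hρ hz
  have l1 := fr.t1_lf hρ hz
  have s1 := fr.s_t1 hρ hz
  have e1 : M.t' * M.z1 * M.t'⁻¹ = M.z1 * (M.s * M.t' * M.z1 * (M.s * M.t')⁻¹) := by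
    rw [M.t'_conj, s1]
  have e2 := M.t'_conj (M.s * M.t' * M.z1 * (M.s * M.t')⁻¹)
  rw [fr.g_t1 hρ hz, conj_mul' M.s, s1, conj_eq_of_comm M.sz1, ← mul_assoc M.z1, M.dz1.sq, one_mul] at e2
  have c1 : ∀ l ∈ S.U.L ⊓ centralizer {S.U.τ}, M.κ l * M.z1 = M.z1 * M.κ l ∧
      M.κ l * (M.s * M.t' * M.z1 * (M.s * M.t')⁻¹) = (M.s * M.t' * M.z1 * (M.s * M.t')⁻¹) * M.κ l ∧
      M.κ l * M.κ S.U.τ = M.κ S.U.τ * M.κ l := by
    intro l hl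
    have a1 := (M.κs (M.op.Ls hl.1)).symm
    have a2 := (M.κt' (M.op.Lt hl.1)).symm
    have a3 : M.κ S.U.τ * M.κ l = M.κ l * M.κ S.U.τ := by rw [← map_mul, ← map_mul, mcs.1 hl.2]
    have a4 : M.z1 * M.κ l = M.κ l * M.z1 := comm_mul a1 (comm_mul (comm_mul a3 a1) (comm_inv a3))
    exact ⟨a4.symm, (comm_mul (comm_mul (comm_mul a1 a2) a4) (comm_inv (comm_mul a1 a2))).symm, a3.symm⟩
  generalize M.s * M.t' * M.z1 * (M.s * M.t')⁻¹ = t1 at y1 l1 s1 e1 e2 c1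
  have τt := M.pt.le_St S.U.τ_mem
  have hq : (M.κ S.U.τ)⁻¹ * t1 ∈ YY M.t S.z := ⟨hρ.inv_mul_mem l1,
    mcs.2 (comm_mul (comm_inv (M.κt _ τt)) (M.pt.bp.hS.cen _ y1.1))⟩
  have qs : M.s * ((M.κ S.U.τ)⁻¹ * t1) * M.s⁻¹ = (M.κ S.U.τ)⁻¹ * t1 := by
    rw [conj_mul', s1, ← hz, inv_eq_self M.op.ss]
    calc _ = M.s * (M.κ S.U.τ)⁻¹ * (M.s * M.s) * M.κ S.U.τ * M.s * (M.κ S.U.τ)⁻¹ * t1 := by group
      _ = _ := by rw [M.op.ss, mul_one, inv_mul_cancel_right, M.op.ss, one_mul]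
  have qt : M.t' * ((M.κ S.U.τ)⁻¹ * t1) * M.t'⁻¹ = (M.κ S.U.τ)⁻¹ * t1 := by
    rw [conj_mul', e2, conj_eq_of_comm (comm_inv (M.κt' τt)).symm]
  have qS : S.U.L ⊓ centralizer {S.U.τ} ≤ S.St ((M.κ S.U.τ)⁻¹ * t1) := fun l hl =>
    (M.lf l).mem_St_of_comm (comm_mul (comm_inv (c1 l hl).2.2.symm) (c1 l hl).2.1.symm).symm
  rw [eq_comm, ← inv_mul_eq_one]
  generalize (M.κ S.U.τ)⁻¹ * t1 = q at hq qs qt qS
  obtain ⟨k, hk⟩ := M.pt.bp.sw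
  obtain ⟨a, ha, e⟩ := M.pt.ph_ex hk hq
  rcases S.U.fixp a ha (fun l hl hc => M.pt.ph_comm hk hq e (M.op.Lt hl) (qS ⟨hl, mcs.2 hc⟩))
    with rfl | rfl
  · have := M.pt.mem_V_of_St ⟨hq.1, (ph_one hk e).1 rfl⟩ (inf_le_left.trans M.op.Lt) qS S.U.comm_τ
    refine (M.op.V_comm this (comm_of_conj_eq qs)).resolve_right fun e => ?_
    rw [e] at qt
    exact M.t'_ne (comm_of_conj_eq qt)
  · exfalso
    have y2 := fr.z1_Y hρ hz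
    have h1 := e.mul (M.op.b_ph hρ hk)
    rw [S.U.ττ, hz, ← conj_mul'] at h1
    have := M.pt.mem_V_of_St ⟨mul_mem (il hq) (il y2), (ph_one hk h1).1 rfl⟩
      (inf_le_left.trans M.op.Lt)
      (fun l hl => St_mul hq.1 y2.1 (qS hl) ((M.lf l).mem_St_of_comm (c1 l hl).1)) S.U.comm_τ
    have h2 := M.pt.bp.pr.V_le (conj_mem_of_mem_normalizer (M.pt.bp.pr.S_le_normalizer_V M.m1) this)
    rw [conj_mul', qt, e1] at h2
    exact S.U.τ_ne (((l1.Q_mul y2.1).Q_mul hq.1).eq_one_iff.2 h2.1)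

theorem dρ : S.D (M.κ S.U.τ) := M.dz1.conj' M.t1_eq

theorem ρ_t : M.κ S.U.τ ∈ Qx M.t := M.t1_eq ▸ (M.fr.t1_Y (M.lf _) rfl).1

omit [Finite G] in
theorem ρ_not : M.κ S.U.τ ∉ Qx S.z := fun m => S.U.τ_ne ((M.lf _).eq_one_iff.2 m)

theorem n1s : M.κ S.U.n1 * M.s * (M.κ S.U.n1)⁻¹ = M.z1 := by
  refine ((M.fr.z1_pt (M.lf _) rfl).eq_or (M.op.ps.conj (M.lf S.U.n1))).resolve_right fun e => ?_
  have h1 : M.κ S.U.τ ∈ Qx M.z1 := M.t1_eq ▸ M.fr.t1_mem (M.lf _) rfl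
  have h2 := conj_mem_Qx (M.κ S.U.n1) (conj_mem_Qx (M.κ S.U.w) M.ρ_t)
  rw [M.κ_conj, M.κ_conj, show S.U.w * S.U.τ * S.U.w⁻¹ = S.U.τm from rfl, S.U.n1τm] at h2
  have h3 := (M.op.ps.d.conj _).symm M.dρ h2
  rw [e] at h3
  have h4 := mul_mem (inv_mem (M.dz1.symm M.dρ h1)) h3
  rw [z1, inv_mul_cancel_left] at h4
  exact M.ρ_not (M.dρ.symm S.Dz h4)

theorem p2 : ⁅M.z1, M.κ S.U.τm⁆ = M.s := by
  have h1 := M.n1s
  have c := conj_eq_of_comm (M.κs (M.op.ps.le_St S.U.τm_mem))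
  have h2 : M.κ S.U.τ * M.s * (M.κ S.U.τ)⁻¹ = M.s * M.z1 := by
    rw [z1, ← mul_assoc, M.op.ss, one_mul]
  rw [S.U.n1_eq, map_mul, map_mul, show ∀ a b c : G, a * b * a * c * (a * b * a)⁻¹ =
    a * (b * (a * c * a⁻¹) * b⁻¹) * a⁻¹ from fun a b c => by group, c, h2, conj_mul', c] at h1
  calc _ = M.z1 * (M.κ S.U.τm * M.z1 * (M.κ S.U.τm)⁻¹) := by
        rw [commutatorElement_def, inv_eq_self M.dz1.sq]; group
    _ = M.z1 * M.s⁻¹ * M.z1 := by nth_rewrite 4 [← h1]; group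
    _ = _ := by rw [inv_eq_self M.op.ss, ← M.sz1, mul_assoc, M.dz1.sq, mul_one]

theorem p3 : ⁅M.z1, M.t'⁆ = M.κ S.U.τ := by
  calc _ = M.z1 * (M.t' * M.z1 * M.t'⁻¹) := by
        rw [commutatorElement_def, inv_eq_self M.dz1.sq]; group
    _ = _ := by rw [M.t'_conj, M.fr.s_t1 (z1 := M.z1) (M.lf _) rfl, M.t1_eq, ← mul_assoc, M.dz1.sq,
      one_mul]

theorem rel : S.U.Rel M.κ M.s M.t' := by
  have f : ∀ x : G, M.ν * M.κ S.U.w * x * (M.ν * M.κ S.U.w)⁻¹ =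
      M.ν * (M.κ S.U.w * x * (M.κ S.U.w)⁻¹) * M.ν⁻¹ := fun x => by group
  have f1 : M.ν * M.κ S.U.w * M.s * (M.ν * M.κ S.U.w)⁻¹ = M.t' := by rw [f, s, M.ww_conj, M.νt]
  have f2 : M.ν * M.κ S.U.w * M.t' * (M.ν * M.κ S.U.w)⁻¹ = M.s := by
    rw [f, ← M.νν M.s, M.νs]; rfl
  have f3 : M.ν * M.κ S.U.w * M.κ S.U.τ * (M.ν * M.κ S.U.w)⁻¹ = M.κ S.U.τm := by
    rw [f, M.κ_conj, M.νκ]; rfl
  have f4 : M.ν * M.κ S.U.w * M.κ S.U.τm * (M.ν * M.κ S.U.w)⁻¹ = M.κ S.U.τ := by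
    rw [f, M.κ_conj, M.νκ, S.U.wτm]
  generalize M.ν * M.κ S.U.w = n at f1 f2 f3 f4
  have p1 : Commute M.s ⁅M.s, M.κ S.U.τ⁆ := M.z1_eq ▸ M.sz1
  have p2 : ⁅⁅M.s, M.κ S.U.τ⁆, M.κ S.U.τm⁆ = M.s := M.z1_eq ▸ M.p2
  have p3 : ⁅⁅M.s, M.κ S.U.τ⁆, M.t'⁆ = M.κ S.U.τ := M.z1_eq ▸ M.p3
  refine ⟨(injective_iff_map_eq_one _).2 fun a ha => (M.lf a).eq_one_iff.2 (ha ▸ one_mem _),
    M.op.ps.bp.hS.ne, M.op.ss, M.dt.sq, by rw [← M.st, pow_three, ← mul_assoc],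
    fun y hy => (M.κs (M.op.ps.le_St hy)).symm, fun y hy => (M.κs (M.op.Ls hy)).symm,
    fun y hy => (M.κt' (M.pt.le_St hy)).symm, fun y hy => (M.κt' (M.op.Lt hy)).symm, p1, p2, p3,
    ?_, ?_, ?_⟩
  · have := comm_conj n p1.eq
    rwa [conj_commutator, f1, f3] at this
  · have := congrArg (fun x => n * x * n⁻¹) p2
    simpa only [conj_commutator, f1, f3, f4] using this
  · have := congrArg (fun x => n * x * n⁻¹) p3
    simpa only [conj_commutator, f1, f2, f3] using this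

theorem a1_eq : S.U.a1 M.κ M.s = M.κ S.U.w * M.z1 * (M.κ S.U.w)⁻¹ := by
  rw [← M.n1s, ← conj_rel _ rfl, M.κ_conj, S.U.wn1]; rfl

omit [Finite G] in
theorem a1_pt : S.Pt (S.U.a1 M.κ M.s) (cj S.U.Rp S.U.n1) := by
  rw [UD.a1, M.Ut]; exact M.pt.conj (M.lf _)

theorem a1_t : S.U.a1 M.κ M.s ∈ Qx M.t :=
  conj_mem_Qx' (M.fr.z1_s (M.lf _) rfl) M.a1_eq.symm (M.ww_conj _)

theorem a1_not : S.U.a1 M.κ M.s ∉ VV S.z M.t := by
  intro m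
  have h1 : S.U.a1 M.κ M.s ∉ Qx M.s := fun m => M.fr.z1_not (M.lf _) rfl
    (conj_mem_Qx' m (g := M.κ S.U.w) (by rw [M.a1_eq, M.ww_conj]; rfl) (M.ww_conj _))
  have h2 : M.s * S.U.a1 M.κ M.s = S.U.a1 M.κ M.s * M.s := by
    rw [M.a1_eq]; exact comm_conj _ (mcs.1 (M.fr.z1_Y (M.lf _) rfl).2).symm
  rcases M.op.V_comm m h2 with e | e <;> rw [e] at h1
  · exact h1 (one_mem _)
  · exact h1 M.op.ps.bp.pr.zS

theorem Qc_eq : S.U.Qc M.κ M.s = Qx S.z := by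
  have hle : S.U.Qc M.κ M.s ≤ Qx S.z := by
    rw [UD.Qc, closure_le]
    rintro _ ⟨n, -, rfl⟩
    exact (M.lf n).conj_Q M.op.ps.mem
  have gen : ∀ n ∈ S.U.N, M.κ n * M.s * (M.κ n)⁻¹ ∈ S.U.Qc M.κ M.s := fun n hn =>
    subset_closure ⟨n, hn, rfl⟩
  have nrm : ∀ n ∈ S.U.N, ∀ x ∈ S.U.Qc M.κ M.s, M.κ n * x * (M.κ n)⁻¹ ∈ S.U.Qc M.κ M.s := by
    intro n hn x hx
    have : cj (S.U.Qc M.κ M.s) (M.κ n) ≤ S.U.Qc M.κ M.s := by
      rw [UD.Qc, cj, MonoidHom.map_closure, closure_le]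
      rintro _ ⟨_, ⟨m, hm, rfl⟩, rfl⟩
      exact subset_closure ⟨n * m, mul_mem hn hm, by simp [mul_assoc]⟩
    exact this (conj_mem_cj _ hx)
  have hs : M.s ∈ S.U.Qc M.κ M.s := by simpa using gen 1 (one_mem _)
  have ht : M.t ∈ S.U.Qc M.κ M.s := M.Ut ▸ gen _ S.U.w_mem
  have hz : S.z ∈ S.U.Qc M.κ M.s := by
    rw [← M.Uz, UD.z, M.Ut]
    exact mul_mem (mul_mem (mul_mem hs ht) (inv_mem hs)) (inv_mem ht)
  have h1 : M.z1 ∈ S.U.Qc M.κ M.s := M.n1s ▸ gen _ S.U.n1_mem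
  have y1 : M.z1 ∈ YY M.t S.z := M.fr.z1_Y (M.lf _) rfl
  have key : ∀ x ∈ YY M.t S.z, ∃ b ∈ S.U.Qc M.κ M.s ⊓ (YY M.t S.z ⊓ Qx M.s), x * b⁻¹ ∈ EE S.z M.t :=
    fun x hx => M.pt.ph_surj' (inf_le_right.trans inf_le_left) ⟨h1, y1, M.fr.z1_s (M.lf _) rfl⟩
      (M.fr.z1_not (M.lf _) rfl) (fun l hl => ⟨M.κ l, M.lf l, M.κt l (M.op.Lt hl), fun y hy =>
        ⟨nrm l (S.U.L_le hl) y hy.1, conj_mem_YY hy.2.1 (conj_eq_of_comm (M.κt l (M.op.Lt hl)))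
          (M.lf l).cz, conj_mem_Qx' hy.2.2 rfl (conj_eq_of_comm (M.κs (M.op.Ls hl)))⟩⟩) hx
  have ext : ∀ J : Subgroup G, M.s ∈ J → (∀ x ∈ J, x ∈ YY M.t S.z → x ∈ S.U.Qc M.κ M.s) →
      ∀ x ∈ J, x ∈ Qx S.z → x ∈ S.U.Qc M.κ M.s := by
    intro J hJ H x hx hQ
    by_cases e : x * M.t = M.t * x
    · exact H x hx ⟨hQ, mcs.2 e⟩
    · simpa using mul_mem (H _ (mul_mem hx (inv_mem hJ))
        (M.pt.bp.pr.mul_inv_mem_A hQ M.op.ps.mem e M.op.ne)) hs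
  have hEs := ext (Qx M.s) M.op.ps.bp.hS.mem (fun x hx hx' => by
    obtain ⟨b, hb, e⟩ := key x hx'
    have : x * b⁻¹ ∈ S.U.Qc M.κ M.s := by
      rcases M.op.E_inf e (mul_mem hx (inv_mem (ir (ir hb)))) with e | e <;> rw [e]
      · exact one_mem _
      · exact hz
    simpa using mul_mem this (il hb))
  refine le_antisymm hle fun x hx => ext ⊤ trivial (fun x _ hx => ?_) x trivial hx
  obtain ⟨b, hb, e⟩ := key x hx
  have := nrm _ S.U.w_mem _ (hEs _ (conj_mem_Qx (M.κ S.U.w) e.2) ((M.lf _).conj_Q e.1))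
  rw [M.ww_conj] at this
  simpa using mul_mem this (il hb)

theorem Hc_eq : S.U.Hc M.κ M.s = S.pre S.U.N := by
  refine le_antisymm (sup_le ?_ (zpowers_le.2 (Q_le_pre _ M.op.ps.mem))) fun c hc => ?_
  · rintro _ ⟨n, hn, rfl⟩
    exact (M.lf n).mem_pre.2 hn
  · obtain ⟨n, hn, e⟩ := mem_pre.1 hc
    have h1 : S.U.Qc M.κ M.s ≤ S.U.Hc M.κ M.s := by
      rw [UD.Qc, closure_le]
      rintro _ ⟨n, hn, rfl⟩
      have : M.κ n ∈ S.U.Hc M.κ M.s := mem_sup_left (mem_map_of_mem _ hn)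
      exact mul_mem (mul_mem this (mem_sup_right (mem_zpowers _))) (inv_mem this)
    have := mul_mem (mem_sup_left (mem_map_of_mem M.κ hn) : _ ∈ S.U.Hc M.κ M.s)
      (h1 (M.Qc_eq.ge ((M.lf n).inv_mul_mem e)))
    rwa [mul_inv_cancel_left] at this

theorem Q_inf {x : G} (h1 : x ∈ Qx S.z) (h2 : x ∈ Qx M.t') : x = 1 ∨ x = M.t := by
  have e1 : M.s * M.t' * M.s * (M.s * M.t')⁻¹ = M.t' := by
    rw [braid_of_cube M.op.ss M.dt.sq M.st]; group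
  have e2 := M.fr.tri.gzx
  have e3 : M.s * M.t' * M.s * M.t * (M.s * M.t' * M.s)⁻¹ = S.z := by
    rw [← e2, M.pt.bp.zx, ← M.op.sts]; group
  have e4 : M.s * M.t' * M.s * M.s * (M.s * M.t' * M.s)⁻¹ = M.t' := by
    rw [show M.s * M.t' * M.s * M.s * (M.s * M.t' * M.s)⁻¹ = M.s * M.t' * M.s * (M.s * M.t')⁻¹ by group,
      e1]
  have e5 : M.s * M.t' * M.s * S.z * (M.s * M.t' * M.s)⁻¹ = M.t := by
    calc _ = M.s * M.t' * (M.s * S.z * M.s⁻¹) * (M.s * M.t')⁻¹ := by group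
      _ = _ := by rw [conj_eq_of_comm (S.h.cen _ M.op.ps.mem), M.gz]
  generalize M.s * M.t' * M.s = n at e3 e4 e5
  rcases M.op.Qt_inf (conj_mem_Qx' h1 rfl (conj_conj_inv e3)) (conj_mem_Qx' h2 rfl (conj_conj_inv e4))
    with e | e
  · left; rw [← conj_conj_inv e]; group
  · right; rw [← e5, ← e]; group

end Md

end Ctx

end Cfsg.Agent.H38.E6
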