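import Cfsg.Agent.H38.E6F
import Cfsg.Agent.H86.ZD1

/-!
# The conjugates of `z` in the subgroup generated
-/

set_option autoImplicit false

namespace Cfsg.Agent.H38.E6

open Subgroup H49 H98
open scoped commutatorElement

universe u

theorem UD.frattini {W : Type u} [Group W] (U : UD W) (a : W) :
    ∃ n ∈ U.N, n⁻¹ * a ∈ normalizer (U.Rp : Set W) := by
  obtain ⟨n, hn, e⟩ := U.big (cj U.Rp a) (by
    rintro _ ⟨b, hb, rfl⟩
    show a * b * a⁻¹ * (a * b * a⁻¹) = 1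
    rw [← conj_mul', U.Rp_sq b hb]; group) (by rw [card_cj, U.card_Rp])
  exact ⟨n, hn, by rw [← cj_eq_iff, cj_mul, e, cj_inv_cj]⟩

namespace Ctx

variable {G W : Type u} [Group G] [Group W] {S : Ctx G W}

theorem conj_mem_pre {c x : G} (hc : c * S.z = S.z * c) (hx : x ∈ S.pre S.U.N) :
    c * x * c⁻¹ ∈ S.pre S.U.N := by
  obtain ⟨w, hw⟩ := exists_lf hc
  obtain ⟨n, hn, e⟩ := mem_pre.1 hx
  exact (hw.conj e).mem_pre.2 (S.U.normal.conj_mem n hn w)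

theorem mul_mem_pre {a b : G} (ha : a * S.z = S.z * a) (hb : b * S.z = S.z * b)
    (ha' : a ∉ S.pre S.U.N) (hb' : b ∉ S.pre S.U.N) (aa : a * a = 1) (bb : b * b = 1)
    (h : a * b = b * a) : a * b ∈ S.pre S.U.N := by
  have := S.U.normal
  obtain ⟨v, hv⟩ := exists_lf ha
  obtain ⟨w, hw⟩ := exists_lf hb
  refine (hv.mul hw).mem_pre.2 (mul_mem_of_six S.U.index_dvd (fun m => ha' (hv.mem_pre.2 m))
    (fun m => hb' (hw.mem_pre.2 m)) ((hv.mul hv).eq_one_iff.2 (aa ▸ one_mem _))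
    ((hw.mul hw).eq_one_iff.2 (bb ▸ one_mem _)) ?_)
  have := ((hv.mul hw).mul (hw.mul hv).inv).eq_one_iff.2 (by rw [h, mul_inv_cancel]; exact one_mem _)
  exact mul_inv_eq_one.1 this

theorem Pt.lift_commMod {t e : G} {A : Subgroup W} {l : W} (h : S.Pt t A) (he : e ∈ EE S.z t)
    (h1 : l ∈ S.St t) (h2 : l ∈ S.img (commMod {e} (VV S.z t))) :
    ∃ c, S.Lf c l ∧ c * t = t * c ∧ c * e * c⁻¹ * e⁻¹ ∈ VV S.z t := by
  obtain ⟨c, hc, ct⟩ := h.lift_comm h1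
  obtain ⟨d, hd, e1⟩ := mem_img.1 h2
  have m := e1.inv_mul_mem hc
  have : d⁻¹ * c ∈ commMod {e} (VV S.z t) := ⟨h.bp.pr.Q_le_normalizer_V m, by
    rintro _ rfl; exact h.bp.pr.commutator_X_E (mem_sup_left m) he⟩
  have := mul_mem hd this
  rw [mul_inv_cancel_left] at this
  exact ⟨c, hc, ct, this.2 e rfl⟩

theorem Pt.not_comm [Finite G] {t e y : G} {A J : Subgroup W} {a : W} (h : S.Pt t A)
    (he : e ∈ EE S.z t)
    (hJ : ∀ l ∈ J, ∃ c, S.Lf c l ∧ c * t = t * c ∧ c * e * c⁻¹ * e⁻¹ ∈ VV S.z t)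
    (hi : (⁅A, J⁆ : Subgroup W).relIndex A ≤ 2) (hV : e ∉ VV S.z t) (hy : y ∈ YY S.z t)
    (ha : S.Lf y a) : y * e = e * y ↔ a ∈ ⁅A, J⁆ := by
  have := S.finite
  refine ⟨fun hc => ?_, fun m => h.comm_of_mem_img he hy ha (h.commutator_le he hJ m)⟩
  by_contra hn
  refine hV (h.bp.mem_V_of_comm fun y' hy' => ?_)
  obtain ⟨b, hb, e1⟩ := h.ex hy'
  by_cases m : b ∈ ⁅A, J⁆
  · exact h.comm_of_mem_img he hy' e1 (h.commutator_le he hJ m)
  · have := h.comm_of_mem_img he (mul_mem hy hy') (ha.mul e1) (h.commutator_le he hJ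
      (mul_mem_of_relIndex hi (h.mem_A hy ha) hb hn m))
    have := comm_mul (comm_inv hc) this
    rwa [inv_mul_cancel_left] at this

variable [Finite G]

/-- An involution of `C(z)` centralises a point. -/
theorem Md.exists_fixed (M : S.Md) {a : G} (ha : a * S.z = S.z * a) (aa : a * a = 1) :
    ∃ x, S.D x ∧ x ∈ Qx S.z ∧ x ≠ S.z ∧ a * x = x * a := by
  have := S.finite
  have : Fact (Nat.Prime 2) := ⟨Nat.prime_two⟩
  have := S.U.normal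
  obtain ⟨α, hα⟩ := exists_lf ha
  have αα : α * α = 1 := (hα.mul hα).eq_one_iff.2 (aa ▸ one_mem _)
  have hT : SylIn 2 (S.U.Rp ⊔ S.U.T0) S.U.N :=
    sylIn_of_not_dvd_relIndex (sup_le S.U.Rp_le (S.U.T0_le.trans S.U.L_le))
      (IsPGroup.to_sup_of_normal_left' isPGroup_Rp S.U.T0_two (S.U.T0_le.trans S.U.L_norm))
      S.U.T0_odd.not_two_dvd_nat
  obtain ⟨P, hP, hαP⟩ := exists_sylIn_ge (p := 2) (le_top : zpowers α ≤ ⊤) (fun y => ⟨1, Subtype.ext (by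
    show (y : W) ^ 2 ^ 1 = 1
    rcases (mem_zpowers_invol αα).1 y.2 with e | e <;> rw [e, pow_one, pow_two]
    · exact one_mul 1
    · exact αα)⟩)
  obtain ⟨n, -, hn⟩ := (hP.inf_of_normal (K := S.U.N) le_top le_normalizer_of_normal).exists_conj hT
  have hβ : ∀ l ∈ S.U.Rp ⊔ S.U.T0, (n * α * n⁻¹)⁻¹ * l * (n * α * n⁻¹) ∈ S.U.Rp ⊔ S.U.T0 := by
    rw [← hn]
    rintro _ ⟨l, hl, rfl⟩
    refine ⟨α⁻¹ * l * α, mem_inf.2 ⟨mul_mem (mul_mem (inv_mem (hαP (mem_zpowers α))) (il hl))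
      (hαP (mem_zpowers α)), by simpa using S.U.normal.conj_mem l hl.2 α⁻¹⟩, ?_⟩
    simp [mul_assoc]
  suffices H : ∀ b β, S.Lf b β → b * b = 1 →
      (∀ l ∈ S.U.Rp ⊔ S.U.T0, β⁻¹ * l * β ∈ S.U.Rp ⊔ S.U.T0) →
      ∃ x, S.D x ∧ x ∈ Qx S.z ∧ x ≠ S.z ∧ b * x = x * b by
    obtain ⟨x, h1, h2, h3, h4⟩ := H _ _ ((M.lf n).conj hα) (by rw [← conj_mul', aa]; group) hβ
    refine ⟨_, h1.conj (M.κ n)⁻¹, (M.lf n).inv.conj_Q h2, fun e => h3 ?_, ?_⟩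
    · rw [← (M.lf n).cz, ← e]; group
    · simpa [mul_assoc] using comm_conj (M.κ n)⁻¹ h4
  intro b β hb bb hβ
  have pt := M.pt
  have bp := pt.bp
  have TS : S.U.Rp ⊔ S.U.T0 ≤ S.St M.t := sup_le pt.le_St (S.U.T0_le.trans M.op.Lt)
  by_cases bt : b * M.t = M.t * b
  · exact ⟨M.t, pt.d, pt.mem, bp.pr.ne, bt⟩
  have e1 : b * M.t * b⁻¹ = M.t * S.z := by
    rcases bp.mem_V.1 (pt.mem_V (hb.conj_Q pt.mem) fun r hr =>
      St_conj' hb (TS (hβ r (mem_sup_left hr)))) with e | e | e | e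
    · exact absurd e (pt.d.conj b).lx.ne
    · exact absurd (by rw [← hb.cz] at e; simpa using e) bp.pr.ne
    · exact absurd (comm_of_conj_eq e) bt
    · rw [e, bp.zx]
  have bV : b ∈ normalizer (VV S.z M.t : Set G) := Four.mem_normalizer (by rw [hb.cz]; exact BP.z_V _ _)
    (by rw [e1]; exact mul_mem (BP.x_V _ _) (BP.z_V _ _))
  have pa := M.a1_pt
  have aV := M.a1_not
  have aE : S.U.a1 M.κ M.s ∈ EE S.z M.t := ⟨pa.mem, M.a1_t⟩
  have aS : S.U.T0 ≤ S.St (S.U.a1 M.κ M.s) := S.U.T0_norm.trans pa.norm_le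
  generalize S.U.a1 M.κ M.s = a1 at pa aV aE aS
  have bE : b * a1 * b⁻¹ ∈ EE S.z M.t := by
    have h1 := conj_mem_EE (conj_mem_EE aE hb.cz e1)
      (conj_eq_of_comm (comm_inv (S.h.cen _ M.op.ps.mem))) (conj_conj_inv M.op.sts)
    simpa [mul_assoc] using bp.R_conj_E (mem_sup_left M.op.ps.mem) h1
  have T1 : S.U.Rp ⊔ S.U.T0 ≤ S.img (commMod {a1} (VV S.z M.t)) := by
    refine sup_le (fun r hr => ?_) (fun l hl => ?_)
    · obtain ⟨y, hy, e⟩ := pt.lift hr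
      exact e.mem_img ⟨bp.pr.S_le_normalizer_V hy.1, by
        rintro _ rfl; exact bp.pr.commutator_X_E (mem_sup_right (il hy)) aE⟩
    · obtain ⟨c, hc, ct⟩ := pt.lift_comm (TS (mem_sup_right hl))
      exact hc.mem_img ⟨centralizer_le_normalizer _ (BP.CV_iff.2 ⟨hc.comm, ct⟩), by
        rintro _ rfl; exact zpowers_le.2 (BP.z_V _ _) (hc.of_St' aE.1 (aS hl))⟩
  have J1 := fun l (hl : l ∈ S.U.T0) => pt.lift_commMod aE (TS (mem_sup_right hl)) (T1 (mem_sup_right hl))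
  have J2 := fun l (hl : l ∈ S.U.T0) => pt.lift_commMod bE (TS (mem_sup_right hl)) (by
    obtain ⟨c, hc, e⟩ := mem_img.1 (T1 (hβ l (mem_sup_right hl)))
    have := hb.conj e
    rw [show β * (β⁻¹ * l * β) * β⁻¹ = l by group] at this
    refine this.mem_img ⟨mul_mem (mul_mem bV hc.1) (inv_mem bV), ?_⟩
    rintro _ rfl
    have := conj_mem_of_mem_normalizer bV (hc.2 a1 rfl)
    convert this using 1
    group)
  have bV' : b * a1 * b⁻¹ ∉ VV S.z M.t := fun m => aV (by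
    simpa [mul_assoc] using conj_mem_of_mem_normalizer (inv_mem bV) m)
  have hv : a1 * (b * a1 * b⁻¹) ∈ VV S.z M.t := bp.mem_V_of_comm fun y hy => by
    obtain ⟨r, -, e⟩ := pt.ex hy
    have i1 := pt.not_comm aE J1 S.U.T0_comm aV hy e
    have i2 := pt.not_comm bE J2 S.U.T0_comm bV' hy e
    by_cases hr : r ∈ ⁅S.U.Rp, S.U.T0⁆
    · exact (comm_mul (i1.2 hr).symm (i2.2 hr).symm).symm
    · exact (bp.hS.mul_comm_of_ne_of_ne aE.2 bE.2 hy.1 (fun e => hr (i1.1 e.symm))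
        (fun e => hr (i2.1 e.symm))).symm
  have hf : b * (a1 * (b * a1 * b⁻¹)) * b⁻¹ = a1 * (b * a1 * b⁻¹) := by
    calc _ = (b * a1 * b⁻¹) * ((b * b) * a1 * (b * b)⁻¹) := by group
      _ = _ := by rw [bb, one_mul, inv_one, mul_one, bp.pr.E_comm bE aE]
  have a2 := pa.d.sq
  rcases bp.mem_V.1 hv with e | e | e | e
  · exact ⟨a1, pa.d, pa.mem, pa.bp.pr.ne, comm_of_conj_eq (by
      rw [eq_inv_of_mul_eq_one_right e, inv_eq_self a2])⟩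
  · have a1t : a1 ≠ M.t := fun e => aV (e ▸ BP.x_V _ _)
    refine ⟨a1 * M.t, pt.d.mul pa.d aE.2 a1t, mul_mem pa.mem pt.mem, fun e => aV ?_,
      comm_of_conj_eq ?_⟩
    · rw [eq_mul_inv_of_mul_eq e]; exact mul_mem (BP.z_V _ _) (inv_mem (BP.x_V _ _))
    · rw [conj_mul', e1, eq_inv_mul_of_mul_eq e, inv_eq_self a2, mul_assoc, ← mul_assoc S.z, bp.zx,
        mul_assoc M.t, S.h.zz, mul_one]
  · rw [e] at hf; exact absurd (comm_of_conj_eq hf) bt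
  · rw [e, conj_mul', hb.cz, e1] at hf
    exact absurd (mul_left_cancel hf) (S.h.mul_z_ne _)

/-- The conclusions about the group generated. -/
structure Cc (M : S.Md) (G0 : Subgroup G) : Prop where
  gen : G0 = S.pre S.U.N ⊔ zpowers M.t'
  cent : ∀ g ∈ G0, g * S.z = S.z * g → g ∈ S.pre S.U.N
  odd : Odd ((S.pre S.U.N).relIndex G0)
  pairs : ∀ g ∈ G0, ∃ h ∈ S.pre S.U.N, h * (g * S.z * g⁻¹) * h⁻¹ ∈
    ({S.z, M.t, M.κ S.U.τ, M.t', M.z'} : Set G)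
  invol : ∀ x ∈ G0, x * x = 1 → ∃ g ∈ G0, g * x * g⁻¹ ∈ Qx S.z
  short : ∃ u ∈ Qx S.z, Commute u M.s ∧ Commute u M.t' ∧ Commute u (M.κ S.U.τ) ∧
    Commute u (M.κ S.U.τm) ∧ (∃ g ∈ G0, g * (S.z * M.κ S.U.τ) * g⁻¹ = u) ∧
    u ∉ closure ({S.z, M.t, S.U.a1 M.κ M.s} : Set G)

theorem Md.cc (M : S.Md) {G0 : Subgroup G} (h : S.U.Concl M.κ M.s M.t' G0) : Cc M G0 := by
  obtain ⟨h1, h2, h3, h4, h5, h6⟩ := h
  rw [M.Hc_eq] at h1 h2 h3 h4
  rw [M.Qc_eq] at h5 h6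
  rw [M.Uz] at h2 h4 h6
  rw [M.Ut] at h4 h6
  rw [M.Uz'] at h4
  exact ⟨h1, h2, h3, h4, h5, h6⟩

variable (S) in
/-- conjugates of `z` under `G0` -/
def Dl (G0 : Subgroup G) (x : G) : Prop := ∃ g ∈ G0, g * S.z * g⁻¹ = x

omit [Finite G] in
theorem Dl.d {G0 : Subgroup G} {x : G} (h : S.Dl G0 x) : S.D x := by
  obtain ⟨g, -, e⟩ := h; exact ⟨g, e⟩

omit [Finite G] in
theorem Dl.conj {G0 : Subgroup G} {x g : G} (h : S.Dl G0 x) (hg : g ∈ G0) : S.Dl G0 (g * x * g⁻¹) := by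
  obtain ⟨k, hk, rfl⟩ := h
  exact ⟨g * k, mul_mem hg hk, by group⟩

namespace Cc

variable {M : S.Md} {G0 : Subgroup G} (h : Cc M G0)
include h

omit [Finite G]

theorem H_le : S.pre S.U.N ≤ G0 := h.gen ▸ le_sup_left
theorem Q_le : Qx S.z ≤ G0 := (Q_le_pre _).trans h.H_le
theorem t'_mem : M.t' ∈ G0 := h.gen ▸ mem_sup_right (mem_zpowers _)
theorem dl_mem {x : G} (hx : S.Dl G0 x) : x ∈ G0 := by
  obtain ⟨g, hg, rfl⟩ := hx
  exact mul_mem (mul_mem hg (h.Q_le S.h.mem)) (inv_mem hg)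

variable [Finite G]

theorem dl_t : S.Dl G0 M.t := ⟨_, mul_mem (h.Q_le M.op.ps.mem) h.t'_mem, M.gz⟩

theorem C_norm : centralizer {S.z} ≤ normalizer (G0 : Set G) := by
  intro c hc
  have hc := mcs.1 hc
  apply mem_normalizer_of_conj_mem
  have : cj G0 c ≤ G0 := by
    conv_lhs => rw [h.gen, cj_sup, cj_zpowers]
    refine sup_le ?_ (zpowers_le.2 ?_)
    · rintro _ ⟨x, hx, rfl⟩
      exact h.H_le (conj_mem_pre hc hx)
    · obtain ⟨w, hw⟩ := exists_lf hc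
      obtain ⟨n, hn, m⟩ := S.U.frattini w
      have h1 : c * (M.κ (n⁻¹ * w))⁻¹ ∈ G0 :=
        h.H_le ((hw.mul (M.lf _).inv).mem_pre.2 (by simpa using hn))
      have := mul_mem (mul_mem h1 h.t'_mem) (inv_mem h1)
      rwa [show ∀ k : G, c * k⁻¹ * M.t' * (c * k⁻¹)⁻¹ = c * (k⁻¹ * M.t' * k⁻¹⁻¹) * c⁻¹ from
        fun k => by group, conj_eq_of_comm (comm_inv (M.κt' (M.pt.norm_le m)))] at this
  exact fun x hx => this (conj_mem_cj c hx)

theorem dl_conj {m x : G} (hm : m ∈ centralizer {S.z} ⊔ G0) (hx : S.Dl G0 x) :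
    S.Dl G0 (m * x * m⁻¹) := by
  obtain ⟨c, hc, g, hg, rfl⟩ := (mem_sup_of_le_normalizer' h.C_norm).1 hm
  obtain ⟨k, hk, rfl⟩ := hx
  refine ⟨c * (g * k) * c⁻¹, conj_mem_of_mem_normalizer (h.C_norm hc) (mul_mem hg hk), ?_⟩
  calc _ = c * (g * k) * (c⁻¹ * S.z * c⁻¹⁻¹) * (c * (g * k))⁻¹ := by group
    _ = _ := by rw [conj_eq_of_comm (comm_inv (mcs.1 hc))]; group

theorem dl_of_mem {x : G} (hd : S.D x) (hx : x ∈ G0) : S.Dl G0 x := by
  obtain ⟨g, hg, m⟩ := h.invol x hx hd.sq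
  have : S.Dl G0 (g * x * g⁻¹) := by
    by_cases e : g * x * g⁻¹ = S.z
    · exact ⟨1, one_mem _, by rw [e]; group⟩
    · obtain ⟨n, hn, c, hc, e⟩ := M.pt.exists_conj (hd.conj g) m e
      have := h.dl_t.conj (inv_mem (h.H_le (hc.mem_pre.2 hn)))
      rwa [conj_conj_inv e] at this
  simpa [mul_assoc] using this.conj (inv_mem hg)

theorem mem_H {a : G} (hd : S.D a) (ha : a * S.z = S.z * a) : a ∈ S.pre S.U.N := by
  by_contra hn
  obtain ⟨x, h1, h2, h3, h4⟩ := M.exists_fixed ha hd.sq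
  obtain ⟨g, rfl⟩ := hd
  have key : ∀ y, S.D y → y ∈ Qx S.z → g * S.z * g⁻¹ * y = y * (g * S.z * g⁻¹) →
      g⁻¹ * y * g⁻¹⁻¹ * S.z = S.z * (g⁻¹ * y * g⁻¹⁻¹) ∧ g⁻¹ * y * g⁻¹⁻¹ ∉ S.pre S.U.N := by
    intro y hy hQ hc
    have c1 := comm_conj g⁻¹ hc
    rw [conj_conj_inv rfl] at c1
    refine ⟨c1.symm, fun m => hn ?_⟩
    obtain ⟨g0, hg0, e0⟩ := h.dl_of_mem (hy.conj _) (h.H_le m)
    obtain ⟨g1, hg1, e1⟩ := h.dl_of_mem hy (h.Q_le hQ)
    have m1 : g0⁻¹ * S.z * g0⁻¹⁻¹ ∈ S.pre S.U.N :=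
      h.cent _ (mul_mem (mul_mem (inv_mem hg0) (h.Q_le S.h.mem)) (inv_mem (inv_mem hg0))) (by
        have := comm_conj g0⁻¹ c1
        rwa [conj_conj_inv e0] at this)
    have c2 : g1⁻¹ * g * g0 * S.z = S.z * (g1⁻¹ * g * g0) := comm_of_conj_eq (by
      calc _ = g1⁻¹ * (g * (g0 * S.z * g0⁻¹) * g⁻¹) * g1 := by group
        _ = g1⁻¹ * y * g1 := by rw [e0]; group
        _ = _ := by rw [← e1]; group)
    have m2 := h.H_le (conj_mem_pre c2 m1)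
    refine h.cent _ ?_ ha
    simpa [mul_assoc] using mul_mem (mul_mem hg1 m2) (inv_mem hg1)
  obtain ⟨a1, a2⟩ := key x h1 h2 h4
  obtain ⟨b1, b2⟩ := key S.z S.Dz S.h.mem ha
  refine (key (x * S.z) (S.Dz.mul h1 h2 h3) (mul_mem h2 S.h.mem) (comm_mul h4.symm ha.symm).symm).2 ?_
  rw [conj_mul']
  exact mul_mem_pre a1 b1 a2 b2 (h1.conj _).sq (S.Dz.conj _).sq (comm_conj _ (S.h.cen x h2))

theorem dl_of_mem_M {a : G} (hd : S.D a) (ha : a ∈ centralizer {S.z} ⊔ G0) : S.Dl G0 a := by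
  have ho : Odd {b | S.Dl G0 b}.ncard := by
    have h1 := H10.Bender.relIndex_cent_eq_ncard G0 S.z
    have h2 : (centralizer {S.z}).relIndex G0 = (S.pre S.U.N).relIndex G0 := by
      rw [← inf_relIndex_right, ← inf_relIndex_right (S.pre S.U.N)]
      congr 1
      exact le_antisymm (fun x hx => ⟨h.cent x hx.2 (mcs.1 hx.1), hx.2⟩) (inf_le_inf_right _ (pre_le _))
    have := h.odd
    rw [← h2, h1] at this
    exact this
  obtain ⟨_, ⟨g, hg, rfl⟩, e⟩ := H86.exists_commute_of_odd hd.sq ho (fun y hy => h.dl_conj ha hy)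
  have c1 := comm_conj g⁻¹ (comm_of_conj_eq e)
  rw [conj_conj_inv rfl] at c1
  refine h.dl_of_mem hd ?_
  simpa [mul_assoc] using mul_mem (mul_mem hg (h.H_le (h.mem_H (hd.conj _) c1))) (inv_mem hg)

omit h [Finite G] in
theorem cent_le {x c : G} (hx : S.Dl G0 x) (hc : c * x = x * c) : c ∈ centralizer {S.z} ⊔ G0 := by
  obtain ⟨g, hg, rfl⟩ := hx
  have c1 := comm_conj g⁻¹ hc
  rw [conj_conj_inv rfl] at c1
  have : g ∈ centralizer {S.z} ⊔ G0 := mem_sup_right hg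
  simpa [mul_assoc] using mul_mem (mul_mem this (mem_sup_left (mcs.2 c1))) (inv_mem this)

theorem p1 (g : G) : g * S.z * g⁻¹ ∈ centralizer {S.z} ⊔ G0 ↔ g ∈ centralizer {S.z} ⊔ G0 := by
  refine ⟨fun m => ?_, fun m => mul_mem (mul_mem m (mem_sup_left (mcs.2 rfl))) (inv_mem m)⟩
  obtain ⟨k, hk, e⟩ := h.dl_of_mem_M (S.Dz.conj g) m
  have : k⁻¹ * g ∈ centralizer {S.z} := mcs.2 (comm_of_conj_eq (by
    calc _ = k⁻¹ * (g * S.z * g⁻¹) * k := by group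
      _ = _ := by rw [← e]; group))
  simpa using mul_mem (mem_sup_right hk : k ∈ centralizer {S.z} ⊔ G0) (mem_sup_left this)

end Cc

end Ctx

end Cfsg.Agent.H38.E6
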