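import Cfsg.Agent.H38.E6G
import Cfsg.Agent.H86.ZD2
import Cfsg.Agent.H86.ZDFinal
import Cfsg.Agent.H86.BenCor
import Cfsg.Agent.H10.BenderMain

/-!
# The group generated is normal
-/

set_option autoImplicit false

namespace Cfsg.Agent.H38.E6

open Subgroup H49 H98
open scoped commutatorElement

universe u

theorem zd_false {Γ : Type u} [Group Γ] [Finite Γ] {H : Subgroup Γ} {z c a : Γ} (h : H86.ZD H z)
    (hI : ∀ b, IsConj z b → b ∈ H → b * a = a * b) (hc : c ∈ normalClosure ({z} : Set Γ))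
    (hcH : c ∈ H) (cc : c * c = 1) (ha : IsConj z a) (e : c * a * c⁻¹ * a⁻¹ = z) : False := by
  have U := h.uf H86.zd_core
  have o : ∀ d (hd : IsConj z d), orderOf (h.pr ⟨d, h.mem_K hd⟩) = 2 := fun d hd =>
    h.orderOf_pr (k := ⟨d, h.mem_K hd⟩) (orderOf_two_iff.1 (h.conj_two hd)).2 (h.exists_fix hd)
  have z1 := (orderOf_two_iff.1 (o z (IsConj.refl z))).1
  have key : h.pr ⟨c, hc⟩ * h.pr ⟨a, h.mem_K ha⟩ ≠ h.pr ⟨a, h.mem_K ha⟩ * h.pr ⟨c, hc⟩ := by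
    intro e1
    apply z1
    have : (⟨z, h.mem_K (IsConj.refl z)⟩ : normalClosure ({z} : Set Γ)) =
        ⟨c, hc⟩ * ⟨a, h.mem_K ha⟩ * (⟨c, hc⟩)⁻¹ * (⟨a, h.mem_K ha⟩)⁻¹ := Subtype.ext e.symm
    rw [this, map_mul, map_mul, map_mul, map_inv, map_inv, e1]; group
  have oc : orderOf (h.pr ⟨c, hc⟩) = 2 := orderOf_two_iff.2 ⟨fun e1 => key (by rw [e1]; simp), by
    rw [← map_mul, ← map_one h.pr]; congr 1; exact Subtype.ext cc⟩
  obtain ⟨y, hy⟩ := h.exists_ne ((1 : Γ) : Γ ⧸ H)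
  obtain ⟨d1, hd1, f1⟩ := h.exists_conj_fix y
  obtain ⟨d2, hd2, f2⟩ := h.exists_conj_fix ((1 : Γ) : Γ ⧸ H)
  obtain ⟨l, -, hl⟩ := U.conj_of_nontrivial (Y := ⊤) ⟨y, ⟨_, trivial, o d1 hd1, f1⟩, _,
    ⟨_, trivial, o d2 hd2, f2⟩, hy⟩ trivial trivial (o z (IsConj.refl z)) oc
  obtain ⟨k, rfl⟩ := h.pr_surj l
  rw [← map_inv, ← map_mul, ← map_mul] at hl
  have m : (k : Γ) * z * (k : Γ)⁻¹ ∈ H := H10.smul_one_eq_iff.1 (by
    have := h.pr_smul (k * ⟨z, h.mem_K (IsConj.refl z)⟩ * k⁻¹) ((1 : Γ) : Γ ⧸ H)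
    rw [hl, h.pr_smul, H10.smul_one_eq_iff.2 hcH] at this
    exact this.symm)
  apply key
  rw [← hl, ← map_mul, ← map_mul]
  congr 1
  exact Subtype.ext (hI _ (isConj_iff.2 ⟨k, rfl⟩) m)

theorem not_mem_sup {G : Type*} [Group G] {A P : Subgroup G} {u b : G} (hu : u * u = 1)
    (hc : ∀ a ∈ A, a * u = u * a) (hb : b ∉ A) (hA : A ≤ P) (hP : b ∈ P) (hn : u ∉ P) :
    b ∉ A ⊔ zpowers u := by
  intro m
  obtain ⟨a, ha, v, hv, rfl⟩ := (mem_sup_of_le_normalizer' (fun a ha => by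
    rw [← cj_eq_iff, cj_zpowers, conj_eq_of_comm (hc a ha)])).1 m
  rcases (mem_zpowers_invol hu).1 hv with rfl | rfl
  · exact hb (by simpa using ha)
  · exact hn (by simpa using mul_mem (inv_mem (hA ha)) hP)

theorem exists_cent {G : Type*} [Group G] [Finite G] {Q : Subgroup G} {x a c u b : G} (h : XS Q x)
    (ha : a ∈ Q) (hc : c ∈ Q) (hu : u ∈ Q) (hb : b ∈ Q) (hx : x = a ∨ x = c)
    (hn : b ∉ closure ({a, c} : Set G) ⊔ zpowers u) :
    ∃ g ∈ Q, g * a = a * g ∧ g * c = c * g ∧ g * u = u * g ∧ g * b * g⁻¹ = b * x := by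
  have h1 : a ∈ closure ({a, c} : Set G) ⊔ zpowers u := mem_sup_left (BP.z_V a c)
  have h2 : c ∈ closure ({a, c} : Set G) ⊔ zpowers u := mem_sup_left (BP.x_V a c)
  obtain ⟨g, hg, e⟩ := h.exists_conj_centralizer (U := closure ({a, c} : Set G) ⊔ zpowers u)
    (sup_le ((closure_le _).2 (by rintro _ (rfl | rfl) <;> assumption)) (zpowers_le.2 hu))
    (by rcases hx with rfl | rfl <;> assumption) hb hn
  exact ⟨g, hg.1, (hg.2 a h1).symm, (hg.2 c h2).symm, (hg.2 u (mem_sup_right (mem_zpowers u))).symm, e⟩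

namespace Ctx

variable {G W : Type u} [Group G] [Group W] {S : Ctx G W} [Finite G]

theorem sympl {ρ u : G} (hd : S.D ρ) (hc : ρ * S.z = S.z * ρ) (hn : ρ ∉ Qx S.z)
    (hz : ¬ S.D (S.z * ρ)) (hu : u ∈ Qx S.z) (hu' : u ∈ Qx ρ) (ud : ¬ S.D u) (u1 : u ≠ 1)
    (uu : u * u = 1) : ∃ q ∈ Qx S.z, q * u = u * q ∧ q * ρ * q⁻¹ = ρ * u * S.z := by
  have cm : ∀ q ∈ Qx S.z, q * ρ * q⁻¹ * ρ⁻¹ ∈ Qx S.z := fun q hq => by
    simpa [mul_assoc] using mul_mem hq (S.h.conj_mem hc (inv_mem hq))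
  have hm : ∀ a b : G, (∃ q ∈ Qx S.z, a * (q * ρ * q⁻¹ * ρ⁻¹)⁻¹ ∈ zpowers S.z) →
      (∃ q ∈ Qx S.z, b * (q * ρ * q⁻¹ * ρ⁻¹)⁻¹ ∈ zpowers S.z) →
      ∃ q ∈ Qx S.z, a * b * (q * ρ * q⁻¹ * ρ⁻¹)⁻¹ ∈ zpowers S.z := by
    rintro a b ⟨p, hp, e1⟩ ⟨q, hq, e2⟩
    refine ⟨q * p, mul_mem hq hp, ?_⟩
    have h1 := S.h.conj_mem_of_z_mem S.h.Z_le (mem_zpowers _) (cm p hp) e2
    have := mul_mem (mul_mem e1 h1) (S.h.commutator_mem (cm p hp) hq)
    convert this using 1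
    group
  have hQ : ∀ a : G, (∃ q ∈ Qx S.z, a * (q * ρ * q⁻¹ * ρ⁻¹)⁻¹ ∈ zpowers S.z) → a ∈ Qx S.z := by
    rintro a ⟨q, hq, e⟩
    simpa only [inv_mul_cancel_right] using mul_mem (S.h.Z_le e) (cm q hq)
  let A : Subgroup G :=
    { carrier := {a | ∃ q ∈ Qx S.z, a * (q * ρ * q⁻¹ * ρ⁻¹)⁻¹ ∈ zpowers S.z}
      one_mem' := ⟨1, one_mem _, by simp⟩
      mul_mem' := fun ha hb => hm _ _ ha hb
      inv_mem' := fun {a} ha => by
        have e : a⁻¹ = a * a * a := inv_eq_of_mul_eq_one_right (by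
          rw [← S.h.pow_four (hQ a ha)]; simp [pow_succ, mul_assoc])
        rw [e]; exact hm _ _ (hm _ _ ha ha) ha }
  have zρ : S.z ∉ Qx ρ := fun m => hn (hd.symm S.Dz m)
  have : u ∈ A := by
    rw [← S.h.centralizer_centralizer (U := A) hQ ⟨1, one_mem _, by simp⟩]
    refine ⟨hu, fun x hx => ?_⟩
    have hx' : ρ⁻¹ * x * ρ⁻¹⁻¹ ∈ Qx S.z := S.h.conj_mem (comm_inv hc) hx.1
    have h1 := S.h.cent _ (mul_mem (inv_mem (il hx)) hx') fun q hq => by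
      have c0 := hx.2 (q * ρ * q⁻¹ * ρ⁻¹) ⟨q, hq, by simp⟩
      have i1 : x⁻¹ * q = q * x⁻¹ ↔ ρ⁻¹ * x * ρ⁻¹⁻¹ * q = q * (ρ⁻¹ * x * ρ⁻¹⁻¹) := by
        constructor
        · intro e
          have e1 := comm_mul (comm_inv (show q * x = x * q by simpa using (comm_inv e).symm)) c0
          have e2 := comm_conj ρ⁻¹ e1
          rw [show ρ⁻¹ * (q⁻¹ * (q * ρ * q⁻¹ * ρ⁻¹)) * ρ⁻¹⁻¹ = q⁻¹ by group] at e2
          simpa using (comm_inv e2).symm
        · intro e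
          have e1 := comm_conj ρ e
          rw [show ρ * (ρ⁻¹ * x * ρ⁻¹⁻¹) * ρ⁻¹ = x by group] at e1
          have e2 := comm_mul c0 e1.symm
          rw [show q * ρ * q⁻¹ * ρ⁻¹ * (ρ * q * ρ⁻¹) = q by group] at e2
          exact comm_inv e2.symm
      by_cases e : x⁻¹ * q = q * x⁻¹
      · exact comm_mul e (i1.1 e)
      · exact S.h.mul_comm_of_ne_of_ne (inv_mem (il hx)) hx' hq e (fun e' => e (i1.2 e'))
    have h2 : x * ρ = ρ * x := by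
      rcases h1 with e | e
      · calc x * ρ = ρ * x * (x⁻¹ * (ρ⁻¹ * x * ρ⁻¹⁻¹)) := by group
          _ = _ := by rw [e, mul_one]
      · refine absurd (hd.conj' (g := x⁻¹) ?_) hz
        calc x⁻¹ * ρ * x⁻¹⁻¹ = x⁻¹ * (ρ⁻¹ * x * ρ⁻¹⁻¹) * ρ⁻¹ := by
              rw [inv_inv ρ, inv_eq_self hd.sq, mul_assoc, mul_assoc, mul_assoc, mul_assoc, hd.sq,
                mul_one, inv_inv]
          _ = _ := by rw [e, inv_eq_self hd.sq]
    by_contra hne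
    apply zρ
    rw [← S.h.commutator_eq_z hx.1 hu hne]
    exact mul_mem (hd.lx.conj_mem h2 hu') (inv_mem hu')
  obtain ⟨q, hq, e⟩ := this
  have uρ := hd.lx.cen u hu'
  rcases S.h.mem_Z.1 e with e | e
  · exfalso
    have e1 : q * ρ * q⁻¹ = u * ρ := by rw [mul_inv_eq_one.1 e]; group
    have := hd.mul (hd.conj' e1) (mul_mem hu' hd.lx.mem) (by simpa using u1)
    rw [mul_assoc, hd.sq, mul_one] at this
    exact ud this
  · have e1 : q * ρ * q⁻¹ = ρ * u * S.z := by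
      calc q * ρ * q⁻¹ = (u * (q * ρ * q⁻¹ * ρ⁻¹)⁻¹)⁻¹ * (u * ρ) := by group
        _ = _ := by rw [e, S.h.inv_z, uρ, comm_mul hc (S.h.cen u hu)]
    refine ⟨q, hq, ?_, e1⟩
    by_contra hne
    have e2 : q * (q * ρ * q⁻¹) * q⁻¹ = ρ := by
      rw [show q * (q * ρ * q⁻¹) * q⁻¹ = (q * q) * ρ * (q * q)⁻¹ by group]
      rcases S.h.sq hq with e | e <;> rw [e]
      · group
      · exact conj_eq_of_comm hc.symm
    rw [e1, conj_mul', conj_mul', e1, S.h.conj_of_ne hq hu hne, conj_eq_of_comm (S.h.cen q hq),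
      mul_assoc, mul_assoc u, S.h.zz, mul_one, mul_assoc, ← S.h.cen u hu, mul_assoc, ← mul_assoc u,
      uu, one_mul] at e2
    exact S.h.ne (by simpa using e2)

variable (S) in
/-- the members of `Δ` whose `Q` contains `u` -/
structure II (G0 : Subgroup G) (u y : G) : Prop where
  dl : S.Dl G0 y
  mem : u ∈ Qx y

namespace Cc

variable {M : S.Md} {G0 : Subgroup G} (h : Cc M G0)
include h

omit [Finite G] h in
theorem Q_le_M {y q : G} (hy : S.Dl G0 y) (hq : q ∈ Qx y) : q ∈ centralizer {S.z} ⊔ G0 :=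
  cent_le hy (hy.d.lx.cen q hq)

section

variable {u : G} (hz : ¬ S.D (S.z * M.κ S.U.τ)) (ud : ¬ S.D u) (u1 : u ≠ 1) (uu : u * u = 1)
include hz ud u1 uu

theorem cases {y y' : G} (hy : S.II G0 u y) (hy' : S.II G0 u y') : y' ∈ Qx y ∨
    (y' * y = y * y' ∧ y' ∉ Qx y ∧ ∃ q ∈ Qx y, q * u = u * q ∧ q * y' * q⁻¹ = y' * u * y) := by
  obtain ⟨⟨g, hg, e⟩, m⟩ := hy
  obtain ⟨g', hg', e'⟩ := hy'.dl.conj (inv_mem hg)
  obtain ⟨k, hk, H⟩ := h.pairs g' hg'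
  have e1 : k * g⁻¹ * y * (k * g⁻¹)⁻¹ = S.z := by
    calc _ = k * S.z * k⁻¹ := by rw [← e]; group
      _ = _ := conj_eq_of_comm (mcs.1 (pre_le _ hk))
  rw [e', show k * (g⁻¹ * y' * g⁻¹⁻¹) * k⁻¹ = k * g⁻¹ * y' * (k * g⁻¹)⁻¹ by group] at H
  generalize k * g⁻¹ = n at e1 H
  have m1 := conj_mem_Qx' m rfl e1
  have m2 := conj_mem_Qx n hy'.mem
  have d1 : ¬ S.D (n * u * n⁻¹) := fun d => ud (d.conj' (conj_conj_inv rfl))
  have d2 : n * u * n⁻¹ ≠ 1 := by simpa using u1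
  have back : ∀ a ∈ Qx S.z, n * y' * n⁻¹ = a → y' ∈ Qx y := fun a ha e =>
    conj_mem_Qx' ha (conj_conj_inv e) (conj_conj_inv e1)
  rcases H with e | e | e | e | e
  · exact Or.inl (back _ S.h.mem e)
  · exact Or.inl (back _ M.pt.mem e)
  · right
    rw [e] at m2
    obtain ⟨q, hq, c1, c2⟩ := sympl M.dρ (M.lf _).comm M.ρ_not hz m1 m2 d1 d2
      (by rw [← conj_mul', uu]; group)
    refine ⟨comm_of_conj n (by rw [e, e1]; exact (M.lf _).comm), fun m => M.ρ_not (conj_mem_Qx' m e e1),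
      _, conj_mem_Qx' hq rfl (conj_conj_inv e1), ?_, ?_⟩
    · simpa [mul_assoc] using comm_conj n⁻¹ c1
    · calc _ = n⁻¹ * (q * (n * y' * n⁻¹) * q⁻¹) * n := by group
        _ = n⁻¹ * ((n * y' * n⁻¹) * (n * u * n⁻¹) * (n * y * n⁻¹)) * n := by rw [e, c2, e1]
        _ = _ := by group
  · rw [e] at m2
    rcases M.Q_inf m1 m2 with e | e
    · exact absurd e d2
    · exact absurd (e ▸ M.pt.d) d1
  · rw [e] at m2
    exact absurd (M.Qz _ m1 (M.dz.lx.cen _ m2)) d2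

theorem comm {y y' : G} (hy : S.II G0 u y) (hy' : S.II G0 u y') : y' * y = y * y' :=
  (h.cases hz ud u1 uu hy hy').elim (hy.dl.d.lx.cen y') fun H => H.1

omit hz ud u1 uu in
theorem ii_mul {y y' : G} (hy : S.II G0 u y) (hy' : S.II G0 u y') (m : y' ∈ Qx y) (ne : y' ≠ y) :
    S.II G0 u (y' * y) := by
  obtain ⟨q, hq, e⟩ := hy.dl.d.lx.exists_conj_eq_mul_z m hy'.dl.d.lx.ne ne
  refine ⟨e ▸ h.dl_conj (Q_le_M hy.dl hq) hy'.dl, ?_⟩
  rw [← e, ← cj_Qx]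
  exact (hy.dl.d.pair hy'.dl.d m ne).E_le_cj hq ⟨hy.mem, hy'.mem⟩

omit hz ud u1 uu in
theorem ii_conj {y c : G} (hy : S.II G0 u y) (hc : c ∈ centralizer {S.z} ⊔ G0) (cu : c * u = u * c) :
    S.II G0 u (c * y * c⁻¹) := ⟨h.dl_conj hc hy.dl, conj_mem_Qx' hy.mem (conj_eq_of_comm cu) rfl⟩

theorem closed {y y' : G} (hy : S.II G0 u y) (hy' : S.II G0 u y') (ne : y' ≠ y) :
    S.II G0 u (y' * y) ∨ S.II G0 u (y' * u * y) := by
  rcases h.cases hz ud u1 uu hy hy' with m | ⟨-, -, q, hq, c1, c2⟩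
  · exact Or.inl (h.ii_mul hy hy' m ne)
  · exact Or.inr (c2 ▸ h.ii_conj hy' (Q_le_M hy.dl hq) c1)

theorem trans {y y' : G} (hy : S.II G0 u y) (hy' : S.II G0 u y') :
    ∃ c, c * u = u * c ∧ c * y * c⁻¹ = y' := by
  by_cases ne : y' = y
  · exact ⟨1, by simp, by simp [ne]⟩
  have yy := hy.dl.d.sq
  have cm := h.comm hz ud u1 uu hy hy'
  have uy := hy.dl.d.lx.cen u hy.mem
  have uy' := hy'.dl.d.lx.cen u hy'.mem
  rcases h.cases hz ud u1 uu hy hy' with m | ⟨-, m, q, hq, c1, c2⟩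
  · have h2 := h.ii_mul hy hy' m ne
    have f4 : Four (y' * y) u := ⟨h2.dl.d.lx.ne, u1, h2.dl.d.sq, uu, fun e => ud (e ▸ h2.dl.d),
      (h2.dl.d.lx.cen u h2.mem).symm⟩
    obtain ⟨q, -, -, c, -, e⟩ := exists_cent h2.dl.d.lx.toXS h2.dl.d.lx.mem h2.mem h2.mem
      (hy.dl.d.symm h2.dl.d (mul_mem m hy.dl.d.lx.mem)) (Or.inl rfl) (by
        rw [sup_eq_left.2 (zpowers_le.2 (BP.x_V _ _)), f4.mem_closure]
        rintro (e | e | e | e)
        · exact hy.dl.d.lx.ne e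
        · exact hy'.dl.d.lx.ne (by simpa using e)
        · exact ud (e ▸ hy.dl.d)
        · rw [mul_assoc, ← uy, ← mul_assoc, eq_comm, mul_eq_right] at e
          rw [eq_inv_of_mul_eq_one_left e, inv_eq_self uu] at hy'
          exact ud hy'.dl.d)
    exact ⟨q, c, by rw [e, cm, ← mul_assoc, yy, one_mul]⟩
  · have h2 := c2 ▸ h.ii_conj hy' (Q_le_M hy.dl hq) c1
    rcases h.cases hz ud u1 uu h2 hy with m' | ⟨-, -, q, hq, c1, c2⟩
    · refine absurd ?_ m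
      simpa using mul_mem (mul_mem (h2.dl.d.symm hy.dl.d m') (inv_mem hy.dl.d.lx.mem)) (inv_mem hy.mem)
    · refine ⟨q, c1, ?_⟩
      rw [c2, ← uy', mul_assoc y, ← mul_assoc u, ← mul_assoc u, uu, one_mul, cm, ← mul_assoc, yy, one_mul]

theorem zd (hu : u ∈ Qx S.z) (hn : ¬ centralizer {u} ≤ centralizer {S.z} ⊔ G0)
    (hzu : S.z ∈ centralizer ({u} : Set G)) :
    H86.ZD ((centralizer {S.z} ⊔ G0).subgroupOf (centralizer {u})) ⟨S.z, hzu⟩ := by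
  have : Fact (Nat.Prime 2) := ⟨Nat.prime_two⟩
  have iz : S.II G0 u S.z := ⟨⟨1, one_mem _, by group⟩, hu⟩
  refine ⟨fun e => hn (subgroupOf_eq_top.1 e), ?_, fun g => h.p1 g, fun g hc hne c hc' => ?_⟩
  · obtain ⟨T, hT, hle⟩ := exists_sylIn_ge (p := 2) (U := Qx S.z ⊓ centralizer {u})
      (H := centralizer {u} ⊓ centralizer {S.z})
      (le_inf inf_le_right (inf_le_left.trans S.h.le_centralizer)) S.h.isPGroup.to_inf_left
    have zT : S.z ∈ T := hle ⟨S.h.mem, hzu⟩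
    have h2 := sylIn_of_normalizer_le hT (hT.le.trans inf_le_left) fun g hg hg' => ⟨hg, mcs.2 (by
      have := S.h.mem_of_centralizes_centralizer' hu uu (y := g * S.z * g⁻¹) fun a ha ha' => by
        have m := conj_mem_of_mem_normalizer (inv_mem hg') (hle ⟨ha, mcs.2 ha'⟩)
        simpa [mul_assoc] using comm_conj g (mcs.1 (hT.le m).2)
      rcases this with e | e | e | e
      · exact absurd e (S.Dz.conj g).lx.ne
      · exact comm_of_conj_eq e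
      · exact absurd (e ▸ S.Dz.conj g) ud
      · have := S.Dz.mul (e ▸ S.Dz.conj g) (mul_mem hu S.h.mem) (by simpa using u1)
        rw [mul_assoc, S.h.zz, mul_one] at this
        exact absurd this ud)⟩
    obtain ⟨R, hR⟩ := h2.exists_sylow
    refine ⟨by rw [orderOf_mk, S.h.orderOf_z], R, hR.ge zT, fun x hx => ?_⟩
    have : x ∈ (R : Subgroup _) := hx
    rw [hR] at this
    exact Subtype.ext (mcs.1 (hT.le this).2)
  · have c1 : S.z * (g * S.z * (g : G)⁻¹) = g * S.z * (g : G)⁻¹ * S.z := congrArg Subtype.val hc.eq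
    have c2 : (c : G) * (S.z * (g * S.z * (g : G)⁻¹)) = S.z * (g * S.z * (g : G)⁻¹) * c :=
      congrArg Subtype.val (mcs.1 hc')
    have i2 : S.II G0 u (g * S.z * (g : G)⁻¹) := ⟨h.dl_of_mem_M (S.Dz.conj _)
      (mem_sup_left (mcs.2 c1.symm)), conj_mem_Qx' hu (conj_eq_of_comm (mcs.1 g.2)) rfl⟩
    rcases h.closed hz ud u1 uu i2 iz (fun e => hne (Subtype.ext e.symm)) with H | H
    · exact cent_le H.dl c2
    · refine cent_le H.dl ?_
      rw [← S.h.cen u hu, mul_assoc u]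
      exact (comm_mul (mcs.1 c.2).symm c2.symm).symm

theorem cent_u (hu : u ∈ Qx S.z) (ht : u ∈ Qx M.t) (ha : u ∈ Qx (S.U.a1 M.κ M.s))
    (hn : u ∉ closure ({S.z, M.t, S.U.a1 M.κ M.s} : Set G)) :
    centralizer {u} ≤ centralizer {S.z} ⊔ G0 := by
  by_contra hc
  have hzu : S.z ∈ centralizer ({u} : Set G) := mcs.2 (S.h.cen u hu).symm
  have Z := h.zd hz ud u1 uu hu hc hzu
  have iz : S.II G0 u S.z := ⟨⟨1, one_mem _, by group⟩, hu⟩
  have pa := M.a1_pt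
  have aV := M.a1_not
  have at' := M.a1_t
  have pt := M.pt
  have it : S.II G0 u M.t := ⟨h.dl_t, ht⟩
  generalize S.U.a1 M.κ M.s = b at ha hn pa aV at'
  generalize M.t = a at ht hn aV at' pt it
  have ib : S.II G0 u b := ⟨h.dl_of_mem pa.d (h.Q_le pa.mem), ha⟩
  have ba := pt.d.lx.cen b at'
  have cu : ∀ y, S.II G0 u y → y ∈ centralizer ({u} : Set G) := fun y hy =>
    mcs.2 (hy.dl.d.lx.cen u hy.mem).symm
  have cj' : ∀ y (hy : S.II G0 u y), IsConj (⟨S.z, hzu⟩ : centralizer ({u} : Set G)) ⟨y, cu y hy⟩ :=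
    fun y hy => by
      obtain ⟨c, c1, c2⟩ := h.trans hz ud u1 uu iz hy
      exact isConj_iff.2 ⟨⟨c, mcs.2 c1⟩, Subtype.ext c2⟩
  have nm : ∀ x y : G, S.II G0 u x → y ∉ closure ({S.z, x} : Set G) →
      x ∈ closure ({S.z, a, b} : Set G) → y ∈ closure ({S.z, a, b} : Set G) →
      y ∉ closure ({S.z, x} : Set G) ⊔ zpowers u := fun x y hx h1 h2 h3 =>
    not_mem_sup uu (fun v hv => ((BP.CV_iff.2 ⟨(mcs.1 hzu).symm, (mcs.1 (cu x hx)).symm⟩) v hv)) h1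
      ((closure_le _).2 (by rintro _ (rfl | rfl); exacts [subset_closure (by simp), h2])) h3 hn
  have n1 := nm a b it aV (subset_closure (by simp)) (subset_closure (by simp))
  have n2 := nm b a ib (by
    rw [pa.bp.mem_V]
    rintro (e | e | e | e)
    · exact pt.bp.hS.ne e
    · exact pt.bp.pr.ne e
    · exact aV (e ▸ BP.x_V _ _)
    · exact aV (by simpa [e] using mul_mem (inv_mem (BP.z_V S.z a)) (BP.x_V S.z a)))
    (subset_closure (by simp)) (subset_closure (by simp))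
  obtain ⟨y1, m1, z1, a1, u1', e1⟩ := exists_cent pt.d.lx.toXS pt.bp.pr.zS pt.d.lx.mem ht at' (Or.inr rfl) n1
  obtain ⟨y2, m2, z2, b2, u2, e2⟩ := exists_cent pa.d.lx.toXS pa.bp.pr.zS pa.d.lx.mem ha
    (pt.d.symm pa.d at') (Or.inr rfl) n2
  obtain ⟨y0, m0, z0, b0, u0, e0⟩ := exists_cent S.h.toXS S.h.mem pa.mem hu pt.mem (Or.inl rfl) n2
  obtain ⟨k, hk, ek⟩ := Z.exists_conj_K (cj' b ib) (cj' a it)
  have ek : (k : G) * a * (k : G)⁻¹ = b := congrArg Subtype.val ek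
  let K := (normalClosure ({⟨S.z, hzu⟩} : Set (centralizer ({u} : Set G)))).map (centralizer {u}).subtype
  have Kn : ∀ c, c * u = u * c → ∀ x ∈ K, c * x * c⁻¹ ∈ K := by
    rintro c hc _ ⟨x, hx, rfl⟩
    exact ⟨_, normalClosure_normal.conj_mem x hx ⟨c, mcs.2 hc⟩, rfl⟩
  have kK : (k : G) ∈ K := ⟨k, hk, rfl⟩
  have ku := mcs.1 k.2
  generalize (k : G) = k at ek kK ku
  have gK : y1 * y2 * (y1 * y2) * (y1 * y2) * (y1 * y2) ∈ K := by
    have y3 : k⁻¹ * y2 * k⁻¹⁻¹ ∈ Qx a := conj_mem_Qx' m2 rfl (conj_conj_inv ek)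
    have u3 : k⁻¹ * y2 * k⁻¹⁻¹ * u = u * (k⁻¹ * y2 * k⁻¹⁻¹) :=
      comm_mul (comm_mul (comm_inv ku) u2) (comm_inv (comm_inv ku))
    have k1 := mul_mem (Kn _ (comm_inv u3) _ kK) (inv_mem kK)
    have p4 := pt.d.lx.pow_four (mul_mem m1 y3)
    have pu := comm_mul u1' u3
    have : y1 * y2 = y1 * (k⁻¹ * y2 * k⁻¹⁻¹) * ((k⁻¹ * y2 * k⁻¹⁻¹)⁻¹ * k * (k⁻¹ * y2 * k⁻¹⁻¹)⁻¹⁻¹ * k⁻¹) := by
      group
    rw [this]
    generalize (k⁻¹ * y2 * k⁻¹⁻¹)⁻¹ * k * (k⁻¹ * y2 * k⁻¹⁻¹)⁻¹⁻¹ * k⁻¹ = r at k1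
    generalize y1 * (k⁻¹ * y2 * k⁻¹⁻¹) = p at p4 pu
    have := Kn p pu _ (mul_mem k1 (Kn p pu _ (mul_mem k1 (Kn p pu _ (mul_mem k1 (Kn p pu _ k1))))))
    rw [show p ^ 4 = p * p * p * p by simp [pow_succ]] at p4
    convert this using 1
    calc _ = p * r * (p * r) * (p * r) * (p * r) * (p * p * p * p)⁻¹ := by rw [p4]; group
      _ = _ := by group
  have f1 : y1 * y2 * a * (y1 * y2)⁻¹ = b := by
    calc _ = y1 * (y2 * a * y2⁻¹) * y1⁻¹ := by group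
      _ = _ := by rw [e2, conj_mul', conj_eq_of_comm a1, e1, ba, ← mul_assoc, pt.d.sq, one_mul]
  have f2 : y1 * y2 * b * (y1 * y2)⁻¹ = b * a := by
    calc _ = y1 * (y2 * b * y2⁻¹) * y1⁻¹ := by group
      _ = _ := by rw [conj_eq_of_comm b2, e1]
  have f3 : y1 * y2 * (b * a) * (y1 * y2)⁻¹ = a := by
    rw [conj_mul', f1, f2, ba, mul_assoc, pa.d.sq, mul_one]
  have fz := comm_mul z1 z2
  have fu := comm_mul u1' u2
  generalize y1 * y2 = f at gK f1 f2 f3 fz fu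
  have g1 : f * f * f * f * a * (f * f * f * f)⁻¹ = b := by
    calc _ = f * (f * (f * (f * a * f⁻¹) * f⁻¹) * f⁻¹) * f⁻¹ := by group
      _ = _ := by rw [f1, f2, f3, f1]
  have gz := comm_mul (comm_mul (comm_mul fz fz) fz) fz
  generalize f * f * f * f = g at gK g1 gz
  have cK : y0 * g * y0⁻¹ * g⁻¹ ∈ K := mul_mem (Kn _ u0 _ gK) (inv_mem gK)
  have cQ : y0 * g * y0⁻¹ * g⁻¹ ∈ Qx S.z := by
    simpa [mul_assoc] using mul_mem m0 (S.h.conj_mem gz (inv_mem m0))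
  have cb : y0 * g * y0⁻¹ * g⁻¹ * b * (y0 * g * y0⁻¹ * g⁻¹)⁻¹ = b * S.z := by
    have : y0⁻¹ * a * y0⁻¹⁻¹ = a * S.z := S.h.conj_of_ne (inv_mem m0) pt.mem fun e =>
      S.h.mul_z_ne a (e0.symm.trans (conj_eq_of_comm (by simpa using comm_inv e)))
    calc _ = y0 * (g * (y0⁻¹ * (g⁻¹ * b * g⁻¹⁻¹) * y0⁻¹⁻¹) * g⁻¹) * y0⁻¹ := by group
      _ = _ := by rw [conj_conj_inv g1, this, conj_mul' g, g1, conj_eq_of_comm gz, conj_mul',
        conj_eq_of_comm b0, conj_eq_of_comm z0]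
  generalize y0 * g * y0⁻¹ * g⁻¹ = c at cK cQ cb
  have fin : ∀ c ∈ K, c ∈ Qx S.z → c * c = 1 → c * b * c⁻¹ = b * S.z → False := by
    rintro _ ⟨c, hc, rfl⟩ hQ cc e
    refine zd_false Z (a := ⟨b, cu b ib⟩) (fun d hd hd' => Subtype.ext ?_) hc
      (mem_sup_left (S.h.le_centralizer hQ)) (Subtype.ext cc) (cj' b ib) (Subtype.ext ?_)
    · obtain ⟨x, rfl⟩ := isConj_iff.1 hd
      exact h.comm hz ud u1 uu ib ⟨h.dl_of_mem_M (S.Dz.conj _) hd',
        conj_mem_Qx' hu (conj_eq_of_comm (mcs.1 x.2)) rfl⟩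
    · show (c : G) * b * (c : G)⁻¹ * b⁻¹ = S.z
      erw [e]; rw [S.h.cen b pa.mem, mul_inv_cancel_right]
  rcases S.h.sq cQ with e | e
  · exact fin c cK cQ e cb
  · refine fin (c * b) (mul_mem cK ⟨_, Z.mem_K (cj' b ib), rfl⟩) (mul_mem cQ pa.mem) ?_ (by
      rw [← cb]; group)
    calc c * b * (c * b) = (c * b * c⁻¹) * (c * c) * b := by group
      _ = 1 := by rw [cb, e, mul_assoc b, S.h.zz, mul_one, pa.d.sq]

end

theorem zd_top (hn : centralizer {S.z} ⊔ G0 ≠ ⊤) : H86.ZD (centralizer {S.z} ⊔ G0) S.z := by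
  refine ⟨hn, ?_, h.p1, fun g hc hne => ?_⟩
  · obtain ⟨T, hT, hle⟩ := exists_sylIn_ge (p := 2) S.h.le_centralizer S.h.isPGroup
    obtain ⟨R, rfl⟩ := (S.h.sylIn_top hT).exists_sylow_top
    exact ⟨S.h.orderOf_z, R, hle S.h.mem, fun x hx => mcs.1 (hT.le hx)⟩
  obtain ⟨g', hg', e⟩ := h.dl_of_mem_M (S.Dz.conj g) (mem_sup_left (mcs.2 hc.eq.symm))
  obtain ⟨k, hk, H⟩ := h.pairs g' hg'
  rw [e] at H
  have kz := mcs.1 (pre_le _ hk)
  have c1 := comm_conj k hc.eq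
  rw [conj_eq_of_comm kz] at c1
  have key : ∀ m ∈ G0, ∀ x, m * (S.z * (k * (g * S.z * g⁻¹) * k⁻¹)) * m⁻¹ = x →
      centralizer {x} ≤ centralizer {S.z} ⊔ G0 →
      centralizer {S.z * (g * S.z * g⁻¹)} ≤ centralizer {S.z} ⊔ G0 := by
    intro m hm x e H c hc
    have h1 : m * k ∈ centralizer {S.z} ⊔ G0 := mem_sup_right (mul_mem hm (h.H_le hk))
    have h2 : m * k * c * (m * k)⁻¹ ∈ centralizer {x} := mcs.2 (by
      have := comm_conj (m * k) (mcs.1 hc)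
      rwa [show m * k * (S.z * (g * S.z * g⁻¹)) * (m * k)⁻¹ =
        m * ((k * S.z * k⁻¹) * (k * (g * S.z * g⁻¹) * k⁻¹)) * m⁻¹ by group, conj_eq_of_comm kz, e] at this)
    simpa [mul_assoc] using mul_mem (mul_mem (inv_mem h1) (H h2)) h1
  have dl : ∀ x, S.D x → x ∈ G0 → centralizer {x} ≤ centralizer {S.z} ⊔ G0 := fun x h1 h2 c hc =>
    cent_le (h.dl_of_mem h1 h2) (mcs.1 hc)
  rcases H with e | e | e | e | e <;> rw [e] at key c1
  · exact absurd ((conj_conj_inv e).symm.trans (conj_eq_of_comm (comm_inv kz))) hne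
  · exact key 1 (one_mem _) (M.t * S.z) (by rw [← c1]; group)
      (dl _ M.pt.mul_z.d (h.Q_le M.pt.mul_z.mem))
  · obtain ⟨u, hu, c2, c3, c4, c5, ⟨m, hm, e1⟩, hn⟩ := h.short
    refine key m hm u e1 ?_
    by_cases ud : S.D u
    · exact dl u ud (h.Q_le hu)
    have ht : u ∈ Qx M.t := conj_mem_Qx' hu (conj_eq_of_comm (c2.mul_right c3).eq.symm) M.gz
    refine h.cent_u (fun d => ud (d.conj' e1)) ud (fun e => hn (e ▸ one_mem _)) ?_ hu ht ?_ hn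
    · rw [← e1, ← conj_mul', mul_assoc S.z, ← mul_assoc (M.κ _), ← c1, mul_assoc S.z, M.dρ.sq,
        mul_one, S.h.zz]; group
    · refine conj_mem_Qx' ht (g := M.κ S.U.n1) (conj_eq_of_comm ?_) (by rw [UD.a1, M.Ut])
      rw [UD.n1, map_mul, map_mul]
      exact ((c4.mul_right c5).mul_right c4).eq.symm
  · exact absurd c1.symm M.t'_ne
  · exact absurd c1.symm M.z'_ne

theorem eq_top [IsSimpleGroup G0] (hna : ¬ IsMulCommutative G0) : centralizer {S.z} ⊔ G0 = ⊤ := by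
  by_contra hn
  have Z := h.zd_top hn
  have se := Z.se_of_odd H86.zd_core fun u _ hu m => Z.not_mem_core (Z.exists_fix (IsConj.refl _))
    (S.h.z_mem_of_even le_normalizer_of_normal (hu ▸ orderOf_dvd_natCard _ m))
  have zK := Z.mem_K (IsConj.refl S.z)
  have tK : M.t ∈ normalClosure {S.z} := Z.mem_K (isConj_iff.2 M.pt.d)
  have sol := H86.solvable_of_SE H10.Bender.main se ⟨⟨_, zK⟩, trivial, ⟨_, tK⟩, trivial,
    by rw [orderOf_mk, S.h.orderOf_z], by rw [orderOf_mk, M.pt.bp.hS.orderOf_z],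
    fun e => M.pt.bp.pr.ne (congrArg Subtype.val e).symm, Subtype.ext M.pt.bp.zx⟩
  have hle : G0 ≤ normalClosure {S.z} := by
    rcases (inferInstance : ((normalClosure {S.z}).subgroupOf G0).Normal).eq_bot_or_eq_top with e | e
    · have : (⟨S.z, h.Q_le S.h.mem⟩ : G0) ∈ (normalClosure {S.z}).subgroupOf G0 := zK
      rw [e, mem_bot] at this
      exact absurd (congrArg Subtype.val this) S.h.ne
    · exact subgroupOf_eq_top.1 e
  let f : G0 →* (centralizer {S.z} ⊔ G0).subgroupOf (normalClosure {S.z}) :=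
    (inclusion hle).codRestrict _ fun x => mem_sup_right x.2
  have : Group.IsSolvable G0 := Group.isSolvable_of_isSolvable_injective (f := f)
    fun a b e => Subtype.ext (congrArg (fun x => (x.1.1 : G)) e)
  exact hna ⟨⟨IsSimpleGroup.comm_iff_isSolvable.2 this⟩⟩

end Cc

end Ctx

end Cfsg.Agent.H38.E6
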