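import Cfsg.Agent.H38.E6H
import Cfsg.Agent.S1070

/-!
# Recognition, given the facts on the model
-/

set_option autoImplicit false

namespace Cfsg.Agent.H38.E6

open Subgroup H49 H98

universe u v

theorem Ctx.main {G W : Type u} [Group G] [Group W] [Finite G] (S : Ctx G W) (F : Type v) [Field F]
    [Fintype F] (hF : Fintype.card F = 4) (hCT : S.U.CT F)
    (h0 : ∃ x, S.D x ∧ x ∈ Qx S.z ∧ x ≠ S.z) :
    ∃ G0 : Subgroup G, Nonempty (G0 ≃* Lie.twistedE6 F 2) ∧ centralizer {S.z} ⊔ G0 = ⊤ ∧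
      centralizer {S.z} ⊓ G0 = S.pre S.U.N ∧ generalizedFittingSubgroup G = G0 := by
  obtain ⟨M⟩ := Ctx.exists_md h0
  obtain ⟨G0, hc, ⟨e⟩⟩ := hCT G M.κ M.s M.t' M.rel
  have h := M.cc hc
  obtain ⟨h1, h2⟩ := S1070.result (K := F) (q := 2) Nat.prime_two.isPrimePow (by rw [hF]; norm_num)
  have := e.isSimpleGroup
  have hna : ¬ IsMulCommutative G0 := fun H => h2 ⟨⟨fun a b => e.symm.injective (by
    rw [map_mul, map_mul, H.is_comm.comm])⟩⟩
  have ht := h.eq_top hna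
  have hn : G0.Normal := normalizer_eq_top_iff.1 (eq_top_iff.2 (ht ▸ sup_le h.C_norm le_normalizer))
  have hL : IsComponent G0 := ⟨hn.isSubnormal, H52.isQuasisimple_of_isSimpleGroup hna⟩
  refine ⟨G0, ⟨e⟩, ht, le_antisymm (fun x hx => h.cent x hx.2 (mcs.1 hx.1))
    (le_inf (Ctx.pre_le _) h.H_le), le_antisymm ((H52.IsComponent.fstar_le_sup_centralizer hL).trans
      (sup_le le_rfl fun c hc => h.Q_le (S.h.cQ fun q hq => hc q (h.Q_le hq))))
    (H52.IsComponent.le_fstar hL)⟩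

end Cfsg.Agent.H38.E6
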