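import Cfsg.Agent.H38.E8B
import Cfsg.Agent.H45.FiO2

/-!
Reduction of the Weyl group of type E8 modulo two: the orthogonal group of plus type in dimension eight.
-/

set_option autoImplicit false
set_option maxRecDepth 100000
set_option linter.unusedVariables false

namespace Cfsg.Agent.H38.E8

open Matrix Equiv WE Subgroup
open Cfsg.Agent.H45 (O8 nd8)
open scoped commutatorElement

abbrev J := Fin 4 ⊕ Fin 4

/-- a basis of the lattice -/
def bB : J → I → ℤ := Sum.elim ![![-1, 1, 2, 0, 0, 0, -1, 1], ![2, 2, 0, 0, 0, 0, 0, 0], ![2, 0, 0, 0, 1, 1, 1, -1],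
  ![0, 2, 1, -1, 1, -1, 0, 0]] ![![1, 1, -2, 0, 0, 0, 1, -1], ![-1, -2, -1, 0, 1, 0, 1, 0], ![0, -2, 1, 1, 1, 1, 0, 0],
  ![0, 0, -1, -1, 2, 0, 1, -1]]

/-- the dual basis -/
def cC : J → I → ℤ := Sum.elim ![![-1, 1, 0, 0, 0, 2, 1, 1], ![1, 0, -1, 0, 1, 0, -1, 2], ![0, 0, 1, -1, -1, 1, 2, 0],
  ![0, 0, 1, 1, 0, -2, 1, -1]] ![![-1, 1, 0, 2, 0, 0, 1, -1], ![0, 0, 0, 0, 0, 0, 2, 2], ![0, 0, 0, 2, 1, -1, -1, -1],
  ![0, 0, -1, -1, 1, 1, -2, 0]]

theorem cd_b : ∀ j, Cd (bB j) := by decide +kernel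

theorem cd_c : ∀ j, Cd (cC j) := by decide +kernel

theorem cb : ∀ i j, cC i ⬝ᵥ bB j = if i = j then 2 else 0 := by decide +kernel

theorem bc : ∀ i k, ∑ j, cC j k * bB j i = if i = k then 2 else 0 := by decide +kernel

/-- coordinates -/
def rz (n : I → ℤ) (j : J) : ℤ := cC j ⬝ᵥ n / 2

theorem two_rz {n : I → ℤ} (hn : Cd n) (j : J) : 2 * rz n j = cC j ⬝ᵥ n :=
  Int.mul_ediv_cancel' ((cd_c j).dot_even hn)

theorem expand {n : I → ℤ} (hn : Cd n) : n = ∑ j, rz n j • bB j := by
  funext i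
  refine mul_left_cancel₀ (two_ne_zero (α := ℤ)) ?_
  rw [Finset.sum_apply, Finset.mul_sum]
  simp only [Pi.smul_apply, smul_eq_mul, ← mul_assoc, two_rz hn, dotProduct, Finset.sum_mul]
  rw [Finset.sum_comm]
  have : ∀ k, ∑ j, cC j k * n k * bB j i = n k * if i = k then 2 else 0 := fun k => by
    rw [← bc, Finset.mul_sum]
    exact Finset.sum_congr rfl fun j _ => by ring
  simp only [this]
  simp [mul_comm]

theorem cd_comb (x : J → ℤ) {f : J → I → ℤ} (h : ∀ j, Cd (f j)) : Cd (∑ j, x j • f j) :=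
  Cd.sum _ fun j _ => (h j).smul _

theorem rz_comb (x : J → ℤ) {f : J → I → ℤ} (h : ∀ j, Cd (f j)) (i : J) :
    rz (∑ j, x j • f j) i = ∑ j, x j * rz (f j) i := by
  refine mul_left_cancel₀ (two_ne_zero (α := ℤ)) ?_
  rw [two_rz (cd_comb x h), dotProduct_sum, Finset.mul_sum]
  exact Finset.sum_congr rfl fun j _ => by rw [dotProduct_smul, ← two_rz (h j), smul_eq_mul]; ring

theorem rz_b (i j : J) : rz (bB j) i = if i = j then 1 else 0 := by
  rw [rz, cb]; split_ifs <;> rfl

theorem rz_add {n m : I → ℤ} (hn : Cd n) (hm : Cd m) (j : J) : rz (n + m) j = rz n j + rz m j := by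
  have := two_rz hn j; have := two_rz hm j; have h := two_rz (hn.add hm) j
  rw [dotProduct_add] at h; omega

theorem rz_smul {n : I → ℤ} (hn : Cd n) (k : ℤ) (j : J) : rz (k • n) j = k * rz n j := by
  refine mul_left_cancel₀ (two_ne_zero (α := ℤ)) ?_
  rw [two_rz (hn.smul k), dotProduct_smul, ← two_rz hn, smul_eq_mul]; ring

/-- reduction modulo two -/
def red (n : I → ℤ) : J → ZMod 2 := fun j => (rz n j : ZMod 2)

theorem red_add {n m : I → ℤ} (hn : Cd n) (hm : Cd m) : red (n + m) = red n + red m := by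
  funext j; simp [red, rz_add hn hm]

theorem red_smul {n : I → ℤ} (hn : Cd n) (k : ℤ) : red (k • n) = (k : ZMod 2) • red n := by
  funext j; rw [red, rz_smul hn]; simp [red]

/-- a lift -/
def lf (v : J → ZMod 2) : I → ℤ := ∑ j, ((v j).val : ℤ) • bB j

theorem cd_lf (v : J → ZMod 2) : Cd (lf v) := cd_comb _ cd_b

theorem red_lf (v : J → ZMod 2) : red (lf v) = v := by
  funext i
  rw [red, lf, rz_comb _ cd_b]
  simp [rz_b]

theorem exists_of_red {n n' : I → ℤ} (hn : Cd n) (hn' : Cd n') (h : red n = red n') :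
    ∃ m, Cd m ∧ n = n' + (2 : ℤ) • m := by
  have k : ∀ j, ∃ x, rz n j = rz n' j + 2 * x := fun j => by
    obtain ⟨x, hx⟩ := (ZMod.intCast_eq_intCast_iff_dvd_sub _ _ 2).1 (congrFun h j).symm
    exact ⟨x, by push_cast at hx; omega⟩
  choose x hx using k
  refine ⟨_, cd_comb x cd_b, ?_⟩
  conv_lhs => rw [expand hn]
  conv_rhs => rw [expand hn']
  rw [Finset.smul_sum, ← Finset.sum_add_distrib]
  exact Finset.sum_congr rfl fun j _ => by rw [hx, add_smul, smul_smul]

/-- the quadratic form -/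
abbrev qq : (J → ZMod 2) → ZMod 2 := quadFormPlus 4 (ZMod 2)

theorem vec_eq {α : Type*} (v : J → α) : v = Sum.elim ![v (.inl 0), v (.inl 1), v (.inl 2), v (.inl 3)]
    ![v (.inr 0), v (.inr 1), v (.inr 2), v (.inr 3)] := by
  funext j
  rcases j with j | j <;> fin_cases j <;> rfl

theorem q_lf' : ∀ a b c d e f g h : ZMod 2, qq (Sum.elim ![a, b, c, d] ![e, f, g, h]) =
    ((lf (Sum.elim ![a, b, c, d] ![e, f, g, h]) ⬝ᵥ lf (Sum.elim ![a, b, c, d] ![e, f, g, h]) / 4 : ℤ) : ZMod 2) := by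
  decide +kernel

theorem q_red {n : I → ℤ} (hn : Cd n) {k : ℤ} (hk : n ⬝ᵥ n = 4 * k) : qq (red n) = (k : ZMod 2) := by
  obtain ⟨m, hm, e⟩ := exists_of_red hn (cd_lf (red n)) (red_lf _).symm
  have h1 : qq (red n) = ((lf (red n) ⬝ᵥ lf (red n) / 4 : ℤ) : ZMod 2) := by
    rw [vec_eq (red n)]; exact q_lf' _ _ _ _ _ _ _ _
  obtain ⟨a, ha⟩ := (cd_lf (red n)).norm_four
  obtain ⟨b, hb⟩ := (cd_lf (red n)).dot_even hm
  obtain ⟨c, hc⟩ := hm.norm_four
  rw [h1, ha, Int.mul_ediv_cancel_left _ (by norm_num)]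
  rw [e, add_dotProduct, dotProduct_add, dotProduct_add, smul_dotProduct, smul_dotProduct, dotProduct_smul,
    dotProduct_smul, dotProduct_comm m, ha, hb, hc] at hk
  simp only [smul_eq_mul] at hk
  exact (ZMod.intCast_eq_intCast_iff_dvd_sub _ _ 2).2 ⟨b + 2 * c, by push_cast; omega⟩

/-- the action on lattice vectors -/
noncomputable def act (w : WE) (n : I → ℤ) : I → ℤ := if h : Cd n then (w.l n h).choose else 0

theorem cd_act (w : WE) {n : I → ℤ} (hn : Cd n) : Cd (act w n) := by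
  rw [act, dif_pos hn]; exact (w.l n hn).choose_spec.1

theorem cv_act (w : WE) {n : I → ℤ} (hn : Cd n) : cv (act w n) = w.m *ᵥ cv n := by
  rw [act, dif_pos hn]; exact (w.l n hn).choose_spec.2.symm

theorem act_mul (a b : WE) {n : I → ℤ} (hn : Cd n) : act (a * b) n = act a (act b n) :=
  cv_inj (by rw [cv_act _ hn, cv_act _ (cd_act b hn), cv_act _ hn, mul_m, mulVec_mulVec])

theorem act_one {n : I → ℤ} (hn : Cd n) : act 1 n = n := cv_inj (by rw [cv_act _ hn, one_m, one_mulVec])

theorem act_dot (w : WE) {n : I → ℤ} (hn : Cd n) : act w n ⬝ᵥ act w n = n ⬝ᵥ n := by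
  have := w.dot (cv n) (cv n)
  rw [← cv_act _ hn, cv_dot, cv_dot] at this
  exact_mod_cast this

/-- the matrix modulo two -/
noncomputable def thm (w : WE) : Matrix J J (ZMod 2) := Matrix.of fun i j => red (act w (bB j)) i

theorem thm_red (w : WE) {n : I → ℤ} (hn : Cd n) : thm w *ᵥ red n = red (act w n) := by
  have e : act w n = ∑ j, rz n j • act w (bB j) := cv_inj (by
    rw [cv_act _ hn, cv_sum]
    conv_lhs => rw [expand hn, cv_sum, mulVec_sum]
    exact Finset.sum_congr rfl fun j _ => by rw [cv_smul, cv_smul, mulVec_smul, cv_act _ (cd_b j)])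
  funext i
  rw [e, red, rz_comb _ fun j => cd_act w (cd_b j)]
  simp [thm, mulVec, dotProduct, red, mul_comm]

theorem mat_ext2 {A B : Matrix J J (ZMod 2)} (h : ∀ n, Cd n → A *ᵥ red n = B *ᵥ red n) : A = B :=
  Matrix.mulVec_injective (funext fun v => by rw [← red_lf v]; exact h _ (cd_lf v))

/-- the matrix modulo two as a homomorphism -/
noncomputable def thH : WE →* Matrix J J (ZMod 2) where
  toFun := thm
  map_one' := mat_ext2 fun n hn => by rw [thm_red _ hn, act_one hn, one_mulVec]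
  map_mul' a b := mat_ext2 fun n hn => by
    rw [thm_red _ hn, act_mul _ _ hn, ← mulVec_mulVec, thm_red _ hn, thm_red _ (cd_act b hn)]

/-- reduction modulo two -/
noncomputable def th : WE →* O8 := thH.toHomUnits.codRestrict _ fun w u _ => by
  show qq (thm w *ᵥ u) = qq u
  obtain ⟨k, hk⟩ := (cd_lf u).norm_four
  rw [← red_lf u, thm_red _ (cd_lf u), q_red (cd_lf u) hk, q_red (cd_act w (cd_lf u)) ((act_dot w (cd_lf u)).trans hk)]

theorem th_val (w : WE) : (th w).1.1 = thm w := rfl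

theorem o8_ext {g h : O8} (e : ∀ v, g.1.1 *ᵥ v = h.1.1 *ᵥ v) : g = h :=
  Subtype.ext (Units.ext (Matrix.mulVec_injective (funext e)))

theorem o8_q (g : O8) (v : J → ZMod 2) : qq (g.1.1 *ᵥ v) = qq v := g.2 v v

theorem root_pm {ρ ρ' : I → ℤ} (h : IsRt ρ) (h' : IsRt ρ') (e : red ρ' = red ρ) : ρ' = ρ ∨ ρ' = -ρ := by
  obtain ⟨m, hm, e1⟩ := exists_of_red h'.1 h.1 e
  obtain ⟨c, hc⟩ := hm.norm_four
  have nn : ∀ x : I → ℤ, 0 ≤ x ⬝ᵥ x := fun x => Finset.sum_nonneg fun i _ => mul_self_nonneg _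
  have h1 : (ρ' - ρ) ⬝ᵥ (ρ' - ρ) = 16 * c := by
    rw [e1, add_sub_cancel_left, smul_dotProduct, dotProduct_smul, hc]; simp only [smul_eq_mul]; ring
  have h2 : (ρ' - ρ) ⬝ᵥ (ρ' - ρ) + (ρ' + ρ) ⬝ᵥ (ρ' + ρ) = 16 := by
    rw [sub_dotProduct, add_dotProduct, dotProduct_sub, dotProduct_sub, dotProduct_add, dotProduct_add, h.2, h'.2]
    ring
  have h3 := nn (ρ' - ρ)
  have h4 := nn (ρ' + ρ)
  rcases (show (ρ' - ρ) ⬝ᵥ (ρ' - ρ) = 0 ∨ (ρ' + ρ) ⬝ᵥ (ρ' + ρ) = 0 by omega) with h5 | h5
  · exact Or.inl (sub_eq_zero.1 (dotProduct_self_eq_zero.1 h5))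
  · exact Or.inr (eq_neg_of_add_eq_zero_left (dotProduct_self_eq_zero.1 h5))

theorem th_ng : th ng = 1 := o8_ext fun v => by
  have e : act ng (lf v) = (-1 : ℤ) • lf v := cv_inj (by
    rw [cv_act _ (cd_lf v), ng_m, neg_mulVec, one_mulVec, cv_smul]; simp)
  rw [th_val, ← red_lf v, thm_red _ (cd_lf v), e, red_smul (cd_lf v)]
  have : ((-1 : ℤ) : ZMod 2) = 1 := by decide
  rw [this, one_smul]
  exact (one_mulVec _).symm

theorem th_ker {w : WE} (h : th w = 1) : w = 1 ∨ w = ng := by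
  have key : ∀ ρ, IsRt ρ → w.m *ᵥ cv ρ = cv ρ ∨ w.m *ᵥ cv ρ = -cv ρ := fun ρ hρ => by
    have h1 := thm_red w hρ.1
    rw [← th_val, h] at h1
    have h2 : red (act w ρ) = red ρ := h1.symm.trans (one_mulVec _)
    rw [← cv_act _ hρ.1, ← cv_neg]
    exact (root_pm hρ ⟨cd_act w hρ.1, (act_dot w hρ.1).trans hρ.2⟩ h2).imp (congrArg cv) (congrArg cv)
  have z : ∀ i k, k ≠ i → w.m k i = 0 := fun i k hk => by
    have h1 := mulVec_e2 w.m i k
    rcases key _ (isRt_e2 i) with e | e <;> rw [e] at h1 <;> simp [cv, e2, hk] at h1 <;> exact h1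
  obtain ⟨s, σ, rfl⟩ := mem_Mon_of_cols w fun i => ⟨i, z i⟩
  have hσ : σ = 1 := Subtype.ext (Perm.ext fun j => by
    by_contra hne
    have := z j _ hne
    rw [mono_apply, if_pos rfl] at this
    exact (s _).ne_zero (by exact_mod_cast this))
  subst hσ
  rw [map_one, mul_one] at key ⊢
  have t : ∀ ρ, IsRt ρ → ∀ i j, ρ i = 1 → ρ j = 1 → s i = s j := fun ρ hρ i j hi hj => by
    have a := sg_mulVec s (cv ρ) i
    have b := sg_mulVec s (cv ρ) j
    refine Units.ext (Int.cast_injective (α := ℚ) ?_)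
    rcases key ρ hρ with e | e <;> rw [e] at a b <;> simp only [cv, hi, hj, Pi.neg_apply, Int.cast_one, mul_one] at a b <;> linarith
  have t1 := t ![1, 1, 1, 1, 0, 0, 0, 0] (by decide) 0
  have t2 := t ![1, 1, 0, 0, 1, 1, 0, 0] (by decide) 0
  have t3 := t ![1, 1, 0, 0, 0, 0, 1, 1] (by decide) 0
  have e : ∀ i, s 0 = s i := fun i => by
    fin_cases i
    exacts [rfl, t1 1 rfl rfl, t1 2 rfl rfl, t1 3 rfl rfl, t2 4 rfl rfl, t2 5 rfl rfl, t3 6 rfl rfl, t3 7 rfl rfl]
  rcases Int.units_eq_one_or (s 0) with h0 | h0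
  · left
    rw [show s = 1 from funext fun i => (e i).symm.trans h0, map_one]
  · right
    rw [show s = -1 from funext fun i => (e i).symm.trans h0, ng]

/-! ### reflections -/

/-- the polar form -/
def bq (x y : J → ZMod 2) : ZMod 2 := qq (x + y) - qq x - qq y

theorem th_rf {ρ : I → ℤ} (h : IsRt ρ) (x : J → ZMod 2) : (th (rf ρ h)).1.1 *ᵥ x = x + bq x (red ρ) • red ρ := by
  obtain ⟨n, hn, rfl⟩ : ∃ n, Cd n ∧ x = red n := ⟨_, cd_lf x, (red_lf x).symm⟩
  obtain ⟨k, hk⟩ := h.1.dot_even hn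
  obtain ⟨a, ha⟩ := hn.norm_four
  have e : act (rf ρ h) n = n + (-k) • ρ := cv_inj (by
    rw [cv_act _ hn, rf_m, rfm_cv hk, neg_smul, sub_eq_add_neg])
  rw [th_val, thm_red _ hn, e, red_add hn (h.1.smul _), red_smul h.1, bq, ← red_add hn h.1,
    q_red (hn.add h.1) (k := a + k + 1) (by
      rw [add_dotProduct, dotProduct_add, dotProduct_add, dotProduct_comm n ρ, hk, ha, h.2]; ring),
    q_red hn ha, q_red h.1 (k := 1) h.2]
  congr 2
  push_cast
  rw [CharTwo.neg_eq]; ring

/-- table of roots -/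
def rtT : ℕ := 0x29a28a45a6910000006932910000000000004d368a4d14510000000000006914ca00000044a44a28a4d100000068a68a4ca29100000000000000000000000045128a29169100000000000029344a4534d14da4ca69a45100000000000049b6520000004896520000000000004926c90000004922490000002524990000006d24996594920000002d94920000000000000000000000000000004926d92d26524922596526522524894904926d24894824920000000000000000000000004d34d100000000000069344a29a45100000000000045a4ca00000028a68a44a2910000000000004d128a6916910000000000000000002914ca4514510000000000004ca44a68a4d169a28a4da69100000000000045368a2932910000000000000000006524890000002d248900000048949900000049b49948b2520000004992520000006d26520000002526520000006524994924122d249949209248948925949249b4896d949200000000000000000000000000000000000000000000000028a45100000000000044a4ca00000069144a4d14d10000006936910000000000004d328a00000029a68a45a2910000000000000000004da44a69a4d12934ca45345100000000000000000000000045168a29129168a28a4ca69100000000000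000000049949900000048b4994124920000000924920000000000004922c900000049264949b25200000048925200000049948924949248b4896c94920000000000000000000000004922d92d22524926596522520000000000000000000000000000004d168a69129100000000000028a28a44a69100000000000045a44a29a4d10000000000006934ca4d345100000045328a29369100000000000069a68a4da2910000000000004ca4ca68a45100000000000029144a4514d10000000000006d225200000025225200000048b6520000004996520000006494920000002c9492000000492490000000492482000000000000000000000000000000000000000000000000000000000000000000000000000000000000000000000000000000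

/-- the root with a given reduction -/
def rtOf (a b c d e f g h : ZMod 2) : I → ℤ := fun i =>
  (((rtT >>> (24 * (a.val + 2 * b.val + 4 * c.val + 8 * d.val + 16 * e.val + 32 * f.val + 64 * g.val + 128 * h.val)
    + 3 * i.1)) % 8 : ℕ) : ℤ) - 2

theorem rt_chk : ∀ a b c d e f g h : ZMod 2, qq (Sum.elim ![a, b, c, d] ![e, f, g, h]) = 1 →
    IsRt (rtOf a b c d e f g h) ∧ ∀ j, red (rtOf a b c d e f g h) j = Sum.elim ![a, b, c, d] ![e, f, g, h] j := by
  decide +kernel

theorem exists_root {v : J → ZMod 2} (hv : qq v = 1) : ∃ ρ, IsRt ρ ∧ red ρ = v := by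
  rw [vec_eq v] at hv ⊢
  obtain ⟨h1, h2⟩ := rt_chk _ _ _ _ _ _ _ _ hv
  exact ⟨_, h1, funext h2⟩

/-- the set of reflections -/
def Rf : Set WE := {w | ∃ ρ h, w = rf ρ h}

theorem conj_th_rf (g : O8) {ρ : I → ℤ} (h : IsRt ρ) : ∃ ρ' h', g * th (rf ρ h) * g⁻¹ = th (rf ρ' h') := by
  obtain ⟨ρ', h', e⟩ := exists_root (v := g.1.1 *ᵥ red ρ) (by rw [o8_q, q_red h.1 (k := 1) h.2]; rfl)
  refine ⟨ρ', h', ?_⟩
  rw [mul_inv_eq_iff_eq_mul]
  refine o8_ext fun x => ?_
  show (g.1.1 * (th (rf ρ h)).1.1) *ᵥ x = ((th (rf ρ' h')).1.1 * g.1.1) *ᵥ x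
  rw [← mulVec_mulVec, ← mulVec_mulVec, th_rf, th_rf, e, mulVec_add, mulVec_smul, bq, bq, ← mulVec_add, o8_q, o8_q,
    o8_q]

theorem th_u1_ne : th (sg (u1 0)) ≠ 1 := fun h => by
  rcases th_ker h with e | e
  · exact u1_notMem 0 (e ▸ W1.one_mem)
  · exact u1_notMem 0 (e ▸ ng_mem)

theorem omega_le : commutator O8 ≤ (closure Rf).map th := by
  have hn : ((closure Rf).map th).Normal := ⟨by
    rintro _ ⟨w, hw, rfl⟩ g
    induction hw using closure_induction with
    | mem x hx =>
      obtain ⟨ρ, h, rfl⟩ := hx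
      obtain ⟨ρ', h', e⟩ := conj_th_rf g h
      exact ⟨_, subset_closure ⟨ρ', h', rfl⟩, e.symm⟩
    | one => simp
    | mul x y _ _ hx hy =>
      have := mul_mem hx hy
      rw [map_mul]
      convert this using 1; group
    | inv x _ hx =>
      have := inv_mem hx
      rw [map_inv]
      convert this using 1; group⟩
  refine (H45.go_normal nd8 hn).resolve_left fun h => th_u1_ne ?_
  rw [← mem_bot, ← h]
  exact ⟨_, subset_closure ⟨_, _, (rf_e2 0).symm⟩, rfl⟩

theorem omega_perfect : ⁅commutator O8, commutator O8⁆ = commutator O8 := by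
  refine le_antisymm (commutator_le_left _ _) ((H45.go_normal nd8 inferInstance).resolve_left fun h => ?_)
  have h1 := (commutator_eq_bot_iff_le_centralizer.1 h).trans (H45.cent_Omega nd8).le
  have h2 := H45.card_Om8
  rw [le_bot_iff.1 h1] at h2
  simp at h2

theorem mem_of_map {X : Subgroup WE} (hX : ng ∈ X) {w : WE} (h : th w ∈ X.map th) : w ∈ X := by
  obtain ⟨c, hc, e⟩ := h
  have : th (c⁻¹ * w) = 1 := by rw [map_mul, map_inv, e, inv_mul_cancel]
  refine (X.mul_mem_cancel_left (inv_mem hc)).1 ?_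
  rcases th_ker this with e | e <;> rw [e]
  exacts [one_mem _, hX]

/-- a translation -/
def tr4 : Aff := ⟨⟨fun i => xr i 4, fun i => xr i 4, by decide +kernel, by decide +kernel⟩, by
  show ∀ a b c, xr (x3 a b c) 4 = x3 (xr a 4) (xr b 4) (xr c 4)
  decide +kernel⟩

theorem tr4_mem : pm tr4 ∈ W1 := by
  have : tr4.1 = swap 0 4 * swap 1 5 * swap 2 6 * swap 3 7 := by decide +kernel
  rw [mem_W1, dt_pm, this]
  simp only [map_mul]
  rw [Perm.sign_swap (by decide), Perm.sign_swap (by decide), Perm.sign_swap (by decide), Perm.sign_swap (by decide)]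
  simp

theorem ng_mem_comm : ng ∈ ⁅W1, W1⁆ := by
  have h := commutator_mem_commutator tr4_mem (sg_mem_W1.2 (by decide +kernel : pr ![-1, -1, -1, -1, 1, 1, 1, 1] = 1))
  rw [commutatorElement_def, pm_sg, mul_inv_cancel_right, ← map_inv, ← map_mul] at h
  rwa [show ac tr4.1 ![-1, -1, -1, -1, 1, 1, 1, 1] * ![-1, -1, -1, -1, 1, 1, 1, 1]⁻¹ = -1 by decide +kernel] at h

theorem commutator_le_W1 : commutator WE ≤ W1 := by
  rw [commutator_def, commutator_le]
  intro a _ b _
  rw [mem_W1, commutatorElement_def, mul_assoc, mul_assoc, map_mul, map_mul, mul_left_comm, ← map_mul,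
    ← mul_assoc, mul_inv_cancel, one_mul, ← map_mul, mul_inv_cancel, map_one]

theorem map_commutator_WE : (commutator WE).map th = commutator O8 := by
  refine le_antisymm (by
    rw [commutator_def, map_commutator]; exact commutator_mono le_top le_top) ?_
  rw [← omega_perfect, commutator_def WE, map_commutator]
  exact commutator_mono (omega_le.trans (map_mono le_top)) (omega_le.trans (map_mono le_top))

theorem mem_W1_of_th {w : WE} (h : th w ∈ commutator O8) : w ∈ W1 :=
  commutator_le_W1 (mem_of_map (commutator_mono le_top le_top ng_mem_comm) (map_commutator_WE ▸ h))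

theorem th_mem_iff {w : WE} : th w ∈ commutator O8 ↔ w ∈ W1 := by
  refine ⟨mem_W1_of_th, fun h => ?_⟩
  by_contra hn
  have h1 : th (sg (u1 0)) ∉ commutator O8 := fun e => u1_notMem 0 (mem_W1_of_th e)
  have h2 := (mul_mem_iff_of_index_two (H45.index_Omega2 nd8)).2 (iff_of_false hn h1)
  rw [← map_mul] at h2
  exact u1_notMem 0 ((W1.mul_mem_cancel_left h).1 (mem_W1_of_th h2))

theorem map_W1 : W1.map th = commutator O8 := by
  refine le_antisymm ?_ (map_commutator_WE ▸ map_mono commutator_le_W1)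
  rintro _ ⟨w, hw, rfl⟩
  exact th_mem_iff.2 hw

theorem W1_perfect : ⁅W1, W1⁆ = W1 :=
  le_antisymm (commutator_le_left _ _) fun w hw => mem_of_map ng_mem_comm (by
    rw [map_commutator, map_W1, omega_perfect]; exact th_mem_iff.2 hw)

theorem commutator_eq_W1 : commutator WE = W1 :=
  le_antisymm commutator_le_W1 (W1_perfect ▸ commutator_mono le_top le_top)

theorem th_surj : Function.Surjective th := fun g => by
  by_cases h : g ∈ commutator O8
  · obtain ⟨w, -, e⟩ := map_W1.ge h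
    exact ⟨w, e⟩
  · have h1 : th (sg (u1 0)) ∉ commutator O8 := fun e => u1_notMem 0 (mem_W1_of_th e)
    obtain ⟨w, -, e⟩ := map_W1.ge ((mul_mem_iff_of_index_two (H45.index_Omega2 nd8)).2 (iff_of_false h h1))
    exact ⟨w * (sg (u1 0))⁻¹, by rw [map_mul, e, map_inv, mul_inv_cancel_right]⟩

theorem ker_th : th.ker = zpowers ng := by
  refine le_antisymm (fun w hw => ?_) (zpowers_le.2 th_ng)
  rcases th_ker hw with e | e <;> rw [e]
  exacts [one_mem _, mem_zpowers _]

theorem orderOf_ng : orderOf ng = 2 := orderOf_eq_prime (by rw [pow_two, ng_sq]) ng_ne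

theorem card_WE : Nat.card WE = 696729600 := by
  have h1 := (commutator O8).card_mul_index
  rw [H45.card_Om8, H45.index_Omega2 nd8] at h1
  rw [← th.ker.card_mul_index, index_ker, MonoidHom.range_eq_top.2 th_surj, card_top, ← h1, ker_th,
    Nat.card_zpowers, orderOf_ng]

instance : Finite WE := Nat.finite_of_card_ne_zero (by rw [card_WE]; decide)

theorem closure_Rf : closure Rf = ⊤ := by
  have h0 : ∀ i, sg (u1 i) ∈ closure Rf := fun i => subset_closure ⟨_, _, (rf_e2 i).symm⟩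
  have h1 : ng ∈ closure Rf := by
    rw [ng, show (-1 : SV) = u1 0 * u1 1 * u1 2 * u1 3 * u1 4 * u1 5 * u1 6 * u1 7 by decide +kernel]
    simp only [map_mul]
    repeat' apply mul_mem
    all_goals exact h0 _
  have h2 : W1 ≤ closure Rf := fun w hw => mem_of_map h1 (omega_le (th_mem_iff.2 hw))
  refine eq_top_iff.2 fun w _ => ?_
  by_cases h : w ∈ W1
  · exact h2 h
  · exact (mul_mem_cancel_right (h0 0)).1 (h2 (mul_mem_W1 h (u1_notMem 0)))

theorem cent_W1 {c : WE} (h : ∀ a ∈ W1, c * a = a * c) : c = 1 ∨ c = ng := by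
  refine th_ker (mem_bot.1 ((H45.cent_Omega nd8).le fun g hg => ?_))
  obtain ⟨a, ha, rfl⟩ := map_W1.ge hg
  rw [← map_mul, ← map_mul, h a ha]

end Cfsg.Agent.H38.E8
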