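import Cfsg.Agent.H38.E8F

/-!
A Sylow 2-subgroup of the Weyl group of type E8, its involutions and its large elementary abelian subgroups.
-/

set_option autoImplicit false
set_option Elab.async false
set_option maxRecDepth 100000
set_option linter.unusedVariables false

namespace Cfsg.Agent.H38.E8

open Matrix Equiv WE Subgroup

/-- table of the permutations -/
def dT : ℕ := 0x4c8b3768197e05afa5213decdec213fa505a97e681b374c86889774c1b3e21ade5053facfac053de521ab3e4c197768805ab3721397e4c8fa5681dec97e213b3705adec681fa54c821a977053b3e688de54c1facb3e05397721afac4c1de5688681b374c897e213fa505adecfa5213dec05ab3768197e4c84c1977688b3e053de521afacde5053fac21a9774c1b3e688213b3705a97e681fa54c8decb3721397e05afa5681dec4c805397721ab3e4c1de5688fac977053b3e21ade54c1fac688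

/-- multiplication table -/
def mT : ℕ := 0x8a38609649a7aaba68b6cbaf49345055459769b65875c79f08304014418728b24834c38fcb3c70d74db7ebbe78f7cfbf8e28219259e6aeaa29b2dbee4d24115155d66da61971d7de0c20011051c62ca20930d3cecf2c31d35df6efae39f3dffe8218e29e6925a29aeabeeb2d4114d25d65156196da7de71d0010c21c61052092ca3ce30dc31cf2df6d35e39efaffef3d8608a39a7964a68aabbafb6c45049359755465869b79f75c04008318714424828b38f34cc70cb3db7d74e78ebbfbff7c9a79648608a3bafb6ca68aab59755445049379f75c65869b18714404008338f34c24828bdb7d74c70cb3fbff7ce78ebb9e69258218e2beeb2da29aea5d65154114d27de71d6196da1c61050010c23ce30d2092cadf6d35c31cf2ffef3de39efa9259e68e2821b2dbeeaeaa295155d64d241171d7de6da6191051c60c200130d3ce2ca209d35df6cf2c31f3dffeefae399649a78a3860b6cbafaaba6855459749345075c79f69b65814418708304034c38f28b248d74db7cb3c70f7cfbfebbe782ca24830d38f0c20401051876da65871d79f4d2450515597aeaa68b2dbaf8e28609259a7efae78f3dfbfcf2c70d35db728b20934c3ce0830011441c669b61975c7de4934115545d6aaba29b6cbee8a38219649e6ebbe39f7cffecb3c31d74df6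2482ca38f30d0400c21871056586da79f71d4504d2597515a68aeabafb2d8608e29a7925e78efafbff3dc70cf2db7d3520928b3ce34c0010831c614461969b7de75c4114935d6554a29aabbeeb6c8218a39e6964e39ebbffef7cc31cb3df6d743ce34c20928b1c61440010837de75c61969b5d6554411493beeb6ca29aab9e69648218a3ffef7ce39ebbdf6d74c31cb338f30d2482ca1871050400c279f71d6586da5975154504d2bafb2da68aea9a79258608e2fbff3de78efadb7d35c70cf234c3ce28b2091441c608300175c7de69b6195545d6493411b6cbeeaaba299649e68a3821f7cffeebbe39d74df6cb3c3130d38f2ca2481051870c204071d79f6da6585155974d2450b2dbafaeaa689259a78e2860f3dfbfefae78d35db7cf2c70c31cf2d74db7e39efaf7cfbf0010c21441872092ca34c38f4114d25545976196da75c79f8218e29649a7a29aeab6cbafc70cb3d35df6e78ebbf3dffe0400831051c624828b30d3ce4504935155d665869b71d7de8608a39259e6a68aabb2dbeecb3c70df6d35ebbe78ffef3d0830401c610528b2483ce30d4934505d651569b6587de71d8a38609e6925aaba68beeb2dcf2c31db7d74efae39fbff7c0c20011871442ca20938f34c4d24115975546da61979f75c8e28219a7964aeaa29bafb6cd35df6c70cb3f3dffee78ebb1051c604008330d3ce2482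8b5155d645049371d7de65869b9259e68608a3b2dbeea68aabd74db7c31cf2f7cfbfe39efa1441870010c234c38f2092ca5545974114d275c79f6196da9649a78218e2b6cbafa29aeadb7d74cf2c31fbff7cefae391871440c200138f34c2ca2095975544d241179f75c6da6199a79648e2821bafb6caeaa29df6d35cb3c70ffef3debbe781c61050830403ce30d28b2485d65154934507de71d69b6589e69258a3860beeb2daaba686586da71d79f4504d25155972482ca30d38f0400c2105187e78efaf3dfbfc70cf2d35db7a68aeab2dbaf8608e29259a761969b75c7de4114935545d620928b34c3ce0010831441c6e39ebbf7cffec31cb3d74df6a29aabb6cbee8218a39649e66da65879f71d4d24505975152ca24838f30d0c2040187105efae78fbff3dcf2c70db7d35aeaa68bafb2d8e28609a792569b6197de75c4934115d655428b2093ce34c0830011c6144ebbe39ffef7ccb3c31df6d74aaba29beeb6c8a38219e696475c7de61969b5545d641149334c3ce20928b1441c6001083f7cffee39ebbd74df6c31cb3b6cbeea29aab9649e68218a371d79f6586da5155974504d230d38f2482ca1051870400c2f3dfbfe78efad35db7c70cf2b2dbafa68aea9259a78608e27de75c69b6195d65544934113ce34c28b2091c6144083001ffef7cebbe39df6d74cb3c31beeb6caaba299e69648a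382179f71d6da6585975154d245038f30d2ca2481871050c2040fbff3defae78db7d35cf2c70bafb2daeaa689a79258e28600c20011441872ca20934c38fcf2c31d74db7efae39f7cfbf8e28219649a7aeaa29b6cbaf4d24115545976da61975c79f0830401051c628b24830d3cecb3c70d35df6ebbe78f3dffe8a38609259e6aaba68b2dbee4934505155d669b65871d7de0400831c610524828b3ce30dc70cb3df6d35e78ebbffef3d8608a39e6925a68aabbeeb2d4504935d651565869b7de71d0010c21871442092ca38f34cc31cf2db7d74e39efafbff7c8218e29a7964a29aeabafb6c4114d25975546196da79f75c1c61050400833ce30d24828bdf6d35c70cb3ffef3de78ebb9e69258608a3beeb2da68aab5d65154504937de71d65869b1871440010c238f34c2092cadb7d74c31cf2fbff7ce39efa9a79648218e2bafb6ca29aea5975544114d279f75c6196da1441870c200134c38f2ca209d74db7cf2c31f7cfbfefae399649a78e2821b6cbafaeaa295545974d241175c79f6da6191051c608304030d3ce28b248d35df6cb3c70f3dffeebbe789259e68a3860b2dbeeaaba685155d649345071d7de69b658aaba29b2dbaf8a38219259a7ebbe39f3dfbfcb3c31d35db728b20930d38f08300110518769b61971d79f493411515597aeaa68b6cbee8e28609649e6efae78f7cffecf2c70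d74df62ca24834c3ce0c20401441c66da65875c7de4d24505545d6a29aabbafb2d8218a39a7925e39ebbfbff3dc31cb3db7d3520928b38f30d00108318710561969b79f71d411493597515a68aeabeeb6c8608e29e6964e78efaffef7cc70cf2df6d742482ca3ce34c0400c21c61446586da7de75c4504d25d6554bafb2da29aab9a79258218a3fbff3de39ebbdb7d35c31cb338f30d20928b18710500108379f71d61969b597515411493beeb6ca68aea9e69648608e2ffef7ce78efadf6d74c70cf23ce34c2482ca1c61440400c27de75c6586da5d65544504d2b2dbafaaba299259a78a3821f3dfbfebbe39d35db7cb3c3130d38f28b20910518708300171d79f69b619515597493411b6cbeeaeaa689649e68e2860f7cffeefae78d74df6cf2c7034c3ce2ca2481441c60c204075c7de6da6585545d64d245045049355459765869b75c79f8608a39649a7a68aabb6cbafc70cb3d74db7e78ebbf7cfbf04008314418724828b34c38f4114d25155d66196da71d7de8218e29259e6a29aeab2dbeec31cf2d35df6e39efaf3dffe0010c21051c62092ca30d3ce4d24115d65156da6197de71d8e28219e6925aeaa29beeb2dcf2c31df6d35efae39ffef3d0c20011c61052ca2093ce30d49345059755469b65879f75c8a38609a7964aaba68bafb6ccb3c70db7d74ebbe78fbff7c08304018714428b2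4838f34c55459745049375c79f65869b9649a78608a3b6cbafa68aabd74db7c70cb3f7cfbfe78ebb14418704008334c38f24828b5155d64114d271d7de6196da9259e68218e2b2dbeea29aead35df6c31cf2f3dffee39efa1051c60010c230d3ce2092ca5d65154d24117de71d6da6199e69258e2821beeb2daeaa29df6d35cf2c31ffef3defae391c61050c20013ce30d2ca20959755449345079f75c69b6589a79648a3860bafb6caaba68db7d74cb3c70fbff7cebbe7818714408304038f34c28b248e39ebbf3dfbfc31cb3d35db7a29aabb2dbaf8218a39259a761969b71d79f41149351559720928b30d38f001083105187e78efaf7cffec70cf2d74df6a68aeab6cbee8608e29649e66586da75c7de4504d25545d62482ca34c3ce0400c21441c6ebbe39fbff3dcb3c31db7d35aaba29bafb2d8a38219a792569b61979f71d49341159751528b20938f30d083001187105efae78ffef7ccf2c70df6d74aeaa68beeb6c8e28609e69646da6587de75c4d24505d65542ca2483ce34c0c20401c6144f3dfbfe39ebbd35db7c31cb3b2dbafa29aab9259a78218a371d79f61969b51559741149330d38f20928b105187001083f7cffee78efad74df6c70cf2b6cbeea68aea9649e68608e275c7de6586da5545d64504d234c3ce2482ca1441c60400c2fbff3debbe39db7d35cb3c31bafb2daaba299a79258a382179f71d69b61959751549341138f30d28b209187105083001ffef7cefae78df6d74cf2c70beeb6caeaa689e69648e28607de75c6da6585d65544d24503ce34c2ca2481c61440c2040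

/-- table of the inverses -/
def iT : ℕ := 0x71d7de69b658d35db7cf2c70beeb2daaba689a79258e2860f7cfbfebbe785545d64d245038f34c28b2481c61440c2040

/-- the affine maps fixing a flag at infinity -/
def df (k : Fin 64) (x : I) : I := ⟨(dT >>> (3 * (8 * k.1 + x.1))) % 8, Nat.mod_lt _ (by decide)⟩

/-- code of a product -/
def dm (k l : Fin 64) : Fin 64 := ⟨(mT >>> (6 * (64 * k.1 + l.1))) % 64, Nat.mod_lt _ (by decide)⟩

/-- code of an inverse -/
def di (k : Fin 64) : Fin 64 := ⟨(iT >>> (6 * k.1)) % 64, Nat.mod_lt _ (by decide)⟩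

theorem df_di : ∀ k x, df (di k) (df k x) = x ∧ df k (df (di k) x) = x := by decide +kernel

theorem df_aff : ∀ k a b c, df k (x3 a b c) = x3 (df k a) (df k b) (df k c) := by decide +kernel

theorem df_dm : ∀ k l x, df (dm k l) x = df k (df l x) := by decide +kernel

theorem df_inj : ∀ k l, (∀ x, df k x = df l x) → k = l := by decide +kernel

theorem df_zero : ∀ x, df 0 x = x := by decide +kernel

/-- the affine maps as permutations -/
def dp (k : Fin 64) : Aff := ⟨⟨df k, df (di k), fun x => (df_di k x).1, fun x => (df_di k x).2⟩, df_aff k⟩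

theorem dp_apply (k : Fin 64) (x : I) : (dp k).1 x = df k x := rfl

theorem dp_mul (k l : Fin 64) : dp k * dp l = dp (dm k l) := Subtype.ext (Perm.ext fun x => (df_dm k l x).symm)

theorem dp_zero : dp 0 = 1 := Subtype.ext (Perm.ext df_zero)

theorem dp_inv (k : Fin 64) : (dp k)⁻¹ = dp (di k) := Subtype.ext (Perm.ext fun x => rfl)

theorem dp_inj {k l : Fin 64} (h : dp k = dp l) : k = l := df_inj k l fun x => by
  rw [← dp_apply, h, dp_apply]

/-- the Sylow subgroup -/
def SW : Subgroup WE where
  carrier := {w | ∃ s k, w = sg s * pm (dp k)}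
  one_mem' := ⟨1, 0, by rw [dp_zero]; simp⟩
  mul_mem' := by
    rintro _ _ ⟨s, k, rfl⟩ ⟨t, l, rfl⟩
    exact ⟨_, _, by rw [mono_mul, dp_mul]⟩
  inv_mem' := by
    rintro _ ⟨s, k, rfl⟩
    refine ⟨ac (dp (di k)).1 s, di k, ?_⟩
    rw [← pm_sg, _root_.mul_inv_rev, ← map_inv, ← map_inv, sv_inv, dp_inv]

theorem sg_mem_SW (s : SV) : sg s ∈ SW := ⟨s, 0, by rw [dp_zero]; simp⟩

theorem card_SV : Nat.card SV = 256 := by simp

theorem card_SW : Nat.card SW = 2 ^ 14 := by
  rw [← Nat.card_congr (Equiv.ofBijective (fun x : SV × Fin 64 => (⟨_, x.1, x.2, rfl⟩ : SW))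
    ⟨fun x y h => Prod.ext (mono_inj (congrArg Subtype.val h)).1 (dp_inj (mono_inj (congrArg Subtype.val h)).2),
      fun ⟨_, s, k, e⟩ => ⟨(s, k), Subtype.ext e.symm⟩⟩), Nat.card_prod, card_SV]
  simp

theorem two_SW : IsPGroup 2 SW := IsPGroup.of_card card_SW

theorem index_SW : SW.index = 42525 := by
  have := SW.card_mul_index
  rw [card_SW, card_WE] at this
  omega

theorem conj_SW {X : Subgroup WE} (hX : IsPGroup 2 X) : ∃ g ∈ W1, ∀ x ∈ X, g * x * g⁻¹ ∈ SW := by
  have : Fact (Nat.Prime 2) := ⟨Nat.prime_two⟩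
  obtain ⟨P, hP⟩ := hX.exists_le_sylow
  obtain ⟨g, hg⟩ := MulAction.exists_smul_eq WE P (two_SW.toSylow (by rw [index_SW]; decide))
  have key : ∀ x ∈ X, g * x * g⁻¹ ∈ SW := fun x hx => by
    have : g * x * g⁻¹ ∈ (g • P : Sylow 2 WE) := smul_mem_pointwise_smul x (MulAut.conj g) _ (hP hx)
    rwa [hg] at this
  by_cases h : g ∈ W1
  · exact ⟨g, h, key⟩
  · refine ⟨sg (u1 0) * g, mul_mem_W1 (u1_notMem 0) h, fun x hx => ?_⟩
    have := mul_mem (mul_mem (sg_mem_SW (u1 0)) (key x hx)) (inv_mem (sg_mem_SW (u1 0)))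
    convert this using 1; group

theorem two_of_sq {X : Subgroup WE} (h : ∀ x ∈ X, x * x = 1) : IsPGroup 2 X :=
  fun x => ⟨1, Subtype.ext (by rw [pow_one, pow_two]; exact h x x.2)⟩

theorem conj_SW1 {w : WE} {e : ℕ} (h : w ^ 2 ^ e = 1) : ∃ g ∈ W1, g * w * g⁻¹ ∈ SW := by
  obtain ⟨g, hg, h1⟩ := conj_SW (X := zpowers w) fun x => ⟨e, by
    obtain ⟨_, n, rfl⟩ := x
    refine Subtype.ext ?_
    show (w ^ n) ^ 2 ^ e = 1
    rw [← zpow_natCast, ← _root_.zpow_mul, mul_comm, _root_.zpow_mul, zpow_natCast, h, _root_.one_zpow]⟩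
  exact ⟨g, hg, h1 w (mem_zpowers w)⟩

/-! ### coded sign vectors -/

/-- the sign vector with a given code -/
def sv (n : ℕ) : SV := fun i => if n.testBit i then -1 else 1

/-- the code of a sign vector -/
def enc (s : SV) : ℕ := ∑ i : I, if s i = 1 then 0 else 2 ^ i.1

theorem sv_enc : ∀ s, sv (enc s) = s ∧ enc s < 256 := by decide +kernel

theorem exists_sv (s : SV) : ∃ n < 256, s = sv n := ⟨_, (sv_enc s).2, (sv_enc s).1.symm⟩

theorem sv_eq_iff {n : ℕ} {i j : I} : sv n i = sv n j ↔ n.testBit i = n.testBit j := by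
  simp only [sv]
  cases n.testBit i <;> cases n.testBit j <;> decide

/-- number of bits -/
def pc : ℕ → ℕ → ℕ
  | 0, _ => 0
  | f + 1, m => Nat.rec 0 (fun m' _ => (m' + 1) % 2 + pc f ((m' + 1) / 2)) m

theorem card_le_pc (f : ℕ) : ∀ (m : ℕ) (T : Finset ℕ), (∀ n ∈ T, n < f ∧ m.testBit n) → T.card ≤ pc f m := by
  induction f with
  | zero => intro m T h; rw [Finset.eq_empty_of_forall_notMem fun n hn => absurd (h n hn).1 (by omega)]; simp
  | succ f ih =>
    intro m T h
    cases m with
    | zero => rw [Finset.eq_empty_of_forall_notMem fun n hn => absurd (h n hn).2 (by simp)]; simp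
    | succ m =>
      show T.card ≤ (m + 1) % 2 + pc f ((m + 1) / 2)
      have h1 := ih ((m + 1) / 2) ((T.erase 0).image (· - 1)) fun n hn => by
        obtain ⟨k, hk, rfl⟩ := Finset.mem_image.1 hn
        obtain ⟨k0, hk⟩ := Finset.mem_erase.1 hk
        obtain ⟨k, rfl⟩ := Nat.exists_eq_succ_of_ne_zero k0
        have := h _ hk
        rw [Nat.testBit_succ] at this
        exact ⟨by omega, this.2⟩
      rw [Finset.card_image_of_injOn fun a ha b hb e => by
        have := (Finset.mem_erase.1 ha).1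
        have := (Finset.mem_erase.1 hb).1
        have e' : a - 1 = b - 1 := e
        omega] at h1
      by_cases h0 : 0 ∈ T
      · have := (h 0 h0).2
        rw [Nat.testBit_zero, decide_eq_true_eq] at this
        rw [Finset.card_erase_of_mem h0] at h1
        omega
      · rw [Finset.erase_eq_of_notMem h0] at h1
        omega

theorem card_le_pc_sv (m : ℕ) (T : Finset SV) (h : ∀ n < 256, sv n ∈ T → m.testBit n) : T.card ≤ pc 256 m := by
  rw [← Finset.card_image_of_injective T (f := enc) fun a b e => by rw [← (sv_enc a).1, e, (sv_enc b).1]]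
  refine card_le_pc _ _ _ fun n hn => ?_
  obtain ⟨s, hs, rfl⟩ := Finset.mem_image.1 hn
  exact ⟨(sv_enc s).2, h _ (sv_enc s).2 (by rwa [(sv_enc s).1])⟩

theorem card_le_pc_fin (m : ℕ) (T : Finset (Fin 64)) (h : ∀ k ∈ T, m.testBit k.1) : T.card ≤ pc 64 m := by
  rw [← Finset.card_image_of_injective T Fin.val_injective]
  refine card_le_pc _ _ _ fun n hn => ?_
  obtain ⟨k, hk, rfl⟩ := Finset.mem_image.1 hn
  exact ⟨k.2, h k hk⟩

/-! ### involutions -/

theorem eq_sg_of_cols {w : WE} (z : ∀ i k, k ≠ i → w.m k i = 0) : ∃ s, w = sg s := by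
  obtain ⟨s, σ, rfl⟩ := mem_Mon_of_cols w fun i => ⟨i, z i⟩
  have hσ : σ = 1 := Subtype.ext (Perm.ext fun j => by
    by_contra hne
    have := z j _ hne
    rw [mono_apply, if_pos rfl] at this
    exact (s _).ne_zero (by exact_mod_cast this))
  exact ⟨s, by rw [hσ, map_one, mul_one]⟩

theorem mono_cv (s : SV) (σ : Aff) (n : I → ℤ) :
    (sg s * pm σ).m *ᵥ cv n = cv fun j => s j * n (σ.1⁻¹ j) := by
  ext j
  rw [mul_m, ← mulVec_mulVec, sg_mulVec, pm_m, perm_mulVec]
  simp [cv]

/-- table of invariant planes -/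
def pT : ℕ := 0x40f040f040f040f02c302c3000000000000000002c302c30000000000000000040f040f040f040f000000000000000000000000000000000000000000000000040f040f040f040f0000000002330233000000000233023302c302c302330233040f040f040f040f

/-- the root used on a plane -/
def rv (k : Fin 64) (n P low : ℕ) : I → ℤ :=
  if ∀ i : I, P.testBit i → df k i = i then 0 else fun i =>
    if P.testBit i then (if i.1 = low ∧ (n &&& P = 0 ∨ n &&& P = P) then -1 else 1) else 0

/-- first root -/
def rv1 (k : Fin 64) (n : ℕ) : I → ℤ := rv k n ((pT >>> (16 * k.1)) % 256) 0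

/-- second root -/
def rv2 (k : Fin 64) (n : ℕ) : I → ℤ := rv k n (255 - (pT >>> (16 * k.1)) % 256) ((pT >>> (16 * k.1 + 8)) % 8)

/-- columns of the product of the two reflections -/
def cl (ρ ρ' : I → ℤ) (i : I) : I → ℤ := e2 i - ρ' i • ρ' - ρ i • ρ

/-- the check for one involution -/
def InvOk (k : Fin 64) : Prop := k ≠ 0 → dm k k = 0 → ∀ n < 256, (∀ i : I, n.testBit (df k i) = n.testBit i) →
    (IsRt (rv1 k n) ∨ ∀ i, rv1 k n i = 0) ∧ (IsRt (rv2 k n) ∨ ∀ i, rv2 k n i = 0) ∧ rv1 k n ⬝ᵥ rv2 k n = 0 ∧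
    ∀ i, (∀ j, sv n j * cl (rv1 k n) (rv2 k n) i (df (di k) j) = cl (rv1 k n) (rv2 k n) i j) ∨
      (∀ j, sv n j * cl (rv1 k n) (rv2 k n) i (df (di k) j) = -cl (rv1 k n) (rv2 k n) i j)

instance (k : Fin 64) : Decidable (InvOk k) := by unfold InvOk; infer_instance

theorem inv_chk0 : ∀ k : Fin 64, k.1 / 8 = 0 → InvOk k := by decide +kernel

theorem inv_chk1 : ∀ k : Fin 64, k.1 / 8 = 1 → InvOk k := by decide +kernel

theorem inv_chk2 : ∀ k : Fin 64, k.1 / 8 = 2 → InvOk k := by decide +kernel

theorem inv_chk3 : ∀ k : Fin 64, k.1 / 8 = 3 → InvOk k := by decide +kernel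

theorem inv_chk4 : ∀ k : Fin 64, k.1 / 8 = 4 → InvOk k := by decide +kernel

theorem inv_chk5 : ∀ k : Fin 64, k.1 / 8 = 5 → InvOk k := by decide +kernel

theorem inv_chk6 : ∀ k : Fin 64, k.1 / 8 = 6 → InvOk k := by decide +kernel

theorem inv_chk7 : ∀ k : Fin 64, k.1 / 8 = 7 → InvOk k := by decide +kernel

theorem inv_chk (k : Fin 64) : InvOk k := by
  have : k.1 / 8 = 0 ∨ k.1 / 8 = 1 ∨ k.1 / 8 = 2 ∨ k.1 / 8 = 3 ∨ k.1 / 8 = 4 ∨ k.1 / 8 = 5 ∨ k.1 / 8 = 6 ∨
      k.1 / 8 = 7 := by omega
  rcases this with h | h | h | h | h | h | h | h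
  exacts [inv_chk0 k h, inv_chk1 k h, inv_chk2 k h, inv_chk3 k h, inv_chk4 k h, inv_chk5 k h, inv_chk6 k h,
    inv_chk7 k h]

theorem exists_rfm {ρ : I → ℤ} (h : IsRt ρ ∨ ∀ i, ρ i = 0) : ∃ w : WE, w.m = rfm ρ := by
  rcases h with h | h
  · exact ⟨rf ρ h, rfl⟩
  · refine ⟨1, mat_ext fun y => ?_⟩
    rw [rfm_mulVec, show cv ρ = 0 from funext fun i => by simp [cv, h i]]
    simp

theorem dot_e2z (ρ : I → ℤ) (i : I) : ρ ⬝ᵥ e2 i = 2 * ρ i := by
  simp [e2, dotProduct, mul_comm]

theorem sq_mono {s : SV} {σ : Aff} {t : SV} (h : sg s * pm σ * (sg s * pm σ) = sg t) :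
    σ * σ = 1 ∧ s * ac σ.1 s = t := by
  rw [mono_mul, ← mul_one (sg t), ← map_one pm] at h
  exact ⟨(mono_inj h).2, (mono_inj h).1⟩

/-- Every involution is conjugate to a sign change. -/
theorem conj_invol {w : WE} (h : w * w = 1) : ∃ g ∈ W1, ∃ s, g * w * g⁻¹ = sg s := by
  obtain ⟨g, hg, s, k, e⟩ := conj_SW1 (w := w) (e := 1) (by rw [pow_one, pow_two, h])
  by_cases k0 : k = 0
  · exact ⟨g, hg, s, by rw [e, k0, dp_zero, map_one, mul_one]⟩
  obtain ⟨h1, h2⟩ := sq_mono (s := s) (σ := dp k) (t := 1) (by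
    rw [← e, map_one]
    calc g * w * g⁻¹ * (g * w * g⁻¹) = g * (w * w) * g⁻¹ := by group
      _ = 1 := by rw [h]; group)
  obtain ⟨n, hn, rfl⟩ := exists_sv s
  obtain ⟨a1, a2, a3, a4⟩ := inv_chk k k0 (dp_inj (by rw [← dp_mul, h1, dp_zero])) n hn fun i => sv_eq_iff.1
    (ac_eq_iff.1 ((eq_inv_of_mul_eq_one_right h2).trans (sv_inv _)) i)
  obtain ⟨a, ha⟩ := exists_rfm a1
  obtain ⟨b, hb⟩ := exists_rfm a2
  have col : ∀ i, (a * b).m *ᵥ cv (e2 i) = cv (cl (rv1 k n) (rv2 k n) i) := fun i => by
    rw [mul_m, ← mulVec_mulVec, hb, rfm_cv (dot_e2z _ i), ha, rfm_cv (k := rv1 k n i) (by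
      rw [dotProduct_sub, dotProduct_smul, a3, dot_e2z]; simp)]
    rfl
  obtain ⟨t, ht⟩ := eq_sg_of_cols (w := (a * b)⁻¹ * (sg (sv n) * pm (dp k)) * (a * b)) fun i j hj => by
    have e1 := mulVec_e2 ((a * b)⁻¹ * (sg (sv n) * pm (dp k)) * (a * b)).m i j
    have e3 : (a * b)⁻¹.m *ᵥ cv (cl (rv1 k n) (rv2 k n) i) = cv (e2 i) := by
      rw [← col, mulVec_mulVec, ← mul_m, inv_mul_cancel, one_m, one_mulVec]
    rw [mul_m, ← mulVec_mulVec, col, mul_m, ← mulVec_mulVec, mono_cv] at e1
    rcases a4 i with e4 | e4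
    · rw [show (fun j => (sv n j : ℤ) * cl (rv1 k n) (rv2 k n) i ((dp k).1⁻¹ j)) = _ from funext e4, e3] at e1
      simpa [cv, e2, hj] using e1.symm
    · rw [show (fun j => (sv n j : ℤ) * cl (rv1 k n) (rv2 k n) i ((dp k).1⁻¹ j)) = -cl (rv1 k n) (rv2 k n) i from
        funext e4, cv_neg, mulVec_neg, e3] at e1
      simpa [cv, e2, hj] using e1.symm
  have e5 : (a * b)⁻¹ * g * w * ((a * b)⁻¹ * g)⁻¹ = sg t := by rw [← ht, ← e]; group
  by_cases hm : (a * b)⁻¹ * g ∈ W1
  · exact ⟨_, hm, t, e5⟩
  · refine ⟨_, mul_mem_W1 (u1_notMem 0) hm, t, ?_⟩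
    calc _ = sg (u1 0) * ((a * b)⁻¹ * g * w * ((a * b)⁻¹ * g)⁻¹) * (sg (u1 0))⁻¹ := by group
      _ = _ := by rw [e5, sg_comm, mul_inv_cancel_right]

/-- Square roots of minus one. -/
theorem conj_sqrt {w : WE} (h : w * w = ng) : ∃ g ∈ W1, ∃ τ : I → I,
    (∀ j, g * w * g⁻¹ * sg (u1 j * u1 (τ j)) * (g * w * g⁻¹)⁻¹ = sg (u1 j * u1 (τ j))) ∧
    ∀ x : WE, (∀ j, x * sg (u1 j * u1 (τ j)) * x⁻¹ = sg (u1 j * u1 (τ j))) →
      x * x ≠ g * w * g⁻¹ ∧ x * x ≠ g * w * g⁻¹ * ng := by
  obtain ⟨g, hg, s, k, e⟩ := conj_SW1 (w := w) (e := 2) (by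
    rw [show 2 ^ 2 = 2 * 2 from rfl, pow_mul, pow_two w, h, pow_two, ng_sq])
  generalize dp k = σ at e
  obtain ⟨h1, h2⟩ := sq_mono (s := s) (σ := σ) (t := -1) (by
    rw [← e]
    calc g * w * g⁻¹ * (g * w * g⁻¹) = g * (w * w) * g⁻¹ := by group
      _ = ng := by rw [h, ← ng_comm]; group)
  have ss : ∀ j, σ.1 (σ.1 j) = j := fun j => DFunLike.congr_fun (congrArg Subtype.val h1) j
  have hτ : ∀ j, σ.1 j ≠ j := fun j hj => by
    have := congrFun h2 j
    rw [Pi.mul_apply, ac_apply, Perm.inv_eq_iff_eq.2 hj.symm, Int.units_mul_self] at this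
    exact absurd (show (1 : ℤˣ) = -1 from this) (by decide)
  refine ⟨g, hg, σ.1, fun j => ?_, fun x hx => ?_⟩
  · rw [e, mono_conj, map_mul, ac_u1, ac_u1, ss, mul_comm]
  · obtain ⟨t, ρ, rfl, hρ⟩ := mono_of_pairs σ.1 hτ hx
    have r2 : ρ * ρ = 1 := Subtype.ext (Perm.ext fun j => by
      show ρ.1 (ρ.1 j) = j
      rcases hρ j with a | a
      · rw [a, a]
      · rcases hρ (σ.1 j) with b | b
        · exact absurd (ρ.1.injective (b.trans a.symm)) (hτ j)
        · rw [a, b, ss])
    rw [mono_mul, r2, e, ← ng_comm, ← mul_assoc, ng, ← map_mul]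
    constructor <;> intro h3 <;> exact hτ 0 (by rw [← (mono_inj h3).2]; rfl)

/-! ### large elementary abelian subgroups -/

/-- masks of fixed sign vectors -/
def fT : ℕ := 0x8000000000000000000000000020000000000400000000000000000000000001800000000000000000000000040000000000002000000000000000000000000180000000000000000000020000000000000000000040000000000000000000018000000000000000000000400000000000000000020000000000000000000001800180018001800100000000000000000000000000000000800180018001800180010000000080018001000000008001800100000000800180010000000080019999000000000000000000000000000000000000000000000000000000009999f00f00000000000000000000000000000000000000000000000000000000f00f80000000000000000000000002000000000000400000000000000000000000018000000000000000000000000040000000000200000000000000000000000001800000000000000000000000004000000000020000000000000000000000000180000000000000000000000002000000000000400000000000000000000000018241824182418241824182418241824182418241824182418241824182418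24184210000000084210000000000000000000000000000000084210000000084219009000000000000000090090000000000000000900900000000000000009009ffff00000000000000000000ffff00000000ffff00000000000000000000ffff8000080000800008200002000020000240000400004000041000010000100001800000800800000840000040040000042000002002000002100000100100000180000000000010000000000000000000000000000000000000080000000000018000000000001000000000000000000000000000000000000008000000000001800100000000000000000000000000000000000000000000000000000000800180010000000000000000000000000000000000000000000000000000000080019999999999999999000000000000000000000000000000009999999999999999f00f00000000f00ff00f00000000f00ff00f00000000f00ff00f00000000f00f80000000000000080000000000000000000000000000000010000000000000018000000000000008000000000000000000000000000000001000000000000001800000000000100000000000000000000000000000000000000800000000000180000000000010000000000000000000000000000000000000080000000000018241000000000000000082410000000000000000824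10000000000000000824184210000000000000000000084210000000084210000000000000000000084219009900990099009900990099009900990099009900990099009900990099009ffff00000000ffff00000000000000000000000000000000ffff00000000ffff8000000000000000000002000000000000000000004000000000000000000001800000000000000000000040000000000000000002000000000000000000000180000000000000000000000004000000000000200000000000000000000000018000000000000000000000000020000000000400000000000000000000000001800100000000800180010000000080018001000000008001800100000000800180018001800180010000000000000000000000000000000080018001800180019999000000000000000000000000000000000000000000000000000000009999f00f00000000000000000000000000000000000000000000000000000000f00f80000000000000000000002000000000000000000400000000000000000000018000000000000000000004000000000000000000002000000000000000000001800000000000000000000020000000000000000004000000000000000000000180000000000000000000040000000000000000000020000000000000000000018241000000008241000000000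00000000000000000000000824100000000824184218421842184218421842184218421842184218421842184218421842184219009000000000000000000009009000000009009000000000000000000009009ffff0000000000000000ffff0000000000000000ffff0000000000000000ffff8000000000000008000000000000000000000000000000001000000000000001800000000000000800000000000000000000000000000000100000000000000180002000400010000800020004000100008000200040001000080002000400018000400020001000008000400020001008000400020001000008000400020001800100000000000000000000000000000000000000000000000000000000800180010000000000000000000000000000000000000000000000000000000080019999000000009999999900000000999999990000000099999999000000009999f00ff00ff00ff00f00000000000000000000000000000000f00ff00ff00ff00f8000008008000008200000200200000240000040040000041000001001000001800008000080000840000400004000042000020000200002100001000010000180002000400010000080002000400010080002000400010000080002000400018000400020001000080004000200010000800040002000100008000400020001824100000000000000000000824100000000824100000000000000000000824184210000000000000000842100000000000000008421000000000000000084219009000000009009000000000000000000000000000000009009000000009009ffffffffffffffffffffffffffffffffffffffffffffffffffffffffffffffff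

/-- masks of commuting involutions -/
def cT : ℕ := 0xc000000030000000c000000030000000c000000030000000c000000030000000300000003000000030000000300000003000000030000000300000003000000000000000f000000000000000f000000000000000f000000000000000f000f000f000f000f000f000f000f000f000f000f000f000f000f000f000f000f0000c30c000030c30000c30c000030c30000000c000003c30000000c000003c300000003000030c300000003000030c30000c303000003c30000c303000003c3000003000000300f000003000000300f0000c0000000030f0000c0000000030f000fc00f000f300f000fc00f000f300f000f030f000f030f000f030f000f030f0000000c000000030000000c000000030000000c000000030000000c000000030000000300000003000000030000000300000003000000030000000300000003000000000000000f000000000000000f000000000000000f000000000000000f000f000f000f000f000f000f000f000f000f000f000f000f000f000f000f000f0000030c000000330000030c000000330000c00c000033330000c00c000033330000c003000000330000c00300000033000003030000333300000303000033330000c300000000ff0000c300000000ff00000000000033ff00000000000033ff000f000f000f00ff000f000f000f00ff000fc30f000f33ff000fc30f000f33ff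

/-- mask of the sign vectors fixed by a permutation -/
def fM (k : Fin 64) : ℕ := (fT >>> (256 * k.1)) % 2 ^ 256

/-- mask of the involutions commuting with a permutation -/
def cM (k : Fin 64) : ℕ := (cT >>> (64 * k.1)) % 2 ^ 64

/-- mask of the even sign vectors -/
def eM : ℕ := 0x9669699669969669699696699669699669969669966969969669699669969669

/-- the group preserving the pairs -/
def yM : ℕ := 0x30300000303

/-- the elementary group of order sixteen -/
def zM : ℕ := 0xf000f000f000f

theorem fM_spec : ∀ k : Fin 64, ∀ n < 256, (∀ i : I, n.testBit (df k i) = n.testBit i) → (fM k).testBit n := by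
  decide +kernel

theorem eM_spec : ∀ n < 256, pr (sv n) = 1 → eM.testBit n := by decide +kernel

theorem cM_spec : ∀ k l : Fin 64, dm l l = 0 → dm k l = dm l k → (cM k).testBit l.1 := by decide +kernel

theorem chk1 : ∀ k : Fin 64, k ≠ 0 → (cM 0).testBit k.1 → pc 256 (fM k &&& eM) ≤ 32 ∧ pc 256 (fM k) ≤ 64 := by
  decide +kernel

theorem chk2 : ∀ k : Fin 64, k ≠ 0 → (cM 0).testBit k.1 → ∀ l : Fin 64, (cM k).testBit l.1 → l ≠ 0 → l ≠ k →
    pc 256 (fM k &&& fM l &&& eM) ≤ 16 ∧ pc 256 (fM k &&& fM l) ≤ 32 := by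
  decide +kernel

theorem chk3 : ∀ k : Fin 64, k ≠ 0 → (cM 0).testBit k.1 → ∀ l : Fin 64, (cM k).testBit l.1 → l ≠ 0 → l ≠ k →
    ∀ m : Fin 64, (cM k &&& cM l).testBit m.1 → m ≠ 0 → m ≠ k → m ≠ l → m ≠ dm k l →
    (cM k &&& cM l &&& cM m &&& yM = cM k &&& cM l &&& cM m ∧ pc 256 (fM k &&& fM l &&& fM m) ≤ 16) ∨
    (pc 256 (fM k &&& fM l &&& fM m) ≤ 8 ∧ (cM k &&& cM l &&& cM m &&& zM = cM k &&& cM l &&& cM m ∨
      pc 64 (cM k &&& cM l &&& cM m) ≤ 8)) := by
  decide +kernel

theorem chk4 : pc 256 (fM 1 &&& fM 2 &&& fM 16 &&& fM 32) ≤ 4 := by decide +kernel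

/-- code of the sign vector in the second coordinates -/
def cOf (k : Fin 64) (s : SV) : SV := fun i => if i = od i ∧ df k i ≠ i then -s i else s i

theorem chk5 : ∀ k : Fin 64, yM.testBit k.1 → (∀ i, df k i = i ∨ df k i = xr i 1) ∧ ∀ n < 256,
    (∀ i : I, n.testBit (xr i 1) = n.testBit i) → pr (cOf k (sv n)) = 1 ∧
      ∀ i j, 2 * (if i = df k j then (sv n i : ℤ) else 0) = dlz (cOf k (sv n)) i j := by
  decide +kernel

theorem mem_range_dl {k : Fin 64} (hk : yM.testBit k.1) {s : SV} (hs : ∀ i, s (xr i 1) = s i) :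
    sg s * pm (dp k) ∈ dl.range := by
  obtain ⟨n, hn, rfl⟩ := exists_sv s
  obtain ⟨h1, h2⟩ := (chk5 k hk).2 n hn fun i => sv_eq_iff.1 (hs i)
  refine ⟨⟨_, h1⟩, WE.ext ?_⟩
  ext i j
  refine mul_left_cancel₀ (two_ne_zero (α := ℚ)) ?_
  rw [dl_apply, mono_apply, ← h2, dp_apply]
  split_ifs <;> simp

theorem sg_mem_range_dl {s : SV} (hs : ∀ i, s (xr i 1) = s i) : sg s ∈ dl.range := by
  have := mem_range_dl (k := 0) (by decide) hs
  rwa [dp_zero, map_one, mul_one] at this

theorem card_Ev : Nat.card Ev = 128 := by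
  have := pr.ker.card_mul_index
  rw [index_ker, MonoidHom.range_eq_top.2 (fun u => by
    rcases Int.units_eq_one_or u with rfl | rfl
    exacts [⟨1, map_one _⟩, ⟨u1 0, pr_u1 0⟩]), card_top, card_SV] at this
  rw [Nat.card_eq_fintype_card (α := ℤˣ), Fintype.card_units_int] at this
  show Nat.card pr.ker = 128
  omega

theorem elem_SW {X : Subgroup WE} (hS : X ≤ SW) (hX : ∀ x ∈ X, x * x = 1) (h128 : 128 ≤ Nat.card X)
    (hc : X ≤ W1 ∨ 256 ≤ Nat.card X ∨ Nat.card ↥(X.comap sg) ≤ 16) : X ≤ sg.range ∨ X ≤ dl.range := by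
  classical
  let Y : Finset (Fin 64) := Finset.univ.filter fun k => ∃ s, sg s * pm (dp k) ∈ X
  let C : Finset SV := Finset.univ.filter fun s => sg s ∈ X
  have hY : ∀ k, k ∈ Y ↔ ∃ s, sg s * pm (dp k) ∈ X := fun k => by simp [Y]
  have hC : ∀ s, s ∈ C ↔ sg s ∈ X := fun s => by simp [C]
  have comm : ∀ x ∈ X, ∀ y ∈ X, x * y = y * x := fun x hx y hy => by
    rw [← inv_eq_of_mul_eq_one_right (hX _ (mul_mem hx hy)), _root_.mul_inv_rev,
      inv_eq_of_mul_eq_one_right (hX x hx), inv_eq_of_mul_eq_one_right (hX y hy)]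
  have card : Nat.card X ≤ Y.card * C.card := by
    choose! r hr using fun k => (hY k).1
    choose s k e using fun x : X => hS x.2
    rw [← Finset.card_product, ← Nat.card_eq_finsetCard]
    have m1 : ∀ x, k x ∈ Y := fun x => (hY _).2 ⟨s x, e x ▸ x.2⟩
    refine Nat.card_le_card_of_injective (fun x => ⟨(k x, s x * r (k x)), Finset.mem_product.2 ⟨m1 x, (hC _).2 ?_⟩⟩)
      fun x y h => Subtype.ext ?_
    · have := mul_mem x.2 (inv_mem (hr _ (m1 x)))
      rwa [e x, _root_.mul_inv_rev, mul_assoc, mul_inv_cancel_left, ← map_inv, sv_inv, ← map_mul] at this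
    · obtain ⟨h1, h2⟩ := Prod.ext_iff.1 (congrArg Subtype.val h)
      simp only at h1 h2
      rw [h1] at h2
      rw [e x, e y, h1, mul_right_cancel h2]
  have cY : ∀ k ∈ Y, ∀ l ∈ Y, (cM k).testBit l.1 := fun k hk l hl => by
    obtain ⟨s, hs⟩ := (hY k).1 hk
    obtain ⟨t, ht⟩ := (hY l).1 hl
    have h1 := comm _ hs _ ht
    rw [mono_mul, mono_mul, dp_mul, dp_mul] at h1
    refine cM_spec k l (dp_inj ?_) (dp_inj (mono_inj h1).2)
    rw [← dp_mul, (sq_mono ((hX _ ht).trans (map_one sg).symm)).1, dp_zero]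
  have fx : ∀ k ∈ Y, ∀ s ∈ C, ∀ i, s (df k i) = s i := fun k hk s hs => by
    obtain ⟨t, ht⟩ := (hY k).1 hk
    have h1 := mono_conj t (dp k) s
    rw [comm _ ht _ ((hC s).1 hs), mul_inv_cancel_right] at h1
    exact ac_eq_iff.1 (sg_inj h1).symm
  have fY : ∀ k ∈ Y, ∀ n < 256, sv n ∈ C → (fM k).testBit n := fun k hk n hn hs =>
    fM_spec k n hn fun i => sv_eq_iff.1 (fx k hk _ hs i)
  have y0 : (0 : Fin 64) ∈ Y := (hY 0).2 ⟨1, by rw [dp_zero]; simp⟩
  by_cases h0 : ∀ k ∈ Y, k = 0
  · refine Or.inl fun x hx => ?_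
    obtain ⟨s, k, rfl⟩ := hS hx
    rw [h0 k ((hY k).2 ⟨s, hx⟩), dp_zero, map_one, mul_one]
    exact ⟨s, rfl⟩
  right
  push Not at h0
  obtain ⟨k, hk, k0⟩ := h0
  have pick : ∀ T : Finset (Fin 64), T.card < Y.card → ∃ l ∈ Y, l ∉ T := fun T hT =>
    Finset.exists_mem_notMem_of_card_lt_card hT
  have y8 : 8 ≤ Y.card := by
    have two : ∀ {b : ℕ}, C.card ≤ 2 * b → 8 * b ≤ Nat.card X →
        (∀ l ∈ Y, l ≠ 0 → l ≠ k → C.card ≤ b) → 0 < b → 8 ≤ Y.card := fun {b} h1 h2 h3 hb => by
      obtain ⟨l, hl, l0⟩ := pick {0, k} (lt_of_le_of_lt Finset.card_le_two (by nlinarith))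
      simp only [Finset.mem_insert, Finset.mem_singleton, not_or] at l0
      have := h3 l hl l0.1 l0.2
      nlinarith
    rcases hc with hc | hc | hc
    · have ev : ∀ n < 256, sv n ∈ C → eM.testBit n := fun n hn hs =>
        eM_spec n hn (sg_mem_W1.1 (hc ((hC _).1 hs)))
      refine two (b := 16) ((card_le_pc_sv _ C fun n hn hs => ?_).trans (chk1 k k0 (cY 0 y0 k hk)).1) h128
        (fun l hl l0 lk => (card_le_pc_sv _ C fun n hn hs => ?_).trans
          (chk2 k k0 (cY 0 y0 k hk) l (cY k hk l hl) l0 lk).1) (by norm_num)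
      · simp [Nat.testBit_and, fY k hk n hn hs, ev n hn hs]
      · simp [Nat.testBit_and, fY k hk n hn hs, fY l hl n hn hs, ev n hn hs]
    · refine two (b := 32) ((card_le_pc_sv _ C (fY k hk)).trans (chk1 k k0 (cY 0 y0 k hk)).2) hc
        (fun l hl l0 lk => (card_le_pc_sv _ C fun n hn hs => ?_).trans
          (chk2 k k0 (cY 0 y0 k hk) l (cY k hk l hl) l0 lk).2) (by norm_num)
      simp [Nat.testBit_and, fY k hk n hn hs, fY l hl n hn hs]
    · have : C.card = Nat.card ↥(X.comap sg) := by
        rw [← Nat.card_eq_finsetCard]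
        exact Nat.card_congr (Equiv.subtypeEquivRight hC)
      nlinarith
  obtain ⟨l, hl, l0⟩ := pick {0, k} (lt_of_le_of_lt Finset.card_le_two (by omega))
  obtain ⟨m, hm, m0⟩ := pick {0, k, l, dm k l} (lt_of_le_of_lt Finset.card_le_four (by omega))
  simp only [Finset.mem_insert, Finset.mem_singleton, not_or] at l0 m0
  have c3 : ∀ j ∈ Y, (cM k &&& cM l &&& cM m).testBit j.1 := fun j hj => by
    simp [Nat.testBit_and, cY k hk j hj, cY l hl j hj, cY m hm j hj]
  have f3 : C.card ≤ pc 256 (fM k &&& fM l &&& fM m) := card_le_pc_sv _ C fun n hn hs => by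
    simp [Nat.testBit_and, fY k hk n hn hs, fY l hl n hn hs, fY m hm n hn hs]
  have full : ∀ (M c : ℕ), (Finset.univ.filter fun j : Fin 64 => M.testBit j.1).card = c → c ≤ Y.card →
      cM k &&& cM l &&& cM m &&& M = cM k &&& cM l &&& cM m → ∀ j : Fin 64, j ∈ Y ↔ M.testBit j.1 :=
    fun M c h1 h2 h3 j => by
    rw [Finset.eq_of_subset_of_card_le (s := Y) (t := Finset.univ.filter fun j : Fin 64 => M.testBit j.1)
      (fun j hj => by
        have := c3 j hj
        rw [← h3, Nat.testBit_and, Bool.and_eq_true] at this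
        simpa using this.2) (h1 ▸ h2)]
    simp
  rcases chk3 k k0 (cY 0 y0 k hk) l (cY k hk l hl) l0.1 l0.2 m
    (by simp [Nat.testBit_and, cY k hk m hm, cY l hl m hm]) m0.1 m0.2.1 m0.2.2.1 m0.2.2.2 with
    ⟨a1, a2⟩ | ⟨a1, a2 | a2⟩
  · have yy := full yM 8 (by decide +kernel) y8 a1
    obtain ⟨t, ht⟩ := (hY 1).1 ((yy 1).2 (by decide +kernel))
    intro x hx
    obtain ⟨s, j, rfl⟩ := hS hx
    have hj := (yy j).1 ((hY j).2 ⟨s, hx⟩)
    refine mem_range_dl hj fun i => ?_
    have d1 : ∀ i, (dp 1).1⁻¹ i = xr i 1 := by decide +kernel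
    rcases (chk5 j hj).1 i with b | b
    · have h1 := comm _ hx _ ht
      rw [mono_mul, mono_mul] at h1
      have h2 := congrFun (mono_inj h1).1 i
      rw [Pi.mul_apply, Pi.mul_apply, ac_apply, ac_apply, d1, Perm.inv_eq_iff_eq.2 b.symm, mul_comm] at h2
      exact (mul_left_cancel h2).symm
    · have h2 := (sq_mono ((hX _ hx).trans (map_one sg).symm)).2
      rw [← b]
      exact ac_eq_iff.1 ((eq_inv_of_mul_eq_one_right h2).trans (sv_inv _)) i
  · have yy := full zM 16 (by decide +kernel) (by nlinarith) a2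
    have y16 : Y.card ≤ 16 := (card_le_pc_fin zM Y fun j hj => (yy j).1 hj).trans (by decide +kernel)
    have := (card_le_pc_sv _ C fun n hn hs => by
      simp only [Nat.testBit_and, Bool.and_eq_true]
      exact ⟨⟨⟨fY 1 ((yy 1).2 (by decide +kernel)) n hn hs, fY 2 ((yy 2).2 (by decide +kernel)) n hn hs⟩,
        fY 16 ((yy 16).2 (by decide +kernel)) n hn hs⟩, fY 32 ((yy 32).2 (by decide +kernel)) n hn hs⟩).trans chk4
    nlinarith
  · have := (card_le_pc_fin _ Y c3).trans a2
    nlinarith

theorem conj_elem {X : Subgroup WE} (hX : ∀ x ∈ X, x * x = 1) (h128 : 128 ≤ Nat.card X)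
    (hc : X ≤ W1 ∨ 256 ≤ Nat.card X) :
    ∃ g ∈ W1, (∀ x ∈ X, g * x * g⁻¹ ∈ sg.range) ∨ (∀ x ∈ X, g * x * g⁻¹ ∈ dl.range) := by
  obtain ⟨g, hg, h1⟩ := conj_SW (two_of_sq hX)
  have e : Nat.card (X.map (MulAut.conj g).toMonoidHom) = Nat.card X :=
    card_map_of_injective (MulAut.conj g).injective
  refine ⟨g, hg, (elem_SW (X := X.map (MulAut.conj g).toMonoidHom) ?_ ?_ (e ▸ h128)
    (hc.imp ?_ fun h => Or.inl (e ▸ h))).imp (fun h x hx => h ⟨x, hx, rfl⟩) fun h x hx => h ⟨x, hx, rfl⟩⟩
  · rintro _ ⟨x, hx, rfl⟩; exact h1 x hx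
  · rintro _ ⟨x, hx, rfl⟩; rw [← map_mul, hX x hx, map_one]
  · rintro h _ ⟨x, hx, rfl⟩
    exact mul_mem (mul_mem hg (h hx)) (inv_mem hg)

theorem card_range_dl : Nat.card dl.range = 128 := by
  rw [← Nat.card_congr (MonoidHom.ofInjective dl_inj).toEquiv, card_Ev]

theorem conj_elem8 {X : Subgroup WE} (hX : ∀ x ∈ X, x * x = 1) (h256 : 256 ≤ Nat.card X) :
    ∃ g ∈ W1, ∀ x ∈ X, g * x * g⁻¹ ∈ sg.range := by
  obtain ⟨g, hg, h | h⟩ := conj_elem hX (by omega) (Or.inr h256)
  · exact ⟨g, hg, h⟩
  · have := card_le_of_le (H := X.map (MulAut.conj g).toMonoidHom) (K := dl.range) (by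
      rintro _ ⟨x, hx, rfl⟩; exact h x hx)
    rw [card_map_of_injective (MulAut.conj g).injective, card_range_dl] at this
    omega

end Cfsg.Agent.H38.E8
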