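import Cfsg.Agent.H38.E8G

/-!
Groups of automorphisms of the groups of sign vectors.
-/

set_option autoImplicit false
set_option maxRecDepth 100000
set_option linter.unusedVariables false

namespace Cfsg.Agent.H38.E8

open Equiv Subgroup MulAction

theorem no_prime {E : Type*} [Group E] [Finite E] {n : ℕ} (hE : Nat.card E = 2 ^ n) (H : Subgroup (MulAut E)) (z : E)
    {p : ℕ} (hp : p.Prime) (h : p ∣ (orbit H z).ncard) : ∃ j < n, 2 ^ n ≡ 2 ^ j [MOD p] := by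
  have : Fact p.Prime := ⟨hp⟩
  obtain ⟨α, hα⟩ := exists_prime_orderOf_dvd_card' (G := H) p
    (h.trans (index_stabilizer H z ▸ (stabilizer H z).index_dvd_card))
  have h1 := (IsPGroup.of_card (p := p) (n := 1) (G := zpowers α)
    (by rw [Nat.card_zpowers, hα, pow_one])).card_modEq_card_fixedPoints E
  obtain ⟨j, hj, h2⟩ := (Nat.dvd_prime_pow Nat.prime_two).1
    (hE ▸ (FixedPoints.subgroup (zpowers α) E).card_subgroup_dvd_card)
  refine ⟨j, lt_of_le_of_ne hj fun e => hp.one_lt.ne' ?_, hE ▸ h2 ▸ h1⟩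
  have h3 := (FixedPoints.subgroup (zpowers α) E).eq_top_of_card_eq (by rw [h2, e, hE])
  rw [← hα, orderOf_eq_one_iff]
  refine Subtype.ext (MulEquiv.ext fun x => ?_)
  have : x ∈ FixedPoints.subgroup (zpowers α) E := h3 ▸ mem_top x
  exact this ⟨α, mem_zpowers α⟩

theorem mem_orb {E : Type*} [Group E] {H : Subgroup (MulAut E)} {z x : E} : x ∈ orbit H z ↔ ∃ γ ∈ H, γ z = x :=
  ⟨fun ⟨γ, e⟩ => ⟨γ.1, γ.2, e⟩, fun ⟨γ, h, e⟩ => ⟨⟨γ, h⟩, e⟩⟩

theorem orb_map {E : Type*} [Group E] {H : Subgroup (MulAut E)} {z x : E} {γ : MulAut E} (hγ : γ ∈ H) :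
    γ x ∈ orbit H z ↔ x ∈ orbit H z := by
  rw [mem_orb, mem_orb]
  exact ⟨fun ⟨δ, h, e⟩ => ⟨γ⁻¹ * δ, mul_mem (inv_mem hγ) h, by rw [MulAut.mul_apply, e, MulAut.inv_apply_self]⟩,
    fun ⟨δ, h, e⟩ => ⟨γ * δ, mul_mem hγ h, by rw [MulAut.mul_apply, e]⟩⟩

theorem ncard_ev (Δ : Set Ev) (p : SV → Prop) [DecidablePred p] (h : ∀ c : Ev, c ∈ Δ ↔ p c.1) :
    Δ.ncard = (Finset.univ.filter fun s => pr s = 1 ∧ p s).card := by
  rw [← Set.ncard_image_of_injective Δ Subtype.val_injective, ← Set.ncard_coe_finset]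
  congr 1
  ext s
  simp only [Set.mem_image, Finset.coe_filter, Finset.mem_univ, true_and, Set.mem_ofPred_eq]
  exact ⟨fun ⟨c, hc, e⟩ => e ▸ ⟨c.2, (h c).1 hc⟩, fun ⟨h1, h2⟩ => ⟨⟨s, h1⟩, (h _).2 h2, rfl⟩⟩

theorem mEv_ne : mEv ≠ 1 := fun h => absurd (congrFun (congrArg Subtype.val h) 0) (by decide)

/-! ### the alternating group -/

theorem card_fib : ∀ (c : SV) (u : ℤˣ), 2 * ((Finset.univ.filter fun i => c i = u).card : ℤ) = 8 + u * sm c := by
  decide +kernel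

theorem exists_eq_pair : ∀ c : SV, ∃ i j, i ≠ j ∧ c i = c j := by decide +kernel

theorem exists_even_perm {c d : SV} (h : sm c = sm d) : ∃ σ : Perm I, Perm.sign σ = 1 ∧ ac σ c = d := by
  have e : ∀ u, {i // c i = u} ≃ {i // d i = u} := fun u => Fintype.equivOfCardEq (by
    have h1 := card_fib c u
    have h2 := card_fib d u
    rw [Fintype.card_subtype, Fintype.card_subtype]
    rw [h] at h1
    omega)
  have h1 : ac (Equiv.ofFiberEquiv e) c = d := ac_eq_iff.2 fun i => Equiv.ofFiberEquiv_map e i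
  generalize Equiv.ofFiberEquiv e = σ at h1
  rcases Int.units_eq_one_or (Perm.sign σ) with h2 | h2
  · exact ⟨σ, h2, h1⟩
  · obtain ⟨i, j, hij, h3⟩ := exists_eq_pair c
    refine ⟨σ * swap i j, by rw [map_mul, h2, Perm.sign_swap hij]; rfl, ?_⟩
    rw [ac_mul, ← h1]
    congr 1
    exact ac_eq_iff.2 fun k => Equiv.apply_swap_eq_self h3 k

theorem exists_dswap : ∀ s : SV, s 0 ≠ s 1 → ∃ j k : I, j ≠ k ∧ ac (swap 0 1 * swap j k) s = s * (u1 0 * u1 1) ∧
    ac (swap 0 1 * swap j k) (u1 0 * u1 1) = u1 0 * u1 1 := by decide +kernel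

theorem ev_prod : ∀ s : SV, pr s = 1 → s = ∏ i, if s i = 1 ∨ i = 0 then 1 else u1 0 * u1 i := by decide +kernel

theorem sm_pair : ∀ i : I, i ≠ 0 → sm (u1 0 * u1 i) = 4 ∧ sm (u1 0 * u1 i * -1) = -4 := by decide +kernel

theorem sm_cases : ∀ s : SV, pr s = 1 → s = 1 ∨ sm s = 4 ∨ sm s = 0 ∨ sm s = -4 ∨ s = -1 := by decide +kernel

theorem fix_alt (H : Subgroup (MulAut Ev)) (h1 : ∀ σ : Perm I, Perm.sign σ = 1 → ∃ γ ∈ H, ∀ c, γ c = acE σ c)
    (h2 : ∀ γ ∈ H, γ mEv = mEv → ∀ c, sm (γ c).1 = sm c.1) : ∀ γ ∈ H, γ mEv = mEv := by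
  have tr : ∀ c d : Ev, sm c.1 = sm d.1 → c ∈ orbit H mEv → d ∈ orbit H mEv := fun c d h hc => by
    obtain ⟨σ, s1, s2⟩ := exists_even_perm h
    obtain ⟨γ, g1, g2⟩ := h1 σ s1
    rwa [← orb_map g1, g2, show acE σ c = d from Subtype.ext s2] at hc
  have n2 : (⟨u1 0 * u1 1, pr_pair 0 1⟩ : Ev) ∉ orbit H mEv := fun h => by
    obtain ⟨γ, g1, g2⟩ := mem_orb.1 h
    have k : ∀ i, i ≠ 0 → (γ ⟨u1 0 * u1 i, pr_pair 0 i⟩).1 0 = (γ ⟨u1 0 * u1 i, pr_pair 0 i⟩).1 1 := fun i hi => by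
      by_contra hne
      obtain ⟨j, k, a1, a2, a3⟩ := exists_dswap _ hne
      obtain ⟨δ, d1, d2⟩ := h1 (swap 0 1 * swap j k) (by
        rw [map_mul, Perm.sign_swap (by decide), Perm.sign_swap a1]; rfl)
      have := h2 (γ⁻¹ * δ * γ) (mul_mem (mul_mem (inv_mem g1) d1) g1) (by
        rw [MulAut.mul_apply, MulAut.mul_apply, g2, d2, show acE (swap 0 1 * swap j k) ⟨u1 0 * u1 1, pr_pair 0 1⟩ =
          ⟨u1 0 * u1 1, pr_pair 0 1⟩ from Subtype.ext a3,
          ← g2, MulAut.inv_apply_self]) ⟨u1 0 * u1 i, pr_pair 0 i⟩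
      rw [MulAut.mul_apply, MulAut.mul_apply, d2, show acE _ (γ ⟨u1 0 * u1 i, pr_pair 0 i⟩) =
        γ ⟨u1 0 * u1 i, pr_pair 0 i⟩ * ⟨u1 0 * u1 1, pr_pair 0 1⟩ from Subtype.ext a2, ← g2, ← map_mul,
        MulAut.inv_apply_self] at this
      have b := sm_pair i hi
      have e : sm (u1 0 * u1 i * -1) = sm (u1 0 * u1 i) := this
      omega
    have all : ∀ c : Ev, (γ c).1 0 = (γ c).1 1 := fun c => by
      have e : c = ∏ i, if c.1 i = 1 ∨ i = 0 then 1 else (⟨u1 0 * u1 i, pr_pair 0 i⟩ : Ev) := Subtype.ext (by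
        rw [SubmonoidClass.coe_finsetProd]
        refine (ev_prod c.1 c.2).trans (Finset.prod_congr rfl fun i _ => ?_)
        split_ifs <;> rfl)
      rw [e, map_prod, SubmonoidClass.coe_finsetProd, Finset.prod_apply, Finset.prod_apply]
      refine Finset.prod_congr rfl fun i _ => ?_
      split_ifs with hi
      · rw [map_one]; rfl
      · exact k i fun e => hi (Or.inr e)
    have := all (γ⁻¹ ⟨u1 0 * u1 2, pr_pair 0 2⟩)
    rw [MulAut.apply_inv_self] at this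
    exact absurd this (by decide)
  have n1 : (1 : Ev) ∉ orbit H mEv := fun h => by
    obtain ⟨γ, -, g2⟩ := mem_orb.1 h
    exact mEv_ne (γ.map_eq_one_iff.1 g2)
  have np := fun {p : ℕ} (hp : p.Prime) => no_prime (n := 7) card_Ev H mEv hp
  have mem : ∀ (P4 P6 : Prop), (P4 ↔ ∃ c ∈ orbit H mEv, sm c.1 = 0) → (P6 ↔ ∃ c ∈ orbit H mEv, sm c.1 = -4) →
      ∀ c : Ev, c ∈ orbit H mEv ↔ c.1 = -1 ∨ (P4 ∧ sm c.1 = 0) ∨ (P6 ∧ sm c.1 = -4) := fun P4 P6 a4 a6 c => by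
    refine ⟨fun hc => ?_, ?_⟩
    · rcases sm_cases c.1 c.2 with e | e | e | e | e
      · exact absurd (show (1 : Ev) ∈ _ from (Subtype.ext e : c = 1) ▸ hc) n1
      · exact absurd (tr c _ (e.trans (sm_pair 1 (by decide)).1.symm) hc) n2
      · exact Or.inr (Or.inl ⟨a4.2 ⟨c, hc, e⟩, e⟩)
      · exact Or.inr (Or.inr ⟨a6.2 ⟨c, hc, e⟩, e⟩)
      · exact Or.inl e
    · rintro (e | ⟨a, e⟩ | ⟨a, e⟩)
      · rw [show c = mEv from Subtype.ext e]; exact mem_orbit_self _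
      · obtain ⟨d, hd, e'⟩ := a4.1 a
        exact tr d c (e'.trans e.symm) hd
      · obtain ⟨d, hd, e'⟩ := a6.1 a
        exact tr d c (e'.trans e.symm) hd
  by_cases a4 : ∃ c ∈ orbit H mEv, sm c.1 = 0 <;> by_cases a6 : ∃ c ∈ orbit H mEv, sm c.1 = -4
  · refine absurd (np (p := 11) (by norm_num) ?_) (by decide)
    rw [ncard_ev _ (fun s => s = -1 ∨ (True ∧ sm s = 0) ∨ (True ∧ sm s = -4))
      (mem True True (by simp only [a4]) (by simp only [a6]))]
    decide +kernel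
  · refine absurd (np (p := 71) (by norm_num) ?_) (by decide)
    rw [ncard_ev _ (fun s => s = -1 ∨ (True ∧ sm s = 0) ∨ (False ∧ sm s = -4))
      (mem True False (by simp only [a4]) (by simp only [a6]))]
    decide +kernel
  · refine absurd (np (p := 29) (by norm_num) ?_) (by decide)
    rw [ncard_ev _ (fun s => s = -1 ∨ (False ∧ sm s = 0) ∨ (True ∧ sm s = -4))
      (mem False True (by simp only [a4]) (by simp only [a6]))]
    decide +kernel
  · intro γ hγ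
    simpa [Subtype.ext_iff, mEv] using
      (mem False False (by simp only [a4]) (by simp only [a6]) _).1 (mem_orb.2 ⟨γ, hγ, rfl⟩)

/-! ### the affine group -/

/-- table of the witnesses -/
def wT : ℕ := 0xfac6880eef112efd1023eb1a4f7b0843dd19475f18053fac6beb08635f1167dd1021afac6beb084c1fac688fac688fac97768883bca9873ea8065f9a8abe700a6f592a7d5888f1ab8eac780e7d512e6f508c73aa4e5f8881f5a98577a82989f5b3e688a33ea1a7bca022cf9aaa3c780afd192aef18a873a3ae2e700eef112efd10acf1a26acf88a177a1a5f5a02d0bf4b3e688941f9ab08f9ab08f9a953f8842f999467b983285f3b1af88627b9166f9903607f2b1af8872a1f17623f0b1a23ede5688c2b8b9c63ab8077b1acbba60434f59475f18c47563cfa868635f11674f50c0f7624f7b08cd7161c9f3604c8decd3d650982f5998bf5023795ad10f59d10f592a7d585303ebd19f500e7d51d19f507311ea6b79485a07e97a15e8d1943dd7c458b83f11b8af18077b1ad51f180afd19d51f185711e3d58f11d58f112efd107703e24f7b087a85e15a97e0d5163c977688d670d1d2f2d0948ddab374c8990bd9b919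d8ca983b977688b989d1999bd0ce1a3a95adc8ae2c398eac7872ac47fac688e23ab1e6b8b023eb1aeb386843dd1947cd58e0e563ef2a6063cd5167dd10e467626beb08e9e161ed6360688facf354589c3d519cad5807e95af11d580a6f59f11d585391abf18d51f18d512e6f507383aa4fe9487e05a95e17a8f11635f74650bc2d19bcbd1023eb1af50d19f50d192aef185783a3f59d100eef11f59d107791a26beb085e87a17e95a0f59434b3e688f2e0d1f662d0b08f9a97e4c8bd09999d1b98ea1a33b3e6889d8b91bd9990ee9832b1af888eae31ae2e70762e46fac688dc1b1af88b1af88b1add3b0843dd19475f183b8563f9ab08635f1167dd103f0762f9ab087ba1617f2360f9a22cde56889f50d19bd2d0dc895afa54c8d10f59f11d588b9c2bde5688f18d51d19f508f1e2adda948ef2829cfa8687ba845fac688bbc0d1bf42d0f88b1adec4c8f50d19d51f18ab1e23fac688d58f11f59d10af9c22f9ab08cfaa21ef2a607f2a44fac688bbc0d1bf42d0fac21adec4c8f74419d7c458bbc443fac688d7c611f74650bf4642fac688dec681fac688fac688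

/-- table of the representatives -/
def rT : ℕ := 0xff7f7f3f7f3f3f1f7f3f3f1f3f1f1f0f7f3f3f1f3f1f1f173f1f1f171f1717077f3f3f1f3f1f1f173f1f1f171f1717073f1f1f0f1f1717071f1717070f0707037f3f3f1f3f1f1f173f1f1f171f1717073f1f1f171f0f17071f170f07170707033f1f1f171f170f071f0f1707170707031f1717071707070317070703070303017f3f3f1f3f1f1f173f1f1f171f1717073f1f1f171f170f071f0f1707170707033f1f1f171f0f17071f170f07170707031f1717071707070317070703070303013f1f1f0f1f1717071f1717070f0707031f1717071707070317070703070303011f1717071707070317070703070303010f070703070303010703030103010100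

/-- the witnesses -/
def wf (n : ℕ) (x : I) : I := ⟨(wT >>> (3 * (8 * n + x.1))) % 8, Nat.mod_lt _ (by decide)⟩

/-- the representatives -/
def rp (n : ℕ) : ℕ := (rT >>> (8 * n)) % 256

theorem aff_of_pairs {f : I → I} (h : ∀ a b, f (xr a b) = x3 (f a) (f b) (f 0)) (a b c : I) :
    f (x3 a b c) = x3 (f a) (f b) (f c) := by
  have key : ∀ a b c d : I, x3 (x3 a b d) c d = x3 a b c := by decide +kernel
  rw [x3, h, h, key]

theorem wf_chk : ∀ n < 256, (∀ x y, wf n x = wf n y → x = y) ∧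
    (∀ a b, wf n (xr a b) = x3 (wf n a) (wf n b) (wf n 0)) ∧ ∀ i, n.testBit (wf n i) = (rp n).testBit i := by
  decide +kernel

theorem exists_aff (s : SV) : ∃ σ ∈ Aff, ac σ (sv (rp (enc s))) = s := by
  obtain ⟨h1, h2, h3⟩ := wf_chk _ (sv_enc s).2
  refine ⟨Equiv.ofBijective _ (Finite.injective_iff_bijective.1 h1), aff_of_pairs h2, ac_eq_iff.2 fun i => ?_⟩
  show s (wf (enc s) i) = _
  rw [← congrFun (sv_enc s).1 (wf (enc s) i)]
  simp only [sv, h3]

theorem aff_fix {s : SV} (h : ∀ σ ∈ Aff, ac σ s = s) : s = 1 ∨ s = -1 := by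
  have key : ∀ s : SV, (∀ i, s (df 1 i) = s i ∧ s (df 2 i) = s i ∧ s (df 4 i) = s i) →
      s = 1 ∨ s = -1 := by decide +kernel
  exact key s fun i => ⟨ac_eq_iff.1 (h _ (dp 1).2) i, ac_eq_iff.1 (h _ (dp 2).2) i, ac_eq_iff.1 (h _ (dp 4).2) i⟩

theorem rp_even : ∀ s : SV, pr s = 1 → s = -1 ∨ rp (enc s) = 23 ∨
    ((∀ i, sv (rp (enc s)) (xr i 1) = sv (rp (enc s)) i) ∧ sv (rp (enc s)) ≠ -1) := by decide +kernel

theorem fix_aff_ev (H : Subgroup (MulAut Ev)) (h1 : ∀ σ ∈ Aff, ∃ γ ∈ H, ∀ c, γ c = acE σ c)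
    (h3 : ∀ γ ∈ H, (∀ i, (γ mEv).1 (xr i 1) = (γ mEv).1 i) → γ mEv = mEv) : ∀ γ ∈ H, γ mEv = mEv := by
  have tr : ∀ c : Ev, ∃ h, (c ∈ orbit H mEv ↔ (⟨sv (rp (enc c.1)), h⟩ : Ev) ∈ orbit H mEv) := fun c => by
    obtain ⟨σ, s1, s2⟩ := exists_aff c.1
    obtain ⟨γ, g1, g2⟩ := h1 σ s1
    have h : sv (rp (enc c.1)) ∈ Ev := by rw [MonoidHom.mem_ker, ← pr_ac σ, s2]; exact c.2
    refine ⟨h, ?_⟩
    rw [← orb_map g1 (x := ⟨sv (rp (enc c.1)), h⟩), g2, show acE σ ⟨sv (rp (enc c.1)), h⟩ = c from Subtype.ext s2]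
  have sub : ∀ c ∈ orbit H mEv, c.1 = -1 ∨ rp (enc c.1) = 23 := fun c hc => by
    rcases rp_even c.1 c.2 with e | e | ⟨e1, e2⟩
    · exact Or.inl e
    · exact Or.inr e
    · obtain ⟨h, hh⟩ := tr c
      obtain ⟨γ, g1, g2⟩ := mem_orb.1 (hh.1 hc)
      exact absurd (congrArg Subtype.val (g2.symm.trans (h3 γ g1 (by rw [g2]; exact e1)))) e2
  intro γ hγ
  have hc : γ mEv ∈ orbit H mEv := mem_orb.2 ⟨γ, hγ, rfl⟩
  refine Subtype.ext ((sub _ hc).resolve_right fun e => ?_)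
  refine absurd (no_prime (n := 7) card_Ev H mEv (p := 19) (by norm_num) ?_) (by decide)
  rw [ncard_ev _ (fun s => s = -1 ∨ rp (enc s) = 23) fun c => ⟨sub c, ?_⟩]
  · decide +kernel
  · rintro (e' | e')
    · rw [show c = mEv from Subtype.ext e']; exact mem_orbit_self _
    · obtain ⟨h, hh⟩ := tr c
      obtain ⟨h', hh'⟩ := tr (γ mEv)
      simp only [e, e'] at hh hh'
      exact hh.2 (hh'.1 hc)

theorem pair_eq : ∀ a b c d : I, a ≠ b → u1 a * u1 b = u1 c * u1 d → c = a ∨ c = b := by decide +kernel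

theorem two_others : ∀ i : I, ∃ k l, k ≠ i ∧ l ≠ i ∧ k ≠ l := by decide +kernel

/-- a transvection -/
def tv (i j k x : I) : I := if x = i ∨ x = j ∨ x = k ∨ x = x3 i j k then x else xr x (xr i j)

theorem tv_chk0 : ∀ i j k : I, i ≠ j → i ≠ k → j ≠ k → (∀ x, tv i j k (tv i j k x) = x) ∧
    (∀ a b, tv i j k (xr a b) = x3 (tv i j k a) (tv i j k b) (tv i j k 0)) ∧
    (∀ x, tv i j k x = x ↔ x = i ∨ x = j ∨ x = k ∨ x = x3 i j k) ∧
    x3 i j k ≠ i ∧ x3 i j k ≠ j ∧ x3 i j k ≠ k := by decide +kernel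

theorem tv_chk (i j k : I) (h1 : i ≠ j) (h2 : i ≠ k) (h3 : j ≠ k) : (∀ x, tv i j k (tv i j k x) = x) ∧
    (∀ a b c, tv i j k (x3 a b c) = x3 (tv i j k a) (tv i j k b) (tv i j k c)) ∧
    (∀ x, tv i j k x = x ↔ x = i ∨ x = j ∨ x = k ∨ x = x3 i j k) ∧
    x3 i j k ≠ i ∧ x3 i j k ≠ j ∧ x3 i j k ≠ k :=
  ⟨(tv_chk0 i j k h1 h2 h3).1, aff_of_pairs (tv_chk0 i j k h1 h2 h3).2.1, (tv_chk0 i j k h1 h2 h3).2.2⟩

theorem no_nine (H : Subgroup (MulAut SV)) (h1 : ∀ σ ∈ Aff, ac σ ∈ H)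
    (h2 : ∀ γ ∈ H, γ (-1) = -1 → ∃ σ ∈ Aff, ∀ s, pr s = 1 → γ s = ac σ s) (ε : SV) (hε : ε = 1 ∨ ε = -1)
    (hΔ : ∀ s, s ∈ orbit H (-1 : SV) ↔ s = -1 ∨ ∃ i, s = ε * u1 i) : False := by
  have dinj : ∀ i j, ε * u1 i = ε * u1 j → i = j := fun i j h => by
    have key : ∀ i j, u1 i = u1 j → i = j := by decide +kernel
    exact key i j (mul_left_cancel h)
  have dne : ∀ i, ε * u1 i ≠ -1 := by rcases hε with rfl | rfl <;> decide +kernel
  have dac : ∀ σ i, ac σ (ε * u1 i) = ε * u1 (σ i) := fun σ i => by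
    rw [map_mul, ac_u1]; rcases hε with rfl | rfl <;> rfl
  have dm : ∀ i, ε * u1 i ∈ orbit H (-1 : SV) := fun i => (hΔ _).2 (Or.inr ⟨i, rfl⟩)
  have l9 : ∀ γ ∈ H, γ (-1) = -1 → ∃ σ ∈ Aff, ∀ i, γ (ε * u1 i) = ε * u1 (σ i) := fun γ hγ e => by
    obtain ⟨σ, s1, s2⟩ := h2 γ hγ e
    choose π hπ using fun i => ((hΔ _).1 ((orb_map hγ).2 (dm i))).resolve_left fun h =>
      dne i (γ.injective (h.trans e.symm))
    have pp : ∀ i k, ε * u1 i * (ε * u1 k) = u1 i * u1 k := fun i k => by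
      rw [mul_mul_mul_comm, sv_sq, one_mul]
    have key : ∀ i k, k ≠ i → π i = σ i ∨ π i = σ k := fun i k hk =>
      pair_eq _ _ _ (π k) (σ.injective.ne hk.symm) (by
        rw [← pp (π i), ← hπ, ← hπ, ← map_mul, pp, s2 _ (pr_pair i k), map_mul, ac_u1, ac_u1])
    refine ⟨σ, s1, fun i => ?_⟩
    obtain ⟨k, l, a, b, c⟩ := two_others i
    rw [hπ]
    rcases key i k a with h | h
    · rw [h]
    · rcases key i l b with h' | h'
      · rw [h']
      · exact absurd (σ.injective (h.symm.trans h')) c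
  have view : ∀ p ∈ orbit H (-1 : SV), ∀ q ∈ orbit H (-1 : SV), ∀ r ∈ orbit H (-1 : SV), ∀ s ∈ orbit H (-1 : SV),
      q ≠ p → r ≠ p → s ≠ p → q ≠ r → q ≠ s → r ≠ s → ∃ y ∈ orbit H (-1 : SV),
      (y ≠ p ∧ y ≠ q ∧ y ≠ r ∧ y ≠ s) ∧ (∀ γ ∈ H, γ p = p → γ q = q → γ r = r → γ s = s → γ y = y) ∧
      ∃ γ ∈ H, γ p = p ∧ γ q = q ∧ γ r = r ∧ γ s = s ∧ ∃ x ∈ orbit H (-1 : SV), γ x ≠ x := by
    intro p hp q hq r hr s hs a1 a2 a3 a4 a5 a6
    obtain ⟨β, hβ, rfl⟩ := mem_orb.1 hp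
    have pull : ∀ x ∈ orbit H (-1 : SV), x ≠ β (-1) → ∃ i, x = β (ε * u1 i) := fun x hx hne => by
      rcases (hΔ _).1 ((orb_map (inv_mem hβ)).2 hx) with e | ⟨i, e⟩
      · exact absurd (by rw [← e, MulAut.apply_inv_self]) hne
      · exact ⟨i, by rw [← e, MulAut.apply_inv_self]⟩
    obtain ⟨i, rfl⟩ := pull q hq a1
    obtain ⟨j, rfl⟩ := pull r hr a2
    obtain ⟨k, rfl⟩ := pull s hs a3
    have binj : ∀ {a b}, a ≠ b → β (ε * u1 a) ≠ β (ε * u1 b) := fun h e => h (dinj _ _ (β.injective e))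
    obtain ⟨t1, t2, t3, t4, t5, t6⟩ := tv_chk i j k (fun e => a4 (e ▸ rfl)) (fun e => a5 (e ▸ rfl))
      (fun e => a6 (e ▸ rfl))
    refine ⟨β (ε * u1 (x3 i j k)), (orb_map hβ).2 (dm _), ⟨fun e => dne _ (β.injective e), binj t4, binj t5,
      binj t6⟩, fun γ hγ b1 b2 b3 b4 => ?_, ?_⟩
    · obtain ⟨σ, s1, s2⟩ := l9 (β⁻¹ * γ * β) (mul_mem (mul_mem (inv_mem hβ) hγ) hβ) (by
        rw [MulAut.mul_apply, MulAut.mul_apply, b1, MulAut.inv_apply_self])
      have f : ∀ a, γ (β (ε * u1 a)) = β (ε * u1 (σ a)) := fun a => by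
        rw [← s2, MulAut.mul_apply, MulAut.mul_apply, MulAut.apply_inv_self]
      have f' : ∀ a, γ (β (ε * u1 a)) = β (ε * u1 a) → σ a = a := fun a h =>
        dinj _ _ (β.injective ((f a).symm.trans h))
      rw [f, s1, f' i b2, f' j b3, f' k b4]
    · let τ : Perm I := ⟨tv i j k, tv i j k, t1, t1⟩
      have f : ∀ a, (β * ac τ * β⁻¹) (β (ε * u1 a)) = β (ε * u1 (tv i j k a)) := fun a => by
        rw [MulAut.mul_apply, MulAut.mul_apply, MulAut.inv_apply_self, dac]; rfl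
      refine ⟨β * ac τ * β⁻¹, mul_mem (mul_mem hβ (h1 τ t2)) (inv_mem hβ), ?_, ?_, ?_, ?_, ?_⟩
      · rw [MulAut.mul_apply, MulAut.mul_apply, MulAut.inv_apply_self, ac_neg]
      · rw [f, (t3 i).2 (by simp)]
      · rw [f, (t3 j).2 (by simp)]
      · rw [f, (t3 k).2 (by simp)]
      · obtain ⟨x, -, hx⟩ := Finset.exists_mem_notMem_of_card_lt_card (s := {i, j, k, x3 i j k}) (t := Finset.univ)
          (lt_of_le_of_lt Finset.card_le_four (by simp))
        refine ⟨_, (orb_map hβ).2 (dm x), ?_⟩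
        rw [f]
        exact binj fun e => hx (by simpa using (t3 x).1 e)
  have dn : ∀ {a b}, a ≠ b → ε * u1 a ≠ ε * u1 b := fun h e => h (dinj _ _ e)
  have plane : ∀ i j k, i ≠ j → i ≠ k → j ≠ k → ∀ γ ∈ H, γ (ε * u1 i) = ε * u1 i → γ (ε * u1 j) = ε * u1 j →
      γ (ε * u1 k) = ε * u1 k → γ (ε * u1 (x3 i j k)) = ε * u1 (x3 i j k) → γ (-1) = -1 := by
    intro i j k a1 a2 a3 γ hγ b1 b2 b3 b4
    obtain ⟨t1, t2, t3, t4, t5, t6⟩ := tv_chk i j k a1 a2 a3
    obtain ⟨y, hy, ⟨c1, c2, c3, c4⟩, c5, -⟩ := view _ (dm i) _ (dm j) _ (dm k) _ (dm (x3 i j k)) (dn a1.symm)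
      (dn a2.symm) (dn t4) (dn a3) (dn t5.symm) (dn t6.symm)
    rcases (hΔ y).1 hy with rfl | ⟨x, rfl⟩
    · exact c5 γ hγ b1 b2 b3 b4
    · let τ : Perm I := ⟨tv i j k, tv i j k, t1, t1⟩
      have f : ∀ a, ac τ (ε * u1 a) = ε * u1 (tv i j k a) := dac τ
      have := c5 _ (h1 τ t2) (by rw [f, (t3 i).2 (by simp)]) (by rw [f, (t3 j).2 (by simp)])
        (by rw [f, (t3 k).2 (by simp)]) (by rw [f, (t3 _).2 (by simp)])
      rw [f] at this
      rcases (t3 x).1 (dinj _ _ this) with rfl | rfl | rfl | rfl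
      exacts [absurd rfl c1, absurd rfl c2, absurd rfl c3, absurd rfl c4]
  obtain ⟨y, hy, ⟨c1, c2, c3, c4⟩, c5, γ, hγ, b0, b1, b2, b4, x, hx, hne⟩ := view _ (dm 0) _ (dm 1) _ (dm 2) _ (dm 4)
    (dn (by decide)) (dn (by decide)) (dn (by decide)) (dn (by decide)) (dn (by decide)) (dn (by decide))
  have by' := c5 γ hγ b0 b1 b2 b4
  have fz : γ (-1) = -1 := by
    rcases (hΔ y).1 hy with rfl | ⟨j, rfl⟩
    · exact by'
    · fin_cases j
      · exact absurd rfl c1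
      · exact absurd rfl c2
      · exact absurd rfl c3
      · exact plane 0 1 2 (by decide) (by decide) (by decide) γ hγ b0 b1 b2 by'
      · exact absurd rfl c4
      · exact plane 0 1 4 (by decide) (by decide) (by decide) γ hγ b0 b1 b4 by'
      · exact plane 0 2 4 (by decide) (by decide) (by decide) γ hγ b0 b2 b4 by'
      · exact plane 1 2 4 (by decide) (by decide) (by decide) γ hγ b1 b2 b4 by'
  obtain ⟨σ, s1, s2⟩ := l9 γ hγ fz
  have f0 := dinj _ _ ((s2 0).symm.trans b0)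
  have f1 := dinj _ _ ((s2 1).symm.trans b1)
  have f2 := dinj _ _ ((s2 2).symm.trans b2)
  have f4 := dinj _ _ ((s2 4).symm.trans b4)
  have all : ∀ i, σ i = i := fun i => by
    fin_cases i
    · exact f0
    · exact f1
    · exact f2
    · have := s1 0 1 2; rw [f0, f1, f2] at this; exact this
    · exact f4
    · have := s1 0 1 4; rw [f0, f1, f4] at this; exact this
    · have := s1 0 2 4; rw [f0, f2, f4] at this; exact this
    · have := s1 1 2 4; rw [f1, f2, f4] at this; exact this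
  rcases (hΔ x).1 hx with rfl | ⟨i, rfl⟩
  · exact hne fz
  · exact hne (by rw [s2, all])

theorem rp_mem : ∀ s : SV, rp (enc s) ∈ ({0, 3, 15, 63, 255, 1, 127, 7, 31, 23} : Finset ℕ) := by decide +kernel

theorem rp_cls : ∀ s : SV, (rp (enc s) = 255 ↔ s = -1) ∧ (rp (enc s) = 1 ↔ ∃ i, s = 1 * u1 i) ∧
    (rp (enc s) = 127 ↔ ∃ i, s = -1 * u1 i) := by decide +kernel

theorem fix_aff (H : Subgroup (MulAut SV)) (h1 : ∀ σ ∈ Aff, ac σ ∈ H)
    (h2 : ∀ γ ∈ H, γ (-1) = -1 → ∃ σ ∈ Aff, ∀ s, pr s = 1 → γ s = ac σ s)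
    (h3 : ∀ γ ∈ H, (∀ i, γ (-1) (xr i 1) = γ (-1) i) → γ (-1) = -1) : ∀ γ ∈ H, γ (-1) = -1 := by
  classical
  have tr : ∀ s : SV, s ∈ orbit H (-1 : SV) ↔ sv (rp (enc s)) ∈ orbit H (-1 : SV) := fun s => by
    obtain ⟨σ, s1, s2⟩ := exists_aff s
    rw [← orb_map (h1 σ s1) (x := sv _), s2]
  have no : ∀ s : SV, (∀ i, s (xr i 1) = s i) → s ≠ -1 → s ∉ orbit H (-1 : SV) := fun s a b hs => by
    obtain ⟨γ, g1, rfl⟩ := mem_orb.1 hs
    exact b (h3 γ g1 a)
  have n0 := no (sv 0) (by decide +kernel) (by decide +kernel)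
  have n3 := no (sv 3) (by decide +kernel) (by decide +kernel)
  have n15 := no (sv 15) (by decide +kernel) (by decide +kernel)
  have n63 := no (sv 63) (by decide +kernel) (by decide +kernel)
  have y255 : sv 255 ∈ orbit H (-1 : SV) := by
    rw [show sv 255 = -1 by decide +kernel]; exact mem_orbit_self _
  have fib : ∀ r c, (Finset.univ.filter fun s : SV => rp (enc s) = r).card = c →
      ((Finset.univ.filter fun s : SV => s ∈ orbit H (-1 : SV)).filter fun s => rp (enc s) = r).card =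
        if sv r ∈ orbit H (-1 : SV) then c else 0 := fun r c hc => by
    split_ifs with h
    · rw [← hc]
      congr 1
      ext s
      simp only [Finset.mem_filter, Finset.mem_univ, true_and, and_iff_right_iff_imp]
      exact fun e => (tr s).2 (e ▸ h)
    · rw [Finset.card_eq_zero, Finset.filter_eq_empty_iff]
      exact fun s hs e => h (e ▸ (tr s).1 (Finset.mem_filter.1 hs).2)
  have cd : (orbit H (-1 : SV)).ncard = 1 + ((if sv 1 ∈ orbit H (-1 : SV) then 8 else 0) +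
      ((if sv 127 ∈ orbit H (-1 : SV) then 8 else 0) + ((if sv 7 ∈ orbit H (-1 : SV) then 56 else 0) +
      ((if sv 31 ∈ orbit H (-1 : SV) then 56 else 0) + if sv 23 ∈ orbit H (-1 : SV) then 56 else 0)))) := by
    rw [show orbit H (-1 : SV) = ↑(Finset.univ.filter fun s : SV => s ∈ orbit H (-1 : SV)) by simp,
      Set.ncard_coe_finset, Finset.card_eq_sum_card_fiberwise (fun s _ => rp_mem s)]
    simp only [Finset.coe_filter, Finset.mem_univ, true_and, Set.ofPred_mem_eq]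
    repeat rw [Finset.sum_insert (by decide)]
    rw [Finset.sum_singleton, fib 0 1 (by decide +kernel), fib 3 28 (by decide +kernel), fib 15 14 (by decide +kernel),
      fib 63 28 (by decide +kernel), fib 255 1 (by decide +kernel), fib 1 8 (by decide +kernel),
      fib 127 8 (by decide +kernel), fib 7 56 (by decide +kernel), fib 31 56 (by decide +kernel),
      fib 23 56 (by decide +kernel), if_neg n0, if_neg n3, if_neg n15, if_neg n63, if_pos y255]
    simp only [zero_add]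
  have np := fun {p : ℕ} (hp : p.Prime) => no_prime (n := 8) card_SV H (-1) hp
  have bad : ∀ n ∈ [57, 65, 73, 113, 121, 129, 169, 177, 185], (orbit H (-1 : SV)).ncard ≠ n := by
    intro n hn e
    rw [e] at np
    simp only [List.mem_cons, List.not_mem_nil, or_false] at hn
    rcases hn with rfl | rfl | rfl | rfl | rfl | rfl | rfl | rfl | rfl
    · exact absurd (np (p := 19) (by norm_num) (by norm_num)) (by decide)
    · exact absurd (np (p := 13) (by norm_num) (by norm_num)) (by decide)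
    · exact absurd (np (p := 73) (by norm_num) (by norm_num)) (by decide)
    · exact absurd (np (p := 113) (by norm_num) (by norm_num)) (by decide)
    · exact absurd (np (p := 11) (by norm_num) (by norm_num)) (by decide)
    · exact absurd (np (p := 43) (by norm_num) (by norm_num)) (by decide)
    · exact absurd (np (p := 13) (by norm_num) (by norm_num)) (by decide)
    · exact absurd (np (p := 59) (by norm_num) (by norm_num)) (by decide)
    · exact absurd (np (p := 37) (by norm_num) (by norm_num)) (by decide)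
  have small : sv 7 ∉ orbit H (-1 : SV) ∧ sv 31 ∉ orbit H (-1 : SV) ∧ sv 23 ∉ orbit H (-1 : SV) := by
    simp only [List.forall_mem_cons] at bad
    refine ⟨fun h => ?_, fun h => ?_, fun h => ?_⟩ <;> rw [if_pos h] at cd <;> split_ifs at cd <;> omega
  have mem : ∀ s, s ∈ orbit H (-1 : SV) ↔ s = -1 ∨ (sv 1 ∈ orbit H (-1 : SV) ∧ ∃ i, s = 1 * u1 i) ∨
      (sv 127 ∈ orbit H (-1 : SV) ∧ ∃ i, s = -1 * u1 i) := fun s => by
    rw [tr, ← (rp_cls s).1, ← (rp_cls s).2.1, ← (rp_cls s).2.2]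
    have := rp_mem s
    simp only [Finset.mem_insert, Finset.mem_singleton] at this
    rcases this with e | e | e | e | e | e | e | e | e | e <;> rw [e] <;>
      simp [n0, n3, n15, n63, y255, small.1, small.2.1, small.2.2]
  by_cases a1 : sv 1 ∈ orbit H (-1 : SV) <;> by_cases a7 : sv 127 ∈ orbit H (-1 : SV)
  · exfalso
    obtain ⟨γ, g1, g2⟩ := mem_orb.1 a1
    have b1 : γ⁻¹ (u1 1) ∈ orbit H (-1 : SV) :=
      (orb_map (inv_mem g1)).2 ((mem _).2 (Or.inr (Or.inl ⟨a1, 1, (one_mul _).symm⟩)))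
    have b2 : -1 * γ⁻¹ (u1 1) ∈ orbit H (-1 : SV) := by
      rcases (mem _).1 b1 with e | ⟨-, i, e⟩ | ⟨-, i, e⟩
      · have := congrArg γ e
        rw [MulAut.apply_inv_self, g2] at this
        exact absurd this (by decide +kernel)
      · exact (mem _).2 (Or.inr (Or.inr ⟨a7, i, by rw [e, one_mul]⟩))
      · exact (mem _).2 (Or.inr (Or.inl ⟨a1, i, by rw [e, ← mul_assoc, sv_sq]⟩))
    rw [← orb_map g1, map_mul, g2, MulAut.apply_inv_self, show sv 1 * u1 1 = sv 3 by decide +kernel] at b2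
    exact n3 b2
  · exact (no_nine H h1 h2 1 (Or.inl rfl) fun s => by rw [mem]; simp only [a1, a7, true_and, false_and, or_false]).elim
  · exact (no_nine H h1 h2 (-1) (Or.inr rfl) fun s => by
      rw [mem]; simp only [a1, a7, true_and, false_and, false_or]).elim
  · intro γ hγ
    simpa only [a1, a7, false_and, or_false] using (mem _).1 (mem_orb.2 ⟨γ, hγ, rfl⟩)

end Cfsg.Agent.H38.E8
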