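import Cfsg.Agent.H38.E8H
import Cfsg.Agent.H10.Std1

/-!
A standard subgroup modelled on the rotation subgroup: the centraliser has twice odd order.
-/

set_option autoImplicit false
set_option maxRecDepth 100000
set_option linter.unusedVariables false

namespace Cfsg.Agent.H38.E8

open Equiv Subgroup Cfsg.Agent.H8 Cfsg.Agent.H10

/-! ### more finite facts -/

theorem exists_fifth : ∀ a b c d : I, ∃ e, e ≠ a ∧ e ≠ b ∧ e ≠ c ∧ e ≠ d := by decide +kernel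

theorem exists_plane : ∀ a a' : I, a ≠ a' → ∃ b c, (b ≠ a ∧ b ≠ a') ∧ (c ≠ a ∧ c ≠ a') ∧
    (x3 a b c ≠ a ∧ x3 a b c ≠ a') ∧ x3 a' b c ≠ x3 a b c := by decide +kernel

theorem no_transv {σ : Perm I} (hσ : σ ∈ Aff) {t : SV} (h : ∀ c, pr c = 1 → ac σ c = c ∨ ac σ c = c * t) :
    σ = 1 := by
  have d : ∀ a b, u1 a * u1 (σ a) = u1 b * u1 (σ b) ∨ u1 a * u1 (σ a) = u1 b * u1 (σ b) * t := fun a b => by
    have e : u1 a * u1 (σ a) = u1 b * u1 (σ b) * (u1 a * u1 b * (u1 (σ a) * u1 (σ b))) := by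
      rw [mul_mul_mul_comm (u1 a), mul_left_comm, sv_sq, mul_one]
    have h1 := h _ (pr_pair a b)
    rw [map_mul, ac_u1, ac_u1] at h1
    rcases h1 with h1 | h1
    · left; rw [e, h1, sv_sq, mul_one]
    · right; rw [e, h1, ← mul_assoc (u1 a * u1 b), sv_sq, one_mul]
  refine Perm.ext fun a => ?_
  by_contra ha
  have ne : ∀ a b, σ a ≠ a → b ≠ a → b ≠ σ a → u1 a * u1 (σ a) ≠ u1 b * u1 (σ b) := fun a b h1 h2 h3 e =>
    (pair_eq _ _ _ _ (Ne.symm h1) e).elim h2 h3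
  have fx : ∀ b, b ≠ a → b ≠ σ a → σ b = b := fun b h1 h2 => by
    by_contra hb
    obtain ⟨c, c1, c2, c3, c4⟩ := exists_fifth a (σ a) b (σ b)
    have e1 := (d a b).resolve_left (ne a b ha h1 h2)
    have e2 := (d a c).resolve_left (ne a c ha c1 c2)
    exact ne b c hb c3 c4 (mul_right_cancel (e1.symm.trans e2))
  obtain ⟨b, c, b1, c1, d1, d2⟩ := exists_plane a (σ a) (Ne.symm ha)
  have := hσ a b c
  rw [fx b b1.1 b1.2, fx c c1.1 c1.2, fx _ d1.1 d1.2] at this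
  exact d2 this.symm

theorem sm_ac (σ : Perm I) (s : SV) : sm (ac σ s) = sm s := Equiv.sum_comp σ⁻¹ fun i => (s i : ℤ)

theorem even_of_sm : ∀ s : SV, sm (s * -1) = sm s → pr s = 1 := by decide +kernel

theorem exists_lift_aff {σ : Perm I} (hσ : σ ∈ Aff) : ∃ l ∈ W1, ∀ s, l * sg s * l⁻¹ = sg (ac σ s) := by
  by_cases h : pm ⟨σ, hσ⟩ ∈ W1
  · exact ⟨_, h, fun s => by rw [pm_sg, mul_inv_cancel_right]⟩
  · exact ⟨_, mul_mem_W1 (u1_notMem 0) h, mono_conj _ ⟨σ, hσ⟩⟩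

theorem dl_chk : ∀ c : SV, pr c = 1 → ∃ k : Fin 64, ∀ i j,
    2 * (if i = df k j then (c (ev i) : ℤ) else 0) = dlz c i j := by decide +kernel

theorem dl_mem_SW (c : Ev) : dl c ∈ SW := by
  obtain ⟨k, hk⟩ := dl_chk c.1 c.2
  refine ⟨fun i => c.1 (ev i), k, WE.ext ?_⟩
  ext i j
  refine mul_left_cancel₀ (two_ne_zero (α := ℚ)) ?_
  rw [dl_apply, mono_apply, ← hk, dp_apply]
  split_ifs <;> simp

theorem pair_const {s : SV} {c : Ev} (h : sg s = dl c) (i : I) : s (xr i 1) = s i := by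
  have k : ∀ j, 2 * ((s j : ℤ) : ℚ) = ((c.1 (ev j) + c.1 (od j) : ℤ) : ℚ) := fun j => by
    have := dl_apply c j j
    rwa [← h, sg_m, Matrix.diagonal_apply_eq, dlz, if_pos rfl] at this
  have e : ∀ i, ev (xr i 1) = ev i ∧ od (xr i 1) = od i := by decide
  have h1 := k (xr i 1)
  rw [(e i).1, (e i).2, ← k i] at h1
  exact Units.ext (by exact_mod_cast mul_left_cancel₀ (two_ne_zero (α := ℚ)) h1)

theorem card_pair_const : (Finset.univ.filter fun s : SV => ∀ i, s (xr i 1) = s i).card = 16 := by decide +kernel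

theorem ng_conj (w : WE) : w * ng * w⁻¹ = ng := by rw [← ng_comm, mul_inv_cancel_right]

theorem sg_ng (s : SV) : sg s * ng = sg (s * -1) := (map_mul _ _ _).symm

/-! ### the setting -/

variable {G : Type*} [Group G]

theorem two_conj [Finite G] {H X Y : Subgroup G} (hX : IsPGroup 2 X) (hY : IsPGroup 2 Y) (hXH : X ≤ H)
    (hYH : Y ≤ H) : ∃ h ∈ H, ∃ P : Subgroup G, IsPGroup 2 P ∧ P ≤ H ∧ X ≤ P ∧ ∀ y ∈ Y, h * y * h⁻¹ ∈ P := by
  have : Fact (Nat.Prime 2) := ⟨Nat.prime_two⟩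
  obtain ⟨P, hP, h1⟩ := exists_isSylowIn_ge hX hXH
  obtain ⟨h, hh, h2⟩ := hP.exists_conj_le hY hYH
  exact ⟨h, hh, P, hP.isPGroup, hP.le, h1, fun y hy => h2 (conj_mem_conj_smul.2 hy)⟩

theorem pow_of_mem {P : Subgroup G} (hP : IsPGroup 2 P) {y : G} (hy : y ∈ P) : ∃ e, y ^ 2 ^ e = 1 := by
  obtain ⟨e, he⟩ := hP ⟨y, hy⟩
  exact ⟨e, congrArg Subtype.val he⟩

/-- `h` acts on the image of `ψ` as `w` -/
def Act (ψ : WE → G) (h : G) (w : WE) : Prop := ∀ a ∈ W1, h * ψ a * h⁻¹ = ψ (w * a * w⁻¹)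

/-- the conjugate embedding -/
def cjg (g : G) (ψ : WE → G) : WE → G := fun a => g * ψ a * g⁻¹

/-- The data coming from a standard subgroup. -/
structure Ctx (ψ : WE → G) : Prop where
  mul : ∀ a ∈ W1, ∀ b ∈ W1, ψ (a * b) = ψ a * ψ b
  inj : ∀ a ∈ W1, ∀ b ∈ W1, ψ a = ψ b → a = b
  act : ∀ h, Commute h (ψ ng) → ∃ w, Act ψ h w
  uniq : ∀ s, Act ψ s 1 → s * s = 1 → s = 1 ∨ s = ψ ng
  ab : ∀ Q : Subgroup G, IsPGroup 2 Q → ∀ y ∈ Q, ∀ y' ∈ Q, Act ψ y 1 → Act ψ y' 1 → Commute y y'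

theorem conj_W1 {a : WE} (ha : a ∈ W1) (w : WE) : w * a * w⁻¹ ∈ W1 := Normal.conj_mem inferInstance a ha w

variable {ψ : WE → G} {h h' : G} {w w' : WE}

theorem Act.mul (a : Act ψ h w) (b : Act ψ h' w') : Act ψ (h * h') (w * w') := fun x hx => by
  calc _ = h * (h' * ψ x * h'⁻¹) * h⁻¹ := by group
    _ = _ := by rw [b x hx, a _ (conj_W1 hx _)]; congr 1; group

theorem Act.inv (a : Act ψ h w) : Act ψ h⁻¹ w⁻¹ := fun x hx => by
  have := a _ (conj_W1 hx w⁻¹)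
  rw [show w * (w⁻¹ * x * w⁻¹⁻¹) * w⁻¹ = x by group] at this
  rw [← this]; group

theorem act_id : Act ψ 1 1 := fun x hx => by simp

theorem Act.conj (a : Act ψ h w) (b : Act ψ h' w') : Act ψ (h * h' * h⁻¹) (w * w' * w⁻¹) := (a.mul b).mul a.inv

theorem Act.conj1 (a : Act ψ h w) (b : Act ψ h' 1) : Act ψ (h * h' * h⁻¹) 1 := by simpa using a.conj b

theorem Act.pow (a : Act ψ h w) : ∀ n : ℕ, Act ψ (h ^ n) (w ^ n)
  | 0 => by simpa using act_id
  | n + 1 => by rw [pow_succ, pow_succ]; exact (a.pow n).mul a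

theorem Act.comm (a : Act ψ h w) : Commute h (ψ ng) := by
  have := a _ ng_mem
  rw [ng_conj] at this
  exact mul_inv_eq_iff_eq_mul.1 this

theorem Act.comm1 (a : Act ψ h 1) {x : WE} (hx : x ∈ W1) : Commute h (ψ x) := by
  have := a x hx
  rw [one_mul, inv_one, mul_one] at this
  exact mul_inv_eq_iff_eq_mul.1 this

theorem act_cj {g : G} : Act (cjg g ψ) h w ↔ Act ψ (g⁻¹ * h * g) w := by
  refine forall₂_congr fun x hx => ?_
  simp only [cjg]
  constructor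
  · intro e
    calc _ = g⁻¹ * (h * (g * ψ x * g⁻¹) * h⁻¹) * g := by group
      _ = _ := by rw [e]; group
  · intro e
    rw [← e]; group

theorem act_cj' {g : G} (a : Act ψ h w) : Act (cjg g ψ) (g * h * g⁻¹) w :=
  act_cj.2 (by rwa [show g⁻¹ * (g * h * g⁻¹) * g = h by group])

theorem commute_conj {a b : G} (g : G) (h : Commute a b) : Commute (g * a * g⁻¹) (g * b * g⁻¹) :=
  h.map (MulAut.conj g)

theorem conj_eq_of_comm {a b : G} (h : Commute a b) : a * b * a⁻¹ = b := by rw [h.eq, mul_inv_cancel_right]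

theorem comm_of_conj_eq {a b : G} (h : a * b * a⁻¹ = b) : Commute a b := mul_inv_eq_iff_eq_mul.1 h

namespace Ctx

variable (C : Ctx ψ)
include C

theorem one : ψ 1 = 1 := by
  have := C.mul 1 (one_mem _) 1 (one_mem _)
  rw [mul_one] at this
  exact left_eq_mul.1 this

theorem inv {a : WE} (ha : a ∈ W1) : ψ a⁻¹ = (ψ a)⁻¹ :=
  eq_inv_of_mul_eq_one_left (by rw [← C.mul _ (inv_mem ha) _ ha, inv_mul_cancel, C.one])

theorem pow {a : WE} (ha : a ∈ W1) : ∀ n : ℕ, ψ (a ^ n) = ψ a ^ n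
  | 0 => by simpa using C.one
  | n + 1 => by rw [pow_succ, pow_succ, C.mul _ (pow_mem ha n) _ ha, pow ha n]

theorem self {a : WE} (ha : a ∈ W1) : Act ψ (ψ a) a := fun x hx => by
  rw [C.mul _ (mul_mem ha hx) _ (inv_mem ha), C.mul _ ha _ hx, C.inv ha]

theorem zz : ψ ng * ψ ng = 1 := by rw [← C.mul _ ng_mem _ ng_mem, ng_sq, C.one]

theorem z_ne : ψ ng ≠ 1 := fun e => ng_ne (C.inj _ ng_mem _ (one_mem _) (e.trans C.one.symm))

theorem act_z : Act ψ (ψ ng) 1 := fun x hx => by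
  rw [C.self ng_mem x hx, ng_comm, mul_inv_cancel_right, one_mul, inv_one, mul_one]

theorem eq_of_act (a : Act ψ h w) (b : Act ψ h w') : w' = w ∨ w' = w * ng := by
  refine (cent_W1 (c := w⁻¹ * w') fun x hx => ?_).imp (fun e => (inv_mul_eq_one.1 e).symm)
    fun e => inv_mul_eq_iff_eq_mul.1 e
  have := C.inj _ (conj_W1 hx _) _ (conj_W1 hx _) ((a x hx).symm.trans (b x hx))
  calc _ = w⁻¹ * (w' * x * w'⁻¹) * w' := by group
    _ = _ := by rw [← this]; group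

theorem sq_of_act (a : Act ψ h w) (hh : h * h = 1) : w * w = 1 ∨ w * w = ng := by
  simpa using C.eq_of_act act_id (hh ▸ a.mul a)

theorem conj (g : G) : Ctx (cjg g ψ) where
  mul a ha b hb := by simp only [cjg]; rw [C.mul a ha b hb]; group
  inj a ha b hb e := C.inj a ha b hb (mul_left_cancel (mul_right_cancel e))
  act h hh := by
    obtain ⟨w, hw⟩ := C.act (g⁻¹ * h * g) (by simpa [cjg, mul_assoc] using commute_conj g⁻¹ hh)
    exact ⟨w, act_cj.2 hw⟩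
  uniq s hs e := by
    refine (C.uniq _ (act_cj.1 hs) ?_).imp (fun e => ?_) fun e => ?_
    · calc _ = g⁻¹ * (s * s) * g := by group
        _ = 1 := by rw [e]; group
    · calc s = g * (g⁻¹ * s * g) * g⁻¹ := by group
        _ = 1 := by rw [e]; group
    · simp only [cjg]; rw [← e]; group
  ab Q hQ y hy y' hy' a b := by
    have := C.ab _ (isPGroup_conj_smul hQ g⁻¹) _ (conj_mem_conj_smul.2 hy) _ (conj_mem_conj_smul.2 hy')
      (by rw [inv_inv]; exact act_cj.1 a) (by rw [inv_inv]; exact act_cj.1 b)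
    simpa [mul_assoc] using commute_conj g this

/-- the even sign changes -/
def e0 : Ev →* G := MonoidHom.mk' (fun c => ψ (sg c.1)) fun c d => by
  rw [Subgroup.coe_mul, map_mul, C.mul _ (sg_mem_W1.2 c.2) _ (sg_mem_W1.2 d.2)]

/-- the even sign changes in the second coordinates -/
def e1 : Ev →* G := MonoidHom.mk' (fun c => ψ (dl c)) fun c d => by
  rw [map_mul, C.mul _ (dl_mem c) _ (dl_mem d)]

theorem e0_apply (c : Ev) : C.e0 c = ψ (sg c.1) := rfl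

theorem e1_apply (c : Ev) : C.e1 c = ψ (dl c) := rfl

theorem e0_inj : Function.Injective C.e0 := fun c d e =>
  Subtype.ext (sg_inj (C.inj _ (sg_mem_W1.2 c.2) _ (sg_mem_W1.2 d.2) e))

theorem e1_inj : Function.Injective C.e1 := fun c d e => dl_inj (C.inj _ (dl_mem c) _ (dl_mem d) e)

theorem e0_z : C.e0 mEv = ψ ng := rfl

theorem e1_z : C.e1 mEv = ψ ng := by rw [e1_apply, dl_neg]

theorem two_roots {Q : Subgroup G} (hQ : IsPGroup 2 Q) {y y' : G} (hy : y ∈ Q) (hy' : y' ∈ Q) (a : Act ψ y 1)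
    (b : Act ψ y' 1) (e : y * y = y' * y') : y' = y ∨ y' = y * ψ ng := by
  have hc := C.ab Q hQ y hy y' hy' a b
  refine (C.uniq (y⁻¹ * y') (by simpa using a.inv.mul b) ?_).imp (fun e => (inv_mul_eq_one.1 e).symm)
    fun e => inv_mul_eq_iff_eq_mul.1 e
  calc _ = y⁻¹ * (y' * y⁻¹) * y' := by group
    _ = (y * y)⁻¹ * (y' * y') := by rw [← hc.inv_left.eq]; group
    _ = 1 := by rw [e, inv_mul_cancel]

end Ctx

theorem ev_sq (c : Ev) : c * c = 1 := Subtype.ext (sv_sq c.1)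

theorem two_range {E : Type*} [Group E] (hE : ∀ c : E, c * c = 1) (e : E →* G) : IsPGroup 2 e.range := by
  rintro ⟨_, c, rfl⟩
  exact ⟨1, Subtype.ext (by rw [pow_one, pow_two]; exact (e.map_mul c c).symm.trans (by rw [hE, map_one]; rfl))⟩

variable [Finite G]

/-- the elements of order four can be chosen to be normalised by the sign changes -/
theorem stepA0 {ψ' : WE → G} (C : Ctx ψ) (C' : Ctx ψ') (hc : Commute (ψ' ng) (ψ ng)) {x : G} (hx : Act ψ' x 1)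
    (hx2 : x * x = ψ' ng) (hxz : Commute x (ψ ng)) : ∃ y v, y * y = ψ' ng ∧ Act ψ y v ∧
      ∀ c, pr c = 1 → Commute (ψ (sg c)) (ψ' ng) →
        ψ (v * sg c * v⁻¹) = ψ (sg c) ∨ ψ (v * sg c * v⁻¹) = ψ (sg c) * ψ' ng := by
  obtain ⟨h, hh, P, hP, hPH, hXP, hYP⟩ := two_conj (H := centralizer {ψ ng} ⊓ centralizer {ψ' ng})
    (X := C.e0.range ⊓ centralizer {ψ' ng}) (Y := zpowers x) ((two_range ev_sq _).to_inf_left)
    (isPGroup_zpowers_of_pow (k := 2) (by rw [show 2 ^ 2 = 2 * 2 from rfl, pow_mul, pow_two x, hx2, pow_two, C'.zz]))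
    (by
      rintro _ ⟨⟨c, rfl⟩, h2⟩
      exact ⟨Std.mem_cent1.2 (C.self (sg_mem_W1.2 c.2)).comm, h2⟩)
    (zpowers_le.2 ⟨Std.mem_cent1.2 hxz, Std.mem_cent1.2 hx.comm⟩)
  have hy := hYP x (mem_zpowers x)
  obtain ⟨w1, hw1⟩ := C'.act h (Std.mem_cent1.1 hh.2)
  have y1 := hw1.conj1 hx
  have y2 : h * x * h⁻¹ * (h * x * h⁻¹) = ψ' ng := by
    rw [← conj_eq_of_comm hw1.comm, ← hx2]; group
  generalize h * x * h⁻¹ = y at hy y1 y2
  obtain ⟨v, hv⟩ := C.act y⁻¹ (Std.mem_cent1.1 (hPH (inv_mem hy)).1)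
  refine ⟨y⁻¹, v, by rw [← _root_.mul_inv_rev, y2]; exact inv_eq_of_mul_eq_one_right C'.zz, hv, fun c c1 c2 => ?_⟩
  have he : ψ (sg c) ∈ P := hXP ⟨⟨⟨c, c1⟩, rfl⟩, Std.mem_cent1.2 c2⟩
  obtain ⟨w2, hw2⟩ := C'.act _ c2
  rw [← hv _ (sg_mem_W1.2 c1)]
  generalize ψ (sg c) = e at he hw2 c2
  refine (C'.two_roots hP hy (mul_mem (mul_mem he hy) (inv_mem he)) y1 (hw2.conj1 y1) ?_).imp (fun k => ?_) fun k => ?_
  · rw [show e * y * e⁻¹ * (e * y * e⁻¹) = e * (y * y) * e⁻¹ by group, y2, conj_eq_of_comm c2]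
  · calc _ = y⁻¹ * (e * y * e⁻¹) * e := by group
      _ = _ := by rw [k]; group
  · calc _ = y⁻¹ * (e * y * e⁻¹) * e := by group
      _ = _ := by rw [k, c2.eq]; group

theorem stepA {ψ' : WE → G} (C : Ctx ψ) (C' : Ctx ψ') (hc : Commute (ψ' ng) (ψ ng)) (hne : ψ' ng ≠ ψ ng) {x : G}
    (hx : Act ψ' x 1) (hx2 : x * x = ψ' ng) (hxz : Commute x (ψ ng)) : False := by
  obtain ⟨w, hw⟩ := C.act _ hc
  have main : ∀ g ∈ W1, ∃ u y v, u ≠ 1 ∧ u ≠ ψ ng ∧ u * u = 1 ∧ Act ψ u (g * w * g⁻¹) ∧ y * y = u ∧ Act ψ y v ∧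
      ∀ c, pr c = 1 → g * w * g⁻¹ * sg c * (g * w * g⁻¹)⁻¹ = sg c →
        ψ (v * sg c * v⁻¹) = ψ (sg c) ∨ ψ (v * sg c * v⁻¹) = ψ (sg c) * u := fun g hg => by
    have l := C.self hg
    have lz := conj_eq_of_comm l.comm
    obtain ⟨y, v, a1, a2, a3⟩ := stepA0 C (C'.conj (ψ g)) (lz ▸ commute_conj (ψ g) hc) (act_cj' hx)
      (by simp only [cjg]; rw [← hx2]; group) (lz ▸ commute_conj (ψ g) hxz)
    refine ⟨_, y, v, (C'.conj (ψ g)).z_ne, fun e => hne ?_, (C'.conj (ψ g)).zz, l.conj hw, a1, a2,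
      fun c c1 c2 => a3 c c1 (comm_of_conj_eq ?_).symm⟩
    · exact mul_left_cancel (mul_right_cancel (e.trans lz.symm))
    · rw [← c2]
      conv_lhs => rw [c2]
      exact l.conj hw _ (sg_mem_W1.2 c1)
  rcases C.sq_of_act hw C'.zz with e | e
  · obtain ⟨g, hg, s, hs⟩ := conj_invol e
    obtain ⟨u, y, v, u1, uz, uu, au, yy, av, hv⟩ := main g hg
    rw [hs] at au hv
    replace hv := fun c c1 => hv c c1 (by rw [sg_comm, mul_inv_cancel_right])
    have key : ∃ t, ∀ c, pr c = 1 → v * sg c * v⁻¹ = sg c ∨ v * sg c * v⁻¹ = sg (c * t) := by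
      by_cases hu : ∃ a ∈ W1, u = ψ a
      · obtain ⟨a, ha, rfl⟩ := hu
        obtain ⟨t, rfl⟩ : ∃ t, a = sg t := by
          rcases C.eq_of_act au (C.self ha) with k | k
          exacts [⟨_, k⟩, ⟨_, k.trans (sg_ng s)⟩]
        refine ⟨t, fun c c1 => (hv c c1).imp (C.inj _ (conj_W1 (sg_mem_W1.2 c1) _) _ (sg_mem_W1.2 c1)) fun k => ?_⟩
        rw [← C.mul _ (sg_mem_W1.2 c1) _ ha] at k
        rw [map_mul]
        exact C.inj _ (conj_W1 (sg_mem_W1.2 c1) _) _ (mul_mem (sg_mem_W1.2 c1) ha) k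
      · refine ⟨1, fun c c1 => Or.inl (C.inj _ (conj_W1 (sg_mem_W1.2 c1) _) _ (sg_mem_W1.2 c1)
          ((hv c c1).resolve_right fun k => hu ⟨_, mul_mem (inv_mem (sg_mem_W1.2 c1)) (conj_W1 (sg_mem_W1.2 c1) v), ?_⟩))⟩
        rw [C.mul _ (inv_mem (sg_mem_W1.2 c1)) _ (conj_W1 (sg_mem_W1.2 c1) v), k, C.inv (sg_mem_W1.2 c1),
          inv_mul_cancel_left]
    obtain ⟨t, ht⟩ := key
    obtain ⟨r, σ, rfl⟩ := mem_Mon_of_norm fun c c1 => (ht c c1).elim (fun k => ⟨_, k⟩) fun k => ⟨_, k⟩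
    have hσ : σ = 1 := Subtype.ext (no_transv σ.2 (t := t) fun c c1 => by
      have := ht c c1
      rw [mono_conj] at this
      exact this.imp (fun k => sg_inj k) fun k => sg_inj k)
    have := av.mul av
    rw [yy, hσ, map_one, mul_one, sg_sq] at this
    exact (C.uniq u this uu).elim u1 uz
  · obtain ⟨g, hg, τ, h1, h2⟩ := conj_sqrt e
    obtain ⟨u, y, v, u1, uz, uu, au, yy, av, hv⟩ := main g hg
    have e2 : g * w * g⁻¹ * (g * w * g⁻¹) = ng := by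
      rw [← ng_conj g, ← e]; group
    generalize g * w * g⁻¹ = w at *
    have hu : ∀ a ∈ W1, u ≠ ψ a := by
      rintro a ha rfl
      rw [← C.mul _ ha _ ha, ← C.one] at uu
      have aa := C.inj _ (mul_mem ha ha) _ (one_mem _) uu
      rcases C.eq_of_act au (C.self ha) with k | k
      · exact ng_ne (by rw [← e2, ← k, aa])
      · refine ng_ne ?_
        rw [← aa, k, mul_assoc, ← mul_assoc ng, ng_comm w, mul_assoc w, ng_sq, mul_one, e2]
    have := h2 v fun j => by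
      have c1 := sg_mem_W1.2 (pr_pair j (τ j))
      refine C.inj _ (conj_W1 c1 _) _ c1 ((hv _ (pr_pair _ _) (h1 j)).resolve_right fun k =>
        hu _ (mul_mem (inv_mem c1) (conj_W1 c1 v)) ?_)
      rw [C.mul _ (inv_mem c1) _ (conj_W1 c1 v), k, C.inv c1, inv_mul_cancel_left]
    exact (C.eq_of_act au (yy ▸ av.mul av)).elim this.1 this.2

theorem stepB1 {ψ' : WE → G} (C : Ctx ψ) (C' : Ctx ψ') (hc : Commute (ψ' ng) (ψ ng)) (hne : ψ' ng ≠ ψ ng) {k : G}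
    (hk : Act ψ k 1) (hk2 : k * k = ψ ng) : ∃ h, h * ψ' ng * h⁻¹ = ψ ng * ψ' ng := by
  obtain ⟨h, hh, P, hP, hPH, hXP, hYP⟩ := two_conj (H := centralizer {ψ ng}) (X := zpowers (ψ' ng)) (Y := zpowers k)
    (isPGroup_zpowers_of_pow (k := 1) (by rw [pow_one, pow_two, C'.zz]))
    (isPGroup_zpowers_of_pow (k := 2) (by rw [show 2 ^ 2 = 2 * 2 from rfl, pow_mul, pow_two k, hk2, pow_two, C.zz]))
    (zpowers_le.2 (Std.mem_cent1.2 hc)) (zpowers_le.2 (Std.mem_cent1.2 hk.comm))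
  have hy := hYP k (mem_zpowers k)
  obtain ⟨w1, hw1⟩ := C.act h (Std.mem_cent1.1 hh)
  have y1 := hw1.conj1 hk
  have y2 : h * k * h⁻¹ * (h * k * h⁻¹) = ψ ng := by
    rw [← conj_eq_of_comm hw1.comm, ← hk2]; group
  generalize h * k * h⁻¹ = y at hy y1 y2
  have he := hXP (mem_zpowers _)
  obtain ⟨w2, hw2⟩ := C.act _ hc
  rcases C.two_roots hP hy (mul_mem (mul_mem he hy) (inv_mem he)) y1 (hw2.conj1 y1) (by
    rw [show ψ' ng * y * (ψ' ng)⁻¹ * (ψ' ng * y * (ψ' ng)⁻¹) = ψ' ng * (y * y) * (ψ' ng)⁻¹ by group, y2,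
      conj_eq_of_comm hc]) with e | e
  · exact (stepA C' C hc.symm hne.symm y1 y2 (comm_of_conj_eq e).symm).elim
  · refine ⟨y⁻¹, ?_⟩
    calc _ = y⁻¹ * (ψ' ng * y * (ψ' ng)⁻¹) * ψ' ng := by group
      _ = _ := by rw [e]; group

theorem stepB2 {ψ' : WE → G} (C : Ctx ψ) (C' : Ctx ψ') (hne : ψ' ng ≠ ψ ng) {k : G}
    (hk : Act ψ k 1) (hk2 : k * k = ψ ng) (hw : Act ψ (ψ' ng) w) : w ∉ W1 := fun h1 => by
  have a1 : Act ψ ((ψ w)⁻¹ * ψ' ng) 1 := by simpa using (C.self h1).inv.mul hw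
  have e : ψ' ng = ψ w * ((ψ w)⁻¹ * ψ' ng) := by group
  generalize (ψ w)⁻¹ * ψ' ng = k1 at a1 e
  have c1 := a1.comm1 h1
  have e2 : ψ (w * w) * (k1 * k1) = 1 := by
    rw [← C'.zz, e, C.mul _ h1 _ h1, mul_assoc, mul_assoc, ← mul_assoc k1 (ψ w), c1.eq, mul_assoc]
  rcases C.sq_of_act hw C'.zz with e3 | e3
  · rw [e3, C.one, one_mul] at e2
    refine stepA C' C hw.comm.symm hne.symm hk hk2 ?_
    rw [e]
    refine (hk.comm1 h1).mul_right ?_
    rcases C.uniq k1 a1 e2 with rfl | rfl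
    exacts [Commute.one_right _, hk.comm]
  · rw [e3] at e2
    refine stepA C' C hw.comm.symm hne.symm a1 (mul_left_cancel (e2.trans C.zz.symm)) ?_
    rw [e]
    exact c1.mul_right (Commute.refl _)

/-- There is no element of order four in the centraliser. -/
theorem no_four (C : Ctx ψ) {g : G} (hc : Commute (g * ψ ng * g⁻¹) (ψ ng)) (hne : g * ψ ng * g⁻¹ ≠ ψ ng) {k : G}
    (hk : Act ψ k 1) (hk2 : k * k = ψ ng) : False := by
  obtain ⟨w, hw⟩ := C.act _ hc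
  have out := stepB2 C (C.conj g) hne hk hk2 hw
  obtain ⟨g0, hg0, s, hs⟩ := conj_invol ((C.sq_of_act hw (C.conj g).zz).resolve_right fun e => out (mem_W1_of_sq e))
  have l := C.self hg0
  have au := l.conj hw
  rw [hs] at au
  have odd : pr s ≠ 1 := fun e => out (by
    have := conj_W1 (sg_mem_W1.2 e) g0⁻¹
    rwa [← hs, show g0⁻¹ * (g0 * w * g0⁻¹) * g0⁻¹⁻¹ = w by group] at this)
  rw [show ψ g0 * (g * ψ ng * g⁻¹) * (ψ g0)⁻¹ = cjg (ψ g0 * g) ψ ng by simp only [cjg]; group] at au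
  generalize ψ g0 * g = m at au
  refine odd ((aff_fix (s := s) fun σ hσ => ?_).elim (fun e => by rw [e, map_one]) fun e => by rw [e]; decide)
  obtain ⟨a, ha, hs⟩ := exists_lift_aff hσ
  have ev : pr (ac σ s * s) = 1 := by rw [map_mul, pr_ac, Int.units_mul_self]
  have e1 : cjg (ψ a * m) ψ ng * cjg m ψ ng = ψ (sg (ac σ s * s)) := by
    rw [map_mul, ← hs, show a * sg s * a⁻¹ * sg s = a * (sg s * a⁻¹ * (sg s)⁻¹) by
      rw [inv_eq_of_mul_eq_one_right (sg_sq s)]; group, C.mul _ ha _ (conj_W1 (inv_mem ha) _), ← au _ (inv_mem ha),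
      inv_eq_of_mul_eq_one_right (C.conj m).zz, C.inv ha]
    simp only [cjg]; group
  by_contra hs1
  have kk : ∀ n : G, n * k * n⁻¹ * (n * k * n⁻¹) = cjg n ψ ng := fun n => by simp only [cjg]; rw [← hk2]; group
  have hcomm : Commute (cjg m ψ ng) (cjg (ψ a * m) ψ ng) := by
    have h2 : ψ (sg (ac σ s * s)) * ψ (sg (ac σ s * s)) = 1 := by
      rw [← C.mul _ (sg_mem_W1.2 ev) _ (sg_mem_W1.2 ev), sg_sq, C.one]
    rw [← e1] at h2
    have h3 := inv_eq_of_mul_eq_one_right h2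
    rw [_root_.mul_inv_rev, inv_eq_of_mul_eq_one_right (C.conj m).zz,
      inv_eq_of_mul_eq_one_right (C.conj (ψ a * m)).zz] at h3
    exact h3
  obtain ⟨h, hh⟩ := stepB1 (C.conj (ψ a * m)) (C.conj m) hcomm (fun e => hs1 (by
    rw [← e, (C.conj m).zz, ← C.one, ← map_one sg] at e1
    have := sg_inj (C.inj _ (sg_mem_W1.2 (map_one _)) _ (sg_mem_W1.2 ev) e1)
    rw [← sv_inv s]
    nth_rw 1 [sv_inv s]
    exact eq_inv_of_mul_eq_one_left this.symm)) (act_cj' hk) (kk _)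
  rw [e1] at hh
  have e3 : cjg (h * m) ψ ng = ψ (sg (ac σ s * s)) := by rw [← hh]; simp only [cjg]; group
  by_cases e4 : cjg (h * m) ψ ng = ψ ng
  · have := sg_inj (C.inj _ (sg_mem_W1.2 ev) _ ng_mem (e3.symm.trans e4))
    refine odd (even_of_sm s ?_)
    rw [← this, mul_comm (ac σ s), ← mul_assoc, sv_sq, one_mul, sm_ac]
  · exact stepB2 C (C.conj (h * m)) e4 hk hk2 (e3 ▸ C.self (sg_mem_W1.2 ev)) (sg_mem_W1.2 ev)

omit [Finite G] in
/-- Inner 2-elements lie in the standard subgroup. -/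
theorem inner_mem (C : Ctx ψ) (h4 : ∀ k, Act ψ k 1 → k * k ≠ ψ ng) (a : Act ψ h w) (hw : w ∈ W1) {e : ℕ}
    (he : h ^ 2 ^ e = 1) : ∃ b ∈ W1, h = ψ b := by
  have two : ∀ (e : ℕ) (y : G), Act ψ y 1 → y ^ 2 ^ e = 1 → y = 1 ∨ y = ψ ng := fun e => by
    induction e with
    | zero => intro y _ hy; left; simpa using hy
    | succ e ih =>
      intro y ay hy
      rw [pow_succ', pow_mul, pow_two] at hy
      exact C.uniq y ay ((ih _ (by simpa using ay.mul ay) hy).resolve_right (h4 y ay))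
  have a1 : Act ψ ((ψ w)⁻¹ * h) 1 := by simpa using (C.self hw).inv.mul a
  have e1 : h = ψ w * ((ψ w)⁻¹ * h) := by group
  generalize (ψ w)⁻¹ * h = k at a1 e1
  have e2 : w ^ 2 ^ (e + 1) = 1 := by
    rw [pow_succ, pow_mul, pow_two]
    rcases C.eq_of_act act_id (he ▸ a.pow (2 ^ e)) with k | k <;> rw [k]
    · exact one_mul 1
    · rw [one_mul, ng_sq]
  have e3 : h ^ 2 ^ (e + 1) = 1 := by rw [pow_succ, pow_mul, he, one_pow]
  rw [e1, (a1.comm1 hw).symm.mul_pow, ← C.pow hw, e2, C.one, one_mul] at e3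
  rcases two _ k a1 e3 with rfl | rfl
  · exact ⟨w, hw, by rw [e1, mul_one]⟩
  · exact ⟨w * ng, mul_mem hw ng_mem, by rw [e1, C.mul _ hw _ ng_mem]⟩

end Cfsg.Agent.H38.E8
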