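import Cfsg.Agent.H38.E8I
import Cfsg.Agent.H38.E8E

/-!
A standard subgroup modelled on the rotation subgroup: the central involution is isolated.
-/

set_option autoImplicit false
set_option maxRecDepth 100000
set_option linter.unusedVariables false

namespace Cfsg.Agent.H38.E8

open Equiv Subgroup Cfsg.Agent.H8 Cfsg.Agent.H10 Function

variable {G : Type*} [Group G] {E : Type*} [Group E]

/-- the automorphisms induced by the normaliser of the image -/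
def ind (e : E →* G) : Subgroup (MulAut E) where
  carrier := {γ | ∃ n : G, ∀ c, n * e c * n⁻¹ = e (γ c)}
  one_mem' := ⟨1, fun c => by simp⟩
  mul_mem' := by
    rintro γ δ ⟨n, hn⟩ ⟨m, hm⟩
    exact ⟨n * m, fun c => by rw [MulAut.mul_apply, ← hn, ← hm]; group⟩
  inv_mem' := by
    rintro γ ⟨n, hn⟩
    refine ⟨n⁻¹, fun c => ?_⟩
    have := hn (γ⁻¹ c)
    rw [MulAut.apply_inv_self] at this
    rw [← this]; group

theorem exists_equiv [Finite E] {e e' : E →* G} (he : Injective e) (he' : Injective e') {n : G}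
    (h : ∀ c, n * e c * n⁻¹ ∈ e'.range) : ∃ γ : MulAut E, ∀ c, n * e c * n⁻¹ = e' (γ c) := by
  choose f hf using h
  let φ : E →* E := MonoidHom.mk' f fun a b => he' (by rw [map_mul, hf, hf, hf, map_mul]; group)
  have inj : Injective φ := fun a b k =>
    he (mul_left_cancel (mul_right_cancel ((hf a).symm.trans ((congrArg e' k).trans (hf b)))))
  exact ⟨MulEquiv.ofBijective φ (Finite.injective_iff_bijective.1 inj), fun c => (hf c).symm⟩

theorem mem_ind_of [Finite E] {e : E →* G} (he : Injective e) {n : G} {f : E → E}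
    (h : ∀ c, n * e c * n⁻¹ = e (f c)) : ∃ γ ∈ ind e, ∀ c, γ c = f c := by
  obtain ⟨γ, hγ⟩ := exists_equiv he he (n := n) fun c => ⟨_, (h c).symm⟩
  exact ⟨γ, ⟨n, hγ⟩, fun c => he ((hγ c).symm.trans (h c))⟩

/-- conjugate of a homomorphism -/
def cjh (n : G) (e : E →* G) : E →* G := (MulAut.conj n).toMonoidHom.comp e

theorem cjh_apply (n : G) (e : E →* G) (c : E) : cjh n e c = n * e c * n⁻¹ := rfl

theorem cjh_inj (n : G) {e : E →* G} (he : Injective e) : Injective (cjh n e) := (MulAut.conj n).injective.comp he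

theorem card_range {W : Type*} [Group W] {e : E →* W} (he : Injective e) : Nat.card e.range = Nat.card E :=
  (Nat.card_congr (MonoidHom.ofInjective he).toEquiv).symm

theorem range_sq {W : Type*} [Group W] (hE : ∀ c : E, c * c = 1) (e : E →* W) : ∀ x ∈ e.range, x * x = 1 := by
  rintro _ ⟨c, rfl⟩
  rw [← map_mul, hE, map_one]

theorem back_conj {n a b : G} (h : n * a * n⁻¹ = b) : n⁻¹ * b * n⁻¹⁻¹ = a := by rw [← h]; group

theorem eq_of_fix {n a z : G} (h : n * a * n⁻¹ = z) (hc : Commute n z) : a = z := by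
  rw [← back_conj h, conj_eq_of_comm hc.inv_left]

variable {ψ : WE → G}

namespace Ctx

variable (C : Ctx ψ)
include C

theorem conj_ev {e : Ev →* G} (he : Injective e) (h : ∀ c, ∃ a ∈ W1, e c = ψ a) : ∃ l, Commute l (ψ ng) ∧
    ((∀ c, l * e c * l⁻¹ ∈ C.e0.range) ∨ ∀ c, l * e c * l⁻¹ ∈ C.e1.range) := by
  choose f h1 h2 using h
  let ξ : Ev →* WE := MonoidHom.mk' f fun a b => C.inj _ (h1 _) _ (mul_mem (h1 _) (h1 _)) (by
    rw [C.mul _ (h1 _) _ (h1 _), ← h2, ← h2, ← h2, map_mul])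
  have inj : Injective ξ := fun a b k => he (by rw [h2, h2]; exact congrArg ψ k)
  obtain ⟨g, hg, k⟩ := conj_elem (range_sq ev_sq ξ) (by rw [card_range inj, card_Ev])
    (Or.inl (by rintro _ ⟨c, rfl⟩; exact h1 c))
  refine ⟨ψ g, (C.self hg).comm, k.imp (fun k c => ?_) fun k c => ?_⟩
  · obtain ⟨t, ht⟩ := k _ ⟨c, rfl⟩
    exact ⟨⟨t, sg_mem_W1.1 (ht ▸ conj_W1 (h1 c) g)⟩, by rw [h2, C.self hg _ (h1 c), e0_apply, ht]; rfl⟩
  · obtain ⟨t, ht⟩ := k _ ⟨c, rfl⟩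
    exact ⟨t, by rw [h2, C.self hg _ (h1 c), e1_apply, ht]; rfl⟩

theorem fix_e1 {n : G} (h : ∀ c, n * C.e1 c * n⁻¹ ∈ C.e1.range) : Commute n (ψ ng) := by
  obtain ⟨γ, hγ⟩ := exists_equiv C.e1_inj C.e1_inj h
  have := fix_alt (ind C.e1) (fun σ hσ => mem_ind_of C.e1_inj (n := ψ (tp σ)) fun c => by
    rw [e1_apply, C.self (tp_mem hσ) _ (dl_mem c), tp_dl]; rfl) (by
      rintro δ ⟨m, hm⟩ e c
      obtain ⟨w, hw⟩ := C.act m (comm_of_conj_eq (by rw [← C.e1_z, hm, e]))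
      exact (sm_eq_of_conj (C.inj _ (conj_W1 (dl_mem c) w) _ (dl_mem _) ((hw _ (dl_mem c)).symm.trans (hm c)))).symm)
    γ ⟨n, hγ⟩
  exact comm_of_conj_eq (by rw [← C.e1_z, hγ, this])

theorem lift_e0 {σ : Perm I} (hσ : σ ∈ Aff) : ∃ l : G, ∀ c, l * C.e0 c * l⁻¹ = C.e0 (acE σ c) := by
  obtain ⟨l, h1, h2⟩ := exists_lift_aff hσ
  exact ⟨ψ l, fun c => by rw [e0_apply, C.self h1 _ (sg_mem_W1.2 c.2), h2]; rfl⟩

theorem fix_e10 {n : G} (h : ∀ c, n * C.e1 c * n⁻¹ ∈ C.e0.range) : Commute n (ψ ng) := by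
  obtain ⟨γ, hγ⟩ := exists_equiv C.e1_inj C.e0_inj h
  have := aff_fix (s := (γ mEv).1) fun σ hσ => by
    obtain ⟨l, hl⟩ := C.lift_e0 hσ
    have k := C.fix_e1 (n := n⁻¹ * l * n) fun c => ⟨γ⁻¹ (acE σ (γ c)), by
      rw [← back_conj (hγ _), MulAut.apply_inv_self, ← hl, ← hγ]; group⟩
    refine congrArg Subtype.val (C.e0_inj (a₁ := acE σ (γ mEv)) ?_)
    rw [← hl, ← hγ, e1_z]
    calc _ = n * (n⁻¹ * l * n * ψ ng * (n⁻¹ * l * n)⁻¹) * n⁻¹ := by group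
      _ = _ := by rw [conj_eq_of_comm k]
  have e : γ mEv = mEv := Subtype.ext (this.resolve_left fun e =>
    mEv_ne (γ.map_eq_one_iff.1 (Subtype.ext e)))
  exact comm_of_conj_eq (by rw [← C.e1_z, hγ, e, e0_z, e1_z])

theorem weak {g : G} {c : Ev} (hz : g * C.e1 c * g⁻¹ = ψ ng) (h : ∀ d, ∃ a ∈ W1, g * C.e1 d * g⁻¹ = ψ a) :
    C.e1 c = ψ ng := by
  obtain ⟨l, l1, l2⟩ := C.conj_ev (cjh_inj g C.e1_inj) h
  have e : ∀ d, l * cjh g C.e1 d * l⁻¹ = l * g * C.e1 d * (l * g)⁻¹ := fun d => by rw [cjh_apply]; group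
  simp only [e] at l2
  exact eq_of_fix (n := l * g) (by rw [← e, cjh_apply, hz, conj_eq_of_comm l1]) (l2.elim C.fix_e10 C.fix_e1)

/-- the case without outer involutions -/
theorem case_inner (hin : ∀ h, Commute h (ψ ng) → h * h = 1 → ∃ a ∈ W1, h = ψ a) {g : G}
    (hc : Commute (g * ψ ng * g⁻¹) (ψ ng)) : g * ψ ng * g⁻¹ = ψ ng := by
  have sub : ∀ (e : Ev →* G) (m : G) (c : Ev), m * ψ ng * m⁻¹ = e c → ∀ d, ∃ a ∈ W1, m⁻¹ * e d * m⁻¹⁻¹ = ψ a :=
    fun e m c hm d => hin _ (back_conj hm ▸ commute_conj m⁻¹ ((Commute.all d c).map e)) (by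
      calc _ = m⁻¹ * (e d * e d) * m := by group
        _ = 1 := by rw [← map_mul, ev_sq, map_one]; group)
  obtain ⟨a, ha, e⟩ := hin _ hc (C.conj g).zz
  obtain ⟨g0, hg0, s, hs⟩ := conj_invol (w := a) (C.inj _ (mul_mem ha ha) _ (one_mem _) (by
    rw [C.mul _ ha _ ha, ← e, C.one]; exact (C.conj g).zz))
  have hs1 : s ∈ Ev := sg_mem_W1.1 (hs ▸ conj_W1 ha g0)
  have e1 : ψ g0 * (g * ψ ng * g⁻¹) * (ψ g0)⁻¹ = C.e0 ⟨s, hs1⟩ := by
    rw [e, C.self hg0 _ ha, hs, e0_apply]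
  refine eq_of_fix (e1.trans ?_) (C.self hg0).comm
  rw [show ψ g0 * (g * ψ ng * g⁻¹) * (ψ g0)⁻¹ = ψ g0 * g * ψ ng * (ψ g0 * g)⁻¹ by group] at e1
  generalize ψ g0 * g = m at e1
  generalize (⟨s, hs1⟩ : Ev) = c at e1 ⊢
  obtain ⟨l, l1, l2⟩ := C.conj_ev (cjh_inj m⁻¹ C.e0_inj) (sub _ m c e1)
  have e2 : ∀ d, l * cjh m⁻¹ C.e0 d * l⁻¹ = l * m⁻¹ * C.e0 d * (l * m⁻¹)⁻¹ := fun d => by rw [cjh_apply]; group
  simp only [e2] at l2
  refine eq_of_fix (n := l * m⁻¹) (by rw [← e2, cjh_apply, back_conj e1, conj_eq_of_comm l1]) ?_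
  generalize l * m⁻¹ = n at l2
  rcases l2 with l2 | l2
  · obtain ⟨γ, hγ⟩ := exists_equiv C.e0_inj C.e0_inj l2
    have := fix_aff_ev (ind C.e0) (fun σ hσ => by
      obtain ⟨l, hl⟩ := C.lift_e0 hσ
      exact mem_ind_of C.e0_inj hl) (by
        rintro δ ⟨p, hp⟩ k
        obtain ⟨d, hd⟩ := sg_mem_range_dl k
        have k1 : p * ψ ng * p⁻¹ = C.e1 d := by rw [← C.e0_z, hp, e1_apply, hd]; rfl
        exact C.e0_inj (by rw [← hp, e0_z, k1]; exact C.weak (back_conj k1) (sub _ p d k1))) γ ⟨n, hγ⟩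
    exact comm_of_conj_eq (by rw [← C.e0_z, hγ, this])
  · obtain ⟨γ, hγ⟩ := exists_equiv C.e0_inj C.e1_inj l2
    simpa using (C.fix_e10 (n := n⁻¹) fun d => ⟨γ⁻¹ d, by
      rw [← back_conj (hγ _), MulAut.apply_inv_self]⟩).inv_left

theorem exists_ext {x : G} {ρ : WE} (hx : Act ψ x ρ) (xx : x * x = 1) (hρ : ρ ∉ W1) :
    ∃ Φ : WE →* G, Injective Φ ∧ (∀ a ∈ W1, Φ a = ψ a) ∧ ∀ a, Act ψ (Φ a) a := by
  classical
  have rr : ρ * ρ = 1 := (C.sq_of_act hx xx).resolve_right fun e => hρ (mem_W1_of_sq e)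
  have ri : ρ⁻¹ = ρ := inv_eq_of_mul_eq_one_right rr
  have xi : x⁻¹ = x := inv_eq_of_mul_eq_one_right xx
  let Φ : WE →* G := MonoidHom.mk' (fun a => if a ∈ W1 then ψ a else ψ (a * ρ) * x) fun a b => by
    by_cases ha : a ∈ W1 <;> by_cases hb : b ∈ W1
    · rw [if_pos ha, if_pos hb, if_pos (mul_mem ha hb), C.mul _ ha _ hb]
    · rw [if_pos ha, if_neg hb, if_neg (by rwa [mul_mem_cancel_left ha]), mul_assoc a,
        C.mul _ ha _ (mul_mem_W1 hb hρ), mul_assoc]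
    · rw [if_neg ha, if_pos hb, if_neg (by rwa [mul_mem_cancel_right hb]),
        show a * b * ρ = a * ρ * (ρ * b * ρ⁻¹) by rw [ri, ← mul_assoc, ← mul_assoc, mul_assoc a ρ, rr, mul_one],
        C.mul _ (mul_mem_W1 ha hρ) _ (conj_W1 hb _), ← hx _ hb]
      group
    · rw [if_neg ha, if_neg hb, if_pos (mul_mem_W1 ha hb),
        show a * b = a * ρ * (ρ * (b * ρ) * ρ⁻¹) by
          rw [mul_assoc ρ, mul_inv_cancel_right, ← mul_assoc, mul_assoc a ρ, rr, mul_one],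
        C.mul _ (mul_mem_W1 ha hρ) _ (conj_W1 (mul_mem_W1 hb hρ) _), ← hx _ (mul_mem_W1 hb hρ), xi]
      simp only [mul_assoc]
  have h1 : ∀ a ∈ W1, Φ a = ψ a := fun a ha => if_pos ha
  have h2 : ∀ a, Act ψ (Φ a) a := fun a => by
    by_cases ha : a ∈ W1
    · rw [h1 a ha]; exact C.self ha
    · have := (C.self (mul_mem_W1 ha hρ)).mul hx
      rw [mul_assoc a, rr, mul_one] at this
      rwa [show Φ a = ψ (a * ρ) * x from if_neg ha]
  refine ⟨Φ, (injective_iff_map_eq_one Φ).2 fun a e => ?_, h1, h2⟩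
  have ha : a ∈ W1 := by
    rcases C.eq_of_act act_id (e ▸ h2 a) with k | k <;> rw [k]
    exacts [one_mem _, mul_mem (one_mem _) ng_mem]
  exact C.inj _ ha _ (one_mem _) (by rw [← h1 a ha, e, C.one])

end Ctx

theorem pull_SW {Φ : WE →* G} (hΦ : Injective Φ) {e : E →* G} (he : Injective e) (h : ∀ c, e c ∈ SW.map Φ) :
    ∃ ξ : E →* WE, Injective ξ ∧ ξ.range ≤ SW ∧ ∀ c, Φ (ξ c) = e c := by
  choose f h1 h2 using h
  refine ⟨MonoidHom.mk' f fun a b => hΦ (by rw [map_mul, h2, h2, h2, map_mul]),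
    fun a b k => he (by rw [← h2, ← h2]; exact congrArg Φ k), ?_, h2⟩
  rintro _ ⟨c, rfl⟩
  exact h1 c

theorem top_eight {Φ : WE →* G} (hΦ : Injective Φ) {e : SV →* G} (he : Injective e) (h : ∀ c, e c ∈ SW.map Φ)
    (c : SV) : e c ∈ (Φ.comp sg).range := by
  obtain ⟨ξ, h1, h2, h3⟩ := pull_SW hΦ he h
  have hc : Nat.card ξ.range = 256 := by rw [card_range h1, card_SV]
  rcases elem_SW h2 (range_sq sv_sq ξ) (by omega) (Or.inr (Or.inl hc.ge)) with k | k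
  · obtain ⟨t, ht⟩ := k ⟨c, rfl⟩
    exact ⟨t, by rw [← h3, ← ht]; rfl⟩
  · have := card_le_of_le k
    rw [card_range_dl] at this
    omega

variable [Finite G]

namespace Ctx

variable (C : Ctx ψ)
include C

theorem conj_two (h4 : ∀ k, Act ψ k 1 → k * k ≠ ψ ng) {Φ : WE →* G} (hΦ : Injective Φ) (h1 : ∀ a ∈ W1, Φ a = ψ a)
    (h2 : ∀ a, Act ψ (Φ a) a) {Q : Subgroup G} (hQ : IsPGroup 2 Q) (hQz : ∀ y ∈ Q, Commute y (ψ ng)) :
    ∃ h, Commute h (ψ ng) ∧ ∀ y ∈ Q, h * y * h⁻¹ ∈ SW.map Φ := by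
  have : Fact (Nat.Prime 2) := ⟨Nat.prime_two⟩
  obtain ⟨h, hh, P, hP, hPH, hXP, hYP⟩ := two_conj (H := centralizer {ψ ng}) (two_SW.map Φ) hQ
    (by rintro _ ⟨a, -, rfl⟩; exact Std.mem_cent1.2 (h2 a).comm) fun y hy => Std.mem_cent1.2 (hQz y hy)
  have k : P.comap Φ = SW := (two_SW.toSylow (by rw [index_SW]; decide)).is_maximal' (hP.comap_of_injective Φ hΦ)
    (map_le_iff_le_comap.1 hXP)
  have inn : ∀ y ∈ P, ∀ w ∈ W1, Act ψ y w → y ∈ Φ.range := fun y hy w hw a => by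
    obtain ⟨e, he⟩ := pow_of_mem hP hy
    obtain ⟨b, hb, rfl⟩ := inner_mem C h4 a hw he
    exact ⟨b, h1 b hb⟩
  refine ⟨h, Std.mem_cent1.1 hh, fun y hy => ?_⟩
  have hy' := hYP y hy
  generalize h * y * h⁻¹ = y at hy'
  obtain ⟨a, rfl⟩ : y ∈ Φ.range := by
    obtain ⟨w, hw⟩ := C.act y (Std.mem_cent1.1 (hPH hy'))
    by_cases hw1 : w ∈ W1
    · exact inn y hy' w hw1 hw
    · exact (mul_mem_cancel_right (⟨_, rfl⟩ : Φ (sg (u1 0)) ∈ Φ.range)).1 (inn _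
        (mul_mem hy' (hXP ⟨_, sg_mem_SW _, rfl⟩)) _ (mul_mem_W1 hw1 (u1_notMem 0)) (hw.mul (h2 _)))
  exact ⟨a, k.le hy', rfl⟩

/-- the case with an outer involution -/
theorem case_outer (h4 : ∀ k, Act ψ k 1 → k * k ≠ ψ ng) {Φ : WE →* G} (hΦ : Injective Φ) (h1 : ∀ a ∈ W1, Φ a = ψ a)
    (h2 : ∀ a, Act ψ (Φ a) a) {g : G} (hc : Commute (g * ψ ng * g⁻¹) (ψ ng)) : g * ψ ng * g⁻¹ = ψ ng := by
  have S := fun {Q : Subgroup G} => C.conj_two h4 hΦ h1 h2 (Q := Q)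
  have finj : Injective (Φ.comp sg) := hΦ.comp sg_inj
  have fz : (Φ.comp sg) (-1) = ψ ng := h1 _ ng_mem
  have sub : ∀ (m : G) (w : WE), m * ψ ng * m⁻¹ = Φ w → ∃ n, n * Φ w * n⁻¹ = ψ ng ∧
      ∀ a ∈ SW, Commute a w → n * Φ a * n⁻¹ ∈ SW.map Φ := fun m w hm => by
    obtain ⟨h, k1, k2⟩ := S (Q := ((SW ⊓ centralizer {w}).map Φ).map (MulAut.conj m⁻¹).toMonoidHom)
      ((two_SW.to_inf_left.map _).map _) (by
        rintro _ ⟨_, ⟨a, ha, rfl⟩, rfl⟩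
        exact back_conj hm ▸ commute_conj m⁻¹ ((Std.mem_cent1.1 ha.2).map Φ))
    refine ⟨h * m⁻¹, ?_, fun a a1 a2 => ?_⟩
    · rw [← conj_eq_of_comm k1, ← back_conj hm]; group
    · have := k2 _ ⟨_, ⟨a, ⟨a1, Std.mem_cent1.2 a2⟩, rfl⟩, rfl⟩
      convert this using 1
      simp only [MulEquiv.coe_toMonoidHom, MulAut.conj_apply]
      group
  have nrm : ∀ (n : G) (t : SV), (∀ a ∈ SW, Commute a (sg t) → n * Φ a * n⁻¹ ∈ SW.map Φ) →
      ∃ δ : MulAut SV, ∀ s, n * (Φ.comp sg) s * n⁻¹ = (Φ.comp sg) (δ s) := fun n t hn =>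
    exists_equiv finj finj (top_eight hΦ (cjh_inj n finj) fun s => hn _ (sg_mem_SW s) (sg_comm s t))
  have fix := fix_aff (ind (Φ.comp sg)) (fun σ hσ => ⟨Φ (pm ⟨σ, hσ⟩), fun s => by
      simp only [MonoidHom.comp_apply]
      rw [← map_inv, ← map_mul, ← map_mul, pm_sg, mul_inv_cancel_right]⟩) (by
      rintro γ ⟨n, hn⟩ e
      obtain ⟨w, hw⟩ := C.act n (comm_of_conj_eq (by rw [← fz, hn, e]))
      have k : ∀ s, pr s = 1 → w * sg s * w⁻¹ = sg (γ s) := fun s hs => hΦ (by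
        rw [h1 _ (conj_W1 (sg_mem_W1.2 hs) w), ← hw _ (sg_mem_W1.2 hs), ← h1 _ (sg_mem_W1.2 hs)]
        exact hn s)
      obtain ⟨r, σ, rfl⟩ := mem_Mon_of_norm fun s hs => ⟨_, k s hs⟩
      exact ⟨σ.1, σ.2, fun s hs => sg_inj ((k s hs).symm.trans (mono_conj r σ s))⟩) (by
      rintro γ ⟨m, hm⟩ k
      have e1 := hm (-1)
      rw [fz] at e1
      generalize γ (-1) = t at k e1
      obtain ⟨c0, hc0⟩ := sg_mem_range_dl k
      obtain ⟨n, n1, n2⟩ := sub m _ e1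
      obtain ⟨δ, hδ⟩ := nrm n t n2
      obtain ⟨ξ, x1, x2, x3⟩ := pull_SW hΦ (cjh_inj n (e := Φ.comp dl) (hΦ.comp dl_inj))
        fun c => n2 _ (dl_mem_SW c) (hc0 ▸ (Commute.all c c0).map dl)
      have c16 : Nat.card (ξ.range.comap sg) ≤ 16 := by
        rw [← card_pair_const, ← Fintype.card_subtype, ← Nat.card_eq_fintype_card]
        refine Nat.card_le_card_of_injective (fun s => ⟨δ⁻¹ s.1, ?_⟩) fun a b e =>
          Subtype.ext (δ⁻¹.injective (congrArg Subtype.val e))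
        obtain ⟨c, hc⟩ := s.2
        refine pair_const (c := c) (hΦ (mul_left_cancel (a := n) (mul_right_cancel (b := n⁻¹) ?_)))
        exact (hδ _).trans (by rw [MulAut.apply_inv_self, MonoidHom.comp_apply, ← hc, x3]; rfl)
      have c128 : Nat.card ξ.range = 128 := by rw [card_range x1, card_Ev]
      rcases elem_SW x2 (range_sq ev_sq ξ) c128.ge (Or.inr (Or.inr c16)) with k1 | k1
      · rw [← map_comap_eq_self k1, card_map_of_injective sg_inj] at c128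
        omega
      · refine finj (fz ▸ eq_of_fix n1 (C.fix_e1 fun c => ?_))
        obtain ⟨d, hd⟩ := k1 ⟨c, rfl⟩
        exact ⟨d, by rw [e1_apply, e1_apply, ← h1 _ (dl_mem d), ← h1 _ (dl_mem c), hd, x3]; rfl⟩)
  obtain ⟨h, k1, k2⟩ := S (Q := zpowers (g * ψ ng * g⁻¹))
    (isPGroup_zpowers_of_pow (k := 1) (by rw [pow_one, pow_two]; exact (C.conj g).zz))
    (by rintro _ ⟨n, rfl⟩; exact hc.zpow_left n)
  obtain ⟨a, -, ha⟩ := k2 _ (mem_zpowers _)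
  obtain ⟨g0, hg0, s, hs⟩ := conj_invol (w := a) (hΦ (by
    rw [map_mul, map_one, ha]
    calc _ = h * g * (ψ ng * ψ ng) * (h * g)⁻¹ := by group
      _ = 1 := by rw [C.zz]; group))
  have e1 : Φ g0 * h * (g * ψ ng * g⁻¹) * (Φ g0 * h)⁻¹ = Φ (sg s) := by
    rw [← hs, map_mul, map_mul, map_inv, ha]; group
  refine eq_of_fix (e1.trans ?_) ((h2 g0).comm.mul_left k1)
  obtain ⟨n, n1, n2⟩ := sub (Φ g0 * h * g) _ (by rw [← e1]; group)
  obtain ⟨δ, hδ⟩ := nrm n s n2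
  exact eq_of_fix n1 (comm_of_conj_eq (by rw [← fz, hδ, fix δ ⟨n, hδ⟩]))

/-- The central involution is isolated. -/
theorem isolated {g : G} (hc : Commute (g * ψ ng * g⁻¹) (ψ ng)) : g * ψ ng * g⁻¹ = ψ ng := by
  by_contra hne
  have h4 : ∀ k, Act ψ k 1 → k * k ≠ ψ ng := fun k => no_four C hc hne
  by_cases ho : ∃ x ρ, Act ψ x ρ ∧ x * x = 1 ∧ ρ ∉ W1
  · obtain ⟨x, ρ, a1, a2, a3⟩ := ho
    obtain ⟨Φ, b1, b2, b3⟩ := C.exists_ext a1 a2 a3
    exact hne (C.case_outer h4 b1 b2 b3 hc)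
  · refine hne (C.case_inner (fun h hz hh => ?_) hc)
    obtain ⟨w, hw⟩ := C.act h hz
    exact inner_mem C h4 hw (by_contra fun k => ho ⟨h, w, hw, hh, k⟩) (e := 1) (by rw [pow_one, pow_two, hh])

end Ctx

theorem normal_of_model (hO : oddCore G = ⊥) {L : Subgroup G} (hL : IsStandardSubgroup L)
    (hR : ∀ R : Sylow 2 ↥(centralizer (L : Set G)), IsCyclic ↥(R : Subgroup ↥(centralizer (L : Set G))))
    {φ : W1 →* G} (inj : Injective φ) (rg : φ.range = L)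
    (act : ∀ h ∈ normalizer (L : Set G), ∃ w : WE, ∀ a : W1, h * φ a * h⁻¹ = φ (MulAut.conjNormal w a)) :
    L.Normal := by
  classical
  have : Fact (Nat.Prime 2) := ⟨Nat.prime_two⟩
  subst rg
  let ψ : WE → G := fun a => if h : a ∈ W1 then φ ⟨a, h⟩ else 1
  have e : ∀ a (h : a ∈ W1), ψ a = φ ⟨a, h⟩ := fun a h => dif_pos h
  have k1 : ∀ s, Act ψ s 1 → s ∈ centralizer (φ.range : Set G) := by
    rintro s hs _ ⟨a, rfl⟩
    rw [← e a.1 a.2]
    exact (hs.comm1 a.2).symm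
  have T : Std.Ctr φ.range (ψ ng) := by
    rw [e _ ng_mem]
    refine ⟨hL, by rw [orderOf_injective φ inj, ← orderOf_ng]; exact (Subgroup.orderOf_coe _).symm, ⟨_, rfl⟩, ?_, ?_⟩
    · rintro _ ⟨a, rfl⟩
      rw [← map_mul, ← map_mul]
      exact congrArg φ (Subtype.ext (ng_comm _).symm)
    · rintro _ ⟨a, rfl⟩ h1 -
      refine (cent_W1 (c := a.1) fun b hb => ?_).imp (fun k => ?_) fun k => congrArg φ (Subtype.ext k)
      · have := h1 _ ⟨⟨b, hb⟩, rfl⟩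
        rw [← map_mul, ← map_mul] at this
        exact (congrArg Subtype.val (inj this)).symm
      · rw [show a = 1 from Subtype.ext k, map_one]
  have C : Ctx ψ :=
    { mul := fun a ha b hb => by rw [e _ ha, e _ hb, e _ (mul_mem ha hb), ← map_mul]; rfl
      inj := fun a ha b hb h => by rw [e _ ha, e _ hb] at h; exact congrArg Subtype.val (inj h)
      act := fun h hh => by
        obtain ⟨w, hw⟩ := act h (T.norm_eq ▸ Std.mem_cent1.2 hh)
        exact ⟨w, fun a ha => by rw [e _ ha, e _ (conj_W1 ha w), hw]; rfl⟩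
      uniq := fun s hs => T.uniq_K_of_cyclic hR (k1 s hs)
      ab := fun Q hQ y hy y' hy' a b => by
        obtain ⟨R, hR'⟩ := (hQ.comap_subtype (K := centralizer (φ.range : Set G))).exists_le_sylow
        have := hR R
        have c := (IsCyclic.isMulCommutative (α := (R : Subgroup ↥(centralizer (φ.range : Set G))))).is_comm.comm
          ⟨⟨y, k1 y a⟩, hR' hy⟩ ⟨⟨y', k1 y' b⟩, hR' hy'⟩
        exact congrArg (fun t => (t.1 : G)) c }
  by_contra hn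
  obtain ⟨g, g1, g2⟩ := Std.exists_conj_comm hL hO hn T.ord T.memK
  exact g2 (C.isolated g1)

end Cfsg.Agent.H38.E8
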