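import Cfsg.Agent.H78.G40B

/-! Project L40G (row S3140): the centraliser of the four-group in `SL₃(9)`. -/

set_option autoImplicit false

namespace Cfsg.Agent.H38.G40F3a

open Subgroup Matrix Cfsg.Agent.H46.L40 Cfsg.Agent.H28 Cfsg.Agent.H78.G40

theorem ez : (e3 z0).1 = diagonal ![-1, -1, 1] := by decide +kernel
theorem ea : (e3 a0).1 = diagonal ![1, -1, -1] := by decide +kernel
theorem eza : (e3 (z0 * a0)).1 = diagonal ![-1, 1, -1] := by decide +kernel

theorem zV : e3 z0 ∈ V0.map e3 := mem_map_of_mem _ (subset_closure (by simp))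
theorem aV : e3 a0 ∈ V0.map e3 := mem_map_of_mem _ (subset_closure (by simp))

theorem diag {y : X3} (hy : y ∈ centralizer (V0.map e3 : Set X3)) :
    ∃ a b c : F9, a * b * c = 1 ∧ y.1 = diagonal ![a, b, c] := by
  have h1 : (e3 z0).1 * y.1 = y.1 * (e3 z0).1 := congrArg Subtype.val (hy _ zV)
  have h2 : (e3 a0).1 * y.1 = y.1 * (e3 a0).1 := congrArg Subtype.val (hy _ aV)
  rw [ez] at h1
  rw [ea] at h2
  have k : ∀ x : F9, (x = -x → x = 0) ∧ (-x = x → x = 0) := by decide
  have e : y.1 = diagonal ![y.1 0 0, y.1 1 1, y.1 2 2] := by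
    ext i j : 1
    have a1 := congrFun (congrFun h1 i) j
    have a2 := congrFun (congrFun h2 i) j
    rw [diagonal_mul, mul_diagonal] at a1 a2
    fin_cases i <;> fin_cases j <;> simp at a1 a2 ⊢ <;>
      first | exact (k _).1 a1 | exact (k _).2 a1 | exact (k _).1 a2 | exact (k _).2 a2
  refine ⟨_, _, _, ?_, e⟩
  have := y.2
  rw [e, det_diagonal, Fin.prod_univ_three] at this
  exact this

theorem f3a : F3aS := by
  refine ⟨fun y => ⟨3, Subtype.ext (Subtype.ext ?_)⟩, fun x hx y hy => Subtype.ext ?_,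
    fun y hy h => ?_⟩
  · obtain ⟨a, b, c, h, e⟩ := diag y.2
    have k : ∀ a b : F9, a * b = 1 → a ^ 2 ^ 3 = 1 := by decide +kernel
    change y.1.1 ^ 2 ^ 3 = 1
    rw [e, diagonal_pow, ← diagonal_one]
    congr 1
    funext i
    fin_cases i
    · exact k a (b * c) (by rw [← h]; ring)
    · exact k b (a * c) (by rw [← h]; ring)
    · exact k c (a * b) (by rw [← h]; ring)
  · obtain ⟨a, b, c, -, e⟩ := diag hx
    obtain ⟨a', b', c', -, e'⟩ := diag hy
    change x.1 * y.1 = y.1 * x.1
    rw [e, e']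
    exact (commute_diagonal _ _).eq
  · obtain ⟨a, b, c, hd, e⟩ := diag hy
    have h1 : y.1 * y.1 = 1 := congrArg Subtype.val h
    rw [e, diagonal_mul_diagonal, ← diagonal_one] at h1
    have h2 := diagonal_injective h1
    have k : ∀ a b c : F9, a * a = 1 → b * b = 1 → a * b * c = 1 →
        ![a, b, c] = ![1, 1, 1] ∨ ![a, b, c] = ![-1, -1, 1] ∨ ![a, b, c] = ![1, -1, -1] ∨
          ![a, b, c] = ![-1, 1, -1] := by decide +kernel
    rcases k a b c (congrFun h2 0) (congrFun h2 1) hd with h3 | h3 | h3 | h3 <;> rw [h3] at e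
    · rw [show y = 1 from Subtype.ext (e.trans (by decide +kernel))]
      exact one_mem _
    · rw [show y = e3 z0 from Subtype.ext (e.trans ez.symm)]
      exact zV
    · rw [show y = e3 a0 from Subtype.ext (e.trans ea.symm)]
      exact aV
    · rw [show y = e3 (z0 * a0) from Subtype.ext (e.trans eza.symm), map_mul]
      exact mul_mem zV aV

end Cfsg.Agent.H38.G40F3a
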