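import Cfsg.Agent.H56.HLDefs

/-! Project HL (S3727), piece P7: the translation `τ` from `a` to `x`. -/

set_option autoImplicit false
set_option linter.unusedSectionVars false

namespace Cfsg.Agent.H38.HLP7

open MulAction Subgroup Cfsg.Agent.H83 Cfsg.Agent.H56.TT Cfsg.Agent.H56.HL
open scoped Cfsg.Agent.H63

universe u v

/-- averaging over an odd number of cosets -/
theorem avg {G : Type u} [Group G] [Finite G] (S U E : Subgroup G) (r : G)
    (hodd : Odd (U.subgroupOf S).index) (hE2 : ∀ x ∈ E, x * x = 1)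
    (hc : ∀ x ∈ E, ∀ y ∈ E, x * y = y * x) (hSE : ∀ s ∈ S, ∀ x ∈ E, s * x * s⁻¹ ∈ E)
    (hd : ∀ s ∈ S, s * r * s⁻¹ * r⁻¹ ∈ E) (hUr : ∀ u ∈ U, u * r = r * u) :
    ∃ e ∈ E, ∀ s ∈ S, s * (e * r) = e * r * s := by
  classical
  letI : CommGroup E := { (inferInstance : Group E) with
    mul_comm := fun x y => Subtype.ext (hc x x.2 y y.2) }
  letI : Fintype (S ⧸ U.subgroupOf S) := Fintype.ofFinite _
  let d : S → E := fun s => ⟨s * r * (s : G)⁻¹ * r⁻¹, hd s s.2⟩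
  let c : S → E →* E := fun t =>
    { toFun := fun x => ⟨t * x * (t : G)⁻¹, hSE t t.2 x x.2⟩
      map_one' := Subtype.ext (by simp)
      map_mul' := fun x y => Subtype.ext (by simp only [coe_mul]; group) }
  have hdm : ∀ s t : S, d (s * t) = c s (d t) * d s := fun s t => Subtype.ext (by
    simp only [d, c, coe_mul, MonoidHom.coe_mk, OneHom.coe_mk]; group)
  have hdU : ∀ s t : S, s⁻¹ * t ∈ U.subgroupOf S → d s = d t := fun s t h => by
    have h1 : t = s * (s⁻¹ * t) := by group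
    have h2 : d (s⁻¹ * t) = 1 := Subtype.ext (by
      have := hUr _ (mem_subgroupOf.1 h)
      simp only [d, coe_one]
      rw [this]; group)
    rw [h1, hdm, h2, map_one, one_mul]
  let φ : S ⧸ U.subgroupOf S → E := fun k => d k.out
  have hφ : ∀ (t : S) (k : S ⧸ U.subgroupOf S), φ (t • k) = c t (φ k) * d t := fun t k => by
    rw [← hdm]
    apply hdU
    rw [← QuotientGroup.eq, QuotientGroup.out_eq', ← smul_eq_mul, MulAction.Quotient.mk_smul_out]
  refine ⟨(∏ k, φ k : E), (∏ k, φ k).2, fun s hs => ?_⟩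
  have h1 : ∏ k, φ k = c ⟨s, hs⟩ (∏ k, φ k) * d ⟨s, hs⟩ := by
    have h2 : ∏ k, φ k = ∏ k, φ ((⟨s, hs⟩ : S) • k) :=
      (Equiv.prod_comp (MulAction.toPerm (⟨s, hs⟩ : S)) φ).symm
    obtain ⟨m, hm⟩ := hodd
    have h3 : d ⟨s, hs⟩ ^ 2 = 1 := Subtype.ext (by
      rw [sq, coe_mul, coe_one]; exact hE2 _ (d ⟨s, hs⟩).2)
    conv_lhs => rw [h2]
    simp only [hφ]
    rw [Finset.prod_mul_distrib, map_prod, Finset.prod_const, Finset.card_univ,
      ← Nat.card_eq_fintype_card, ← index_eq_card, hm, pow_succ, pow_mul, h3, one_pow, one_mul]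
  have h2 := congrArg Subtype.val h1
  simp only [d, c, coe_mul, MonoidHom.coe_mk, OneHom.coe_mk] at h2
  calc s * ((∏ k, φ k : E) * r) = s * (∏ k, φ k : E) * s⁻¹ * (s * r * s⁻¹ * r⁻¹) * r * s := by group
    _ = _ := by rw [← h2]

theorem p7 : P7Stmt.{u, v} := by
  intro G Ω _ _ _ _ _ NN q EE k h a F R x hP hR hx hax ⟨r, hrR, hrF, hra⟩
  have hs := h.pl.st
  have hl := h.pl.ln
  have K := hs.kit a
  have hA : Adj (NN a) q (EE a x) F := (h.p2a.fixF hP x hax).1 hx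
  have haF : a ∈ Fx Ω F := hP.mem hs
  have haE : a ∈ Fx Ω (EE a x) := hl.left hs hax
  -- elements normalising `E` permute its neighbours
  have hperm : ∀ g ∈ N[EE a x], ∀ M, Adj (NN a) q M (EE a x) → Adj (NN a) q (cj g M) (EE a x) := by
    intro g hg M hM
    have h1 := hM.symm.cj' g
    rw [cj_eq_self hg, ← hs.smul] at h1
    have h2 : g • a ∈ Fx Ω (EE a x) := smul_mem_Fx_of hg haE
    by_cases e : g • a = a
    · rw [e] at h1; exact h1.symm
    · have h3 : EE (g • a) a = EE a x := hl.line hax e h2 haE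
      rw [← h3] at h1 ⊢
      exact (h.p2b.adj e (hl.right hs e) h1).symm
  have hnS : ∀ g ∈ N[EE a x], g ∈ N[SS (NN a) q (EE a x)] := by
    intro g hg
    refine cj_eq_self_iff.1 ?_
    rw [cj_SS', cj_eq_self hg, ← hs.smul]
    exact h.p2b.ss hax (smul_mem_Fx_of hg haE)
  have hFc : F ≤ C[F] := fun f hf => mem_centralizer_iff.2 fun y hy => hA.vr.comm hy hf
  have hFR : F ≤ R := (le_JJ F).trans hR.jle
  have hFE : F ≤ N[EE a x] := le_sup_left.trans (K.ka.nE hA.symm)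
  have hEF : EE a x ≤ N[F] := le_sup_left.trans (K.ka.nE hA)
  have hrE : r ∈ N[EE a x] := by
    have h1 : r • x = a := by
      rw [← hra, ← mul_smul]; exact mem_JJ.1 (hR.sq r hrR) a haF
    refine cj_eq_self_iff.1 ?_
    rw [← hl.smul r hax, hra, h1, hl.symm x a hax.symm]
  obtain ⟨M₀, hM₀, hM₀F, -⟩ := K.ka.third hA.symm hA.symm
  have hcF : ∀ g ∈ C[F], cj g F = F := fun g hg => cj_eq_self (centralizer_le_normalizer _ hg)
  obtain ⟨f, hf, hfM⟩ := (K.l3.fc hA.symm).trE (cj r M₀) M₀ (hperm r hrE M₀ hM₀) hM₀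
    (fun e => hM₀F (cj_inj.1 (e.trans (hcF r hrF).symm))) hM₀F
  -- the corrected element `r' = f r`
  obtain ⟨r', hr'R, hr'F, hr'a, hr'E, hr'M⟩ : ∃ r' ∈ R, r' ∈ C[F] ∧ r' • a = x ∧
      r' ∈ N[EE a x] ∧ cj r' M₀ = M₀ :=
    ⟨f * r, R.mul_mem (hFR hf) hrR, mul_mem (hFc hf) hrF, by rw [mul_smul, hra]; exact hx hf,
      mul_mem (hFE hf) hrE, by rw [cj_mul, hfM]⟩
  have hall : ∀ M, Adj (NN a) q M (EE a x) → r' ∈ N[M] := by
    intro M hM
    by_cases e : M = F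
    · rw [e]; exact centralizer_le_normalizer _ hr'F
    · obtain ⟨f', hf', rfl⟩ := (K.l3.fc hA.symm).trE M₀ M hM₀ hM hM₀F e
      refine cj_eq_self_iff.1 ?_
      rw [← cj_mul, ← mem_centralizer_iff.1 hr'F f' hf', cj_mul, hr'M]
  have hcomm : ∀ {H : Subgroup G} {g y : G}, g ∈ N[H] → y ∈ H → g * y * g⁻¹ * y⁻¹ ∈ H :=
    fun hg hy => mul_mem ((mem_normalizer_iff.1 hg _).1 hy) (inv_mem hy)
  have hr'cE : ∀ e ∈ EE a x, e * r' = r' * e := by
    intro e he
    by_cases e1 : e = 1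
    · rw [e1, one_mul, mul_one]
    obtain ⟨M, hM, heM⟩ := (K.l3.fa hA).cov e he e1
    by_cases eM : M = F
    · rw [eM] at heM; exact mem_centralizer_iff.1 hr'F e heM
    have h1 : r' * e * r'⁻¹ * e⁻¹ ∈ F := by
      refine h.p2a.fj hP _ (hR.reg _ ?_ a haF (haE (hcomm hr'E he))) ?_
      · have := (mem_normalizer_iff.1 (hR.nrm (hEF he)) _).1 (R.inv_mem hr'R)
        simpa only [mul_assoc] using R.mul_mem hr'R this
      · have h2 : e ∈ N[C[F]] := cj_eq_self_iff.1 (by rw [cj_centralizer, cj_eq_self (hEF he)])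
        have := (mem_normalizer_iff.1 h2 _).1 (inv_mem hr'F)
        simpa only [mul_assoc] using mul_mem hr'F this
    have h2 : r' * e * r'⁻¹ * e⁻¹ ∈ M ⊓ F := ⟨hcomm (hall M hM.symm) heM, h1⟩
    rw [K.ka.infBot hM.vr (K.ka.sameAdj hM.symm hA.symm) eM, mem_bot] at h2
    calc e * r' = (r' * e * r'⁻¹ * e⁻¹)⁻¹ * (r' * e) := by group
      _ = r' * e := by rw [h2, inv_one, one_mul]
  have hr'U : EE a x ⊔ F ≤ centralizer {r'} :=
    sup_le (fun e he => mem_centralizer_singleton_iff.2 (hr'cE e he))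
      (fun y hy => mem_centralizer_singleton_iff.2 (mem_centralizer_iff.1 hr'F y hy))
  have hr'cU : r' ∈ C[EE a x ⊔ F] := mem_centralizer_iff.2 fun y hy =>
    mem_centralizer_singleton_iff.1 (hr'U hy)
  have hr2 : r' * r' ∈ EE a x ⊓ F := by
    rw [← K.ka.cenU hA]
    exact ⟨mem_sup_right (h.p2a.fj hP _ (hR.sq r' hr'R) (mul_mem hr'F hr'F)), mul_mem hr'cU hr'cU⟩
  have hSE : SS (NN a) q (EE a x) ≤ N[EE a x] :=
    SS_le fun M hM => le_sup_left.trans (K.ka.nE hM)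
  have hd : ∀ s ∈ SS (NN a) q (EE a x), s * r' * s⁻¹ * r'⁻¹ ∈ EE a x := by
    intro s hsS
    obtain ⟨X, hX, hXF, -⟩ := K.ka.third hA.symm hA.symm
    obtain ⟨Y, hY, hYF, hYX⟩ := K.ka.third hA.symm hX
    have hn : ∀ M, Adj (NN a) q M (EE a x) → s * r' * s⁻¹ * r'⁻¹ ∈ N[M] := fun M hM => by
      refine mul_mem (cj_eq_self_iff.1 ?_) (inv_mem (hall M hM))
      rw [cj_mul, cj_mul, cj_eq_self (hall _ (hperm _ (inv_mem (hSE hsS)) M hM)), ← cj_mul,
        mul_inv_cancel, cj_one]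
    refine (K.l3.fd hA.symm).three _ ?_ X Y hX hY hXF hYF hYX.symm (hn F hA.symm) (hn X hX) (hn Y hY)
    have := (mem_normalizer_iff.1 (hnS r' hr'E) _).1 (inv_mem hsS)
    simpa only [mul_assoc] using mul_mem hsS this
  have hUS : EE a x ⊔ F ≤ SS (NN a) q (EE a x) := sup_le (K.ka.leSS hA.vl) hA.symm.le_SS
  have hodd : Odd ((EE a x ⊔ F).subgroupOf (SS (NN a) q (EE a x))).index := by
    have h1 := ((EE a x ⊔ F).subgroupOf (SS (NN a) q (EE a x))).card_mul_index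
    rw [Nat.card_congr (subgroupOfEquivOfLe hUS).toEquiv, (K.l3.fb hA).cardU,
      (K.l3.fe hA.symm).cardS] at h1
    have h2 := K.l3.two_le
    rw [Nat.eq_of_mul_eq_mul_left (by positivity) h1]
    obtain ⟨m, hm, rfl⟩ := K.l3.pow
    refine Nat.Even.sub_odd (Nat.one_le_pow _ _ (by positivity)) ?_ odd_one
    exact (Nat.even_pow' two_ne_zero).2 ((Nat.even_pow' (by omega)).2 even_two)
  obtain ⟨e, he, hτ⟩ := avg (SS (NN a) q (EE a x)) (EE a x ⊔ F) (EE a x) r' hodd hA.vl.sq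
    (fun _ hx _ hy => hA.vl.comm hx hy) (fun s hs y hy => (mem_normalizer_iff.1 (hSE hs) y).1 hy) hd
    (fun u hu => mem_centralizer_singleton_iff.1 (hr'U hu))
  have hτS : e * r' ∈ C[SS (NN a) q (EE a x)] := mem_centralizer_iff.2 hτ
  have hτU : e * r' ∈ C[EE a x ⊔ F] := centralizer_le (by exact hUS) hτS
  have heF : e ∈ EE a x ⊓ F := by
    rw [← K.ka.cenU hA]
    have := mul_mem hτU (inv_mem hr'cU)
    rw [mul_inv_cancel_right] at this
    exact ⟨mem_sup_left he, this⟩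
  refine ⟨e * r', R.mul_mem (hFR heF.2) hr'R, mul_mem (hFc heF.2) hr'F, hτS, ?_, ?_⟩
  · rw [mul_smul, hr'a]; exact hx heF.2
  have h1 : e * r' * (e * r') = r' * r' := by
    calc e * r' * (e * r') = e * (r' * e) * r' := by group
      _ = e * e * (r' * r') := by rw [← hr'cE e he]; group
      _ = _ := by rw [hA.vl.sq e he, one_mul]
  by_contra hne
  apply hA.ne
  refine eq_of_le_of_card_ge (fun t ht => ?_) (by rw [hA.vl.card, hA.vr.card])
  by_cases t1 : t = 1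
  · rw [t1]; exact F.one_mem
  obtain ⟨g, hg, hgt⟩ := (K.l3.fd hA.symm).trS _ (h1 ▸ hr2.1) t ht hne t1
  rw [mem_centralizer_iff.1 (mul_mem hτS hτS) g hg, mul_inv_cancel_right, h1] at hgt
  rw [← hgt]; exact hr2.2

end Cfsg.Agent.H38.HLP7
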