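import Cfsg.Agent.H76.HBDefs2
import Cfsg.Agent.H9.InvCount
import Cfsg.Agent.H3.Cores

/-!
Project HB, piece S1: if an involution of `N^a` fixes `b`, then `N^a ∩ N^b` has even order.
-/

set_option autoImplicit false
set_option linter.unusedSectionVars false

namespace Cfsg.Agent.H38.HbS1

open MulAction Subgroup Cfsg.Agent.H83 Cfsg.Agent.H56.TT Cfsg.Agent.H76.HB
open scoped Cfsg.Agent.H63

universe u v

variable {G : Type u} [Group G]

theorem mem_of_sq {H : Subgroup G} {y : G} (ho : Odd (orderOf y)) (h : y * y ∈ H) : y ∈ H := by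
  obtain ⟨k, hk⟩ := ho
  have e : y = ((y * y) ^ k)⁻¹ := by
    rw [eq_inv_iff_mul_eq_one, ← pow_two, ← pow_mul, ← pow_succ', ← hk, pow_orderOf_eq_one]
  rw [e]
  exact H.inv_mem (H.pow_mem h k)

theorem ord_two {z : G} (h1 : z ≠ 1) (h2 : z * z = 1) : orderOf z = 2 :=
  orderOf_eq_prime (by rwa [pow_two]) h1

theorem sq_of_ord {z : G} (h : orderOf z = 2) : z * z = 1 := by
  rw [← pow_two, ← h, pow_orderOf_eq_one]

theorem ne_of_ord {z : G} (h : orderOf z = 2) : z ≠ 1 := by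
  rintro rfl
  simp at h

/-- An element of odd order fixing an involution of a group of order four centralizes it. -/
theorem cent_four [Finite G] {P : Subgroup G} (hP : Nat.card P = 4) {u y : G} (hu : u ∈ P)
    (h2 : orderOf u = 2) (hy : y ∈ N[P]) (hc : y * u = u * y) (ho : Odd (orderOf y)) :
    y ∈ C[P] := by
  have hle : zpowers u ≤ P := (zpowers_le).2 hu
  have hi : ((zpowers u).subgroupOf P).index = 2 := by
    have := ((zpowers u).subgroupOf P).card_mul_index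
    rw [H3.card_subgroupOf, inf_eq_left.2 hle, Nat.card_zpowers, h2, hP] at this
    omega
  have hz : ∀ r ∈ zpowers u, y * r * y⁻¹ = r := by
    rintro _ ⟨k, rfl⟩
    rw [mul_inv_eq_iff_eq_mul]
    exact (Commute.zpow_right hc k).eq
  refine mem_of_sq ho (memC.2 fun s hs => ?_)
  have hr : s⁻¹ * (y * s * y⁻¹) ∈ zpowers u := by
    have := (mul_mem_iff_of_index_two hi (a := ⟨s⁻¹, P.inv_mem hs⟩)
      (b := ⟨y * s * y⁻¹, nconj hy hs⟩)).2 (by
        simp only [mem_subgroupOf, inv_mem_iff]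
        refine ⟨fun e => by rwa [hz s e], fun e => ?_⟩
        have e2 := hz _ e
        rwa [mul_left_cancel (mul_right_cancel e2)] at e)
    exact this
  have hr2 : s⁻¹ * (y * s * y⁻¹) * (s⁻¹ * (y * s * y⁻¹)) = 1 := by
    obtain ⟨k, hk⟩ := hr
    rw [← hk]
    change u ^ k * u ^ k = 1
    rw [← (Commute.refl u).mul_zpow, sq_of_ord h2, one_zpow]
  have e := hz _ hr
  calc s * (y * y) = s * (s⁻¹ * (y * s * y⁻¹) * (s⁻¹ * (y * s * y⁻¹))) * (y * y) := by
        rw [hr2, mul_one]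
    _ = y * s * y⁻¹ * (y * (s⁻¹ * (y * s * y⁻¹)) * y⁻¹) * (y * y) := by rw [e]; group
    _ = _ := by group

/-- Two commuting elements of the same odd order in a simple group of order sixty. -/
theorem mem_zpowers_sixty [Finite G] {N : Subgroup G} (hs : IsSimpleGroup N)
    (hN : Nat.card N = 60) {y e : G} (hy : y ∈ N) (he : e ∈ N) (h1 : e ≠ 1)
    (hc : y * e = e * y) (ho : Odd (orderOf y)) (ho' : Odd (orderOf e)) : y ∈ zpowers e := by
  have hle : zpowers y ⊔ zpowers e ≤ N := sup_le (zpowers_le.2 hy) (zpowers_le.2 he)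
  have hd := H3.card_sup_dvd_of_le_normalizer (H := zpowers y) (N := zpowers e)
    (zpowers_le.2 (memN_of (by
      rintro _ ⟨k, rfl⟩
      refine ⟨k, ?_⟩
      rw [eq_mul_inv_iff_mul_eq]
      exact (Commute.zpow_right hc k).eq.symm)))
  rw [Nat.card_zpowers, Nat.card_zpowers] at hd
  have hodd : Odd (Nat.card ↥(zpowers y ⊔ zpowers e)) := Odd.of_dvd_nat (ho.mul ho') hd
  have h60 := card_dvd_of_le hle
  have he1 : Nat.card (zpowers e) ∣ Nat.card ↥(zpowers y ⊔ zpowers e) :=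
    card_dvd_of_le le_sup_right
  have he2 : Nat.card (zpowers e) ≠ 1 := by
    rw [Nat.card_zpowers]
    exact fun e => h1 (orderOf_eq_one_iff.1 e)
  have h15 : Nat.card ↥(zpowers y ⊔ zpowers e) ≠ 15 := by
    intro e15
    have hi := ((zpowers y ⊔ zpowers e).subgroupOf N).card_mul_index
    rw [H3.card_subgroupOf, inf_eq_left.2 hle, e15, hN] at hi
    have hi' : ((zpowers y ⊔ zpowers e).subgroupOf N).index = 4 := by omega
    have := H9.card_dvd_factorial_index (H := (zpowers y ⊔ zpowers e).subgroupOf N)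
      (fun e => by rw [e, index_top] at hi'; omega)
    rw [hN, hi'] at this
    revert this
    decide
  have key : Nat.card ↥(zpowers y ⊔ zpowers e) ≤ Nat.card (zpowers e) := by
    rw [hN] at h60
    generalize Nat.card ↥(zpowers y ⊔ zpowers e) = k at *
    generalize Nat.card (zpowers e) = m at *
    have hk : k ≤ 60 := Nat.le_of_dvd (by norm_num) h60
    have hk' : k = 1 ∨ k = 3 ∨ k = 5 := by
      obtain ⟨j, rfl⟩ := hodd
      have : j ≤ 29 := by omega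
      interval_cases j <;> simp_all
    rcases hk' with rfl | rfl | rfl
    · exact (he2 (Nat.dvd_one.1 he1)).elim
    · exact (((Nat.dvd_prime Nat.prime_three).1 he1).resolve_left he2).ge
    · exact (((Nat.dvd_prime Nat.prime_five).1 he1).resolve_left he2).ge
  rw [eq_of_le_of_card_ge le_sup_right key]
  exact mem_sup_left (mem_zpowers y)

variable [Finite G] {Ω : Type v} [MulAction G Ω] [FaithfulSMul G Ω] {NN : Ω → Subgroup G}
  {q i : ℕ}

/-- No involution lies in two of the groups. -/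
def NG (NN : Ω → Subgroup G) : Prop :=
  ∀ x y, x ≠ y → ∀ z ∈ NN x, z ∈ NN y → z * z = 1 → z = 1

theorem NG.fix (hn : NG NN) (h : St NN q i) {x : Ω} {z g : G} (hz : z ∈ NN x) (h1 : z ≠ 1)
    (h2 : z * z = 1) (hc : g * z = z * g) : g • x = x := by
  by_contra e
  have := h.conj g hz
  rw [hc, mul_inv_cancel_right] at this
  exact h1 (hn _ _ e z this hz h2)

theorem NG.two (hn : NG NN) {x y : Ω} (hxy : x ≠ y) {s : G} (h1 : s ∈ NN x) (h2 : s ∈ NN y) :
    ∀ k : ℕ, s ^ 2 ^ k = 1 → s = 1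
  | 0, e => by simpa using e
  | k + 1, e => hn.two hxy h1 h2 k (hn x y hxy _ (pow_mem h1 _) (pow_mem h2 _)
      (by rw [← pow_two, ← pow_mul, ← pow_succ, e]))

theorem NG.comm (hn : NG NN) {x y : Ω} (hxy : x ≠ y) {P P' : Subgroup G} (hP : Syl (NN x) P)
    (hP' : Syl (NN y) P') {s t : G} (hs : s ∈ P) (ht : t ∈ P') (hs' : s ∈ N[P']) (ht' : t ∈ N[P]) :
    s * t = t * s := by
  have h1 : s * (t * s⁻¹ * t⁻¹) ∈ P := mul_mem hs (nconj ht' (P.inv_mem hs))
  have h2 : s * (t * s⁻¹ * t⁻¹) ∈ P' := by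
    have := mul_mem (nconj hs' ht) (P'.inv_mem ht)
    rwa [show s * t * s⁻¹ * t⁻¹ = s * (t * s⁻¹ * t⁻¹) by group] at this
  obtain ⟨k, hk⟩ := hP.isPGroup ⟨_, h1⟩
  have := hn.two hxy (hP.le h1) (hP'.le h2) k (congrArg Subtype.val hk)
  calc s * t = s * (t * s⁻¹ * t⁻¹) * (t * s) := by group
    _ = _ := by rw [this, one_mul]

theorem norm_of_fix (h : St NN q i) {x y : Ω} (hxy : x ≠ y) {T : Subgroup G} (hT : Syl (NN x) T)
    (hf : T ≤ stabilizer G y) {g : G} (h1 : g • x = x) (h2 : g • y = y) : g ∈ N[T] := by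
  refine cj_eq_self_iff.1 (h.uniq hxy.symm hT (hT.cj_of_norm (h.norm h1)) hf fun s hs => ?_)
  have := hf (mem_cj.1 hs)
  rw [mem_stabilizer_iff, mul_smul, mul_smul, h2, inv_smul_eq_iff, h2] at this
  exact this

section caseA
variable (a6 : A6Stmt.{u}) (h : St NN q i) (hn : NG NN)
  (hT : ∀ x y, x ≠ y → ∃ T, Syl (NN x) T ∧ T ≤ stabilizer G y)
include a6 h hn hT

theorem decA {a b : Ω} (hab : a ≠ b) {P P' : Subgroup G} (hP : Syl (NN a) P)
    (hPb : P ≤ stabilizer G b) (hP' : Syl (NN b) P') (hPa : P' ≤ stabilizer G a) {t : G}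
    (ht : t ∈ P) (h1 : t ≠ 1) (h2 : t * t = 1) :
    ∃ z ∈ P', z⁻¹ * t ∈ C[NN b] ∧ ∀ x : Ω, t • x = x → P' ≤ stabilizer G x := by
  have hc : t ∈ C[P'] := memC.2 fun s hs => (hn.comm hab hP hP' ht hs
    (norm_of_fix h hab.symm hP' hPa (hPb ht) (h.fx (hP.le ht)))
    (norm_of_fix h hab hP hPb (hPa hs) (h.fx (hP'.le hs)))).symm
  obtain ⟨z, hz, hc'⟩ := a6 G _ P' q i (h.bs b) hP' t (h.norm (hPb ht)) hc
  have hz1 : z ≠ 1 := by
    rintro rfl
    rw [inv_one, one_mul] at hc'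
    exact hab (h.only fun n hn' => hn.fix h (hP.le ht) h1 h2 (memC.1 hc' n hn'))
  refine ⟨z, hz.1, hc', fun x hx => ?_⟩
  by_cases e : b = x
  · exact e ▸ hP'.le.trans (h.fix b)
  obtain ⟨T, hT1, hT2⟩ := hT b x e
  have e2 : cj z T = T := by
    refine h.uniq (Ne.symm e) hT1 (hT1.cj_of_mem (hP'.le hz.1)) hT2 fun s hs => ?_
    have h3 := mem_cj.1 hs
    have h4 := memC.1 hc' _ (hT1.le h3)
    have h5 : (z⁻¹ * s * z * (z⁻¹ * t)) • x = (z⁻¹ * t) • x := by
      rw [h4, mul_smul _ _ x, hT2 h3]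
    rw [show z⁻¹ * s * z * (z⁻¹ * t) = z⁻¹ * (s * t) by group, mul_smul, mul_smul, mul_smul, hx,
      smul_left_cancel_iff] at h5
    exact h5
  by_cases e3 : T = P'
  · exact e3 ▸ hT2
  · exact (hz1 ((h.bs b).reg hP' hT1 e3 hz.1 (cj_eq_self_iff.1 e2))).elim

theorem caseA {a b : Ω} (hab : a ≠ b) : False := by
  obtain ⟨P, hP, hPb⟩ := hT a b hab
  obtain ⟨P', hP', hPa⟩ := hT b a hab.symm
  obtain ⟨t, ht, h1⟩ := (h.bs a).exists_z hP
  obtain ⟨t', ht', h1'⟩ := (h.bs b).exists_z hP'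
  have h2 := (h.bs a).zsq hP ht
  obtain ⟨z, hz, hc, -⟩ := decA a6 h hn hT hab hP hPb hP' hPa ht.1 h1 h2
  obtain ⟨-, -, -, hL⟩ := decA a6 h hn hT hab.symm hP' hPa hP hPb ht'.1 h1'
    ((h.bs b).zsq hP' ht')
  have e : z⁻¹ * t = 1 := eq_of_smul_eq_smul (α := Ω) fun x => by
    rw [one_smul]
    by_cases e : b = x
    · exact e ▸ h.fix_of_C hc
    obtain ⟨T, hT1, hT2⟩ := hT b x e
    obtain ⟨n, hn', rfl⟩ := hP'.exists_conj hT1
    have hf : ∀ s ∈ P', s • n⁻¹ • x = n⁻¹ • x := fun s hs => by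
      have := hT2 (conj_mem_cj (g := n) hs)
      rwa [mem_stabilizer_iff, mul_smul, mul_smul, smul_eq_iff_eq_inv_smul] at this
    have h3 : (z⁻¹ * t) • n⁻¹ • x = n⁻¹ • x := by
      rw [mul_smul, hL _ (hf t' ht'.1) ht.1, hf _ (P'.inv_mem hz)]
    rwa [← mul_smul, ← memC.1 hc _ ((NN b).inv_mem hn'), mul_smul, smul_left_cancel_iff] at h3
  rw [inv_mul_eq_one] at e
  exact h1 (hn a b hab t (hP.le ht.1) (e ▸ hP'.le hz) h2)

end caseA

section caseB
variable (h : St NN q i) (hn : NG NN)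
  (hT : ∀ x y, x ≠ y → ∀ T, Syl (NN x) T → ¬ T ≤ stabilizer G y)
include h hn hT

theorem not_cent {a b : Ω} (hab : a ≠ b) {P : Subgroup G} (hP : Syl (NN a) P) {v : G}
    (hv : v ∈ NN b) (h1 : v ≠ 1) (h2 : v * v = 1) : v ∉ C[P] := fun e =>
  hT a b hab P hP fun s hs => hn.fix h hv h1 h2 (memC.1 e s hs)

theorem uniq_inv (o1 : O1Stmt.{u}) {a b : Ω} (hab : a ≠ b) {P P' : Subgroup G}
    (hP : Syl (NN a) P) (hP' : Syl (NN b) P') {v w : G} (hv : v ∈ P') (hw : w ∈ P')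
    (hva : v • a = a) (hwa : w • a = a) (hvP : v ∈ N[P]) (hwP : w ∈ N[P]) (v1 : v ≠ 1)
    (w1 : w ≠ 1) (v2 : v * v = 1) (w2 : w * w = 1) : v = w := by
  have h3 : v * w * (v * w) = 1 := (h.bs b).zsq hP'
    (mul_mem (((h.bs b).om hP' hv).1 v2) (((h.bs b).om hP' hw).1 w2))
  rcases o1 G _ P q i (h.bs a) hP v (h.norm hva) w (h.norm hwa) hvP hwP v2 w2 h3 with e | e | e
  · exact (not_cent h hn hT hab hP (hP'.le hv) v1 v2 e).elim
  · exact (not_cent h hn hT hab hP (hP'.le hw) w1 w2 e).elim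
  · by_contra hne
    refine not_cent h hn hT hab hP (hP'.le (mul_mem hv hw)) (fun e1 => hne ?_) h3 e
    exact mul_left_cancel (v2.trans e1.symm)

omit hn hT in
theorem exists_part (hE : Ev NN) {a b : Ω} (hab : a ≠ b) {W : Subgroup G}
    (hW : IsSylowIn 2 W (stabilizer G a ⊓ stabilizer G b)) :
    ∃ P, Syl (NN a) P ∧ W ≤ N[P] ∧ (∀ s ∈ P, s • b = b → s ∈ W) ∧
      ∃ u ∈ P, u ∈ W ∧ u ≠ 1 ∧ u * u = 1 := by
  have hU := hW.inf_normal (N := NN a ⊓ stabilizer G b) (inf_le_inf_right _ (h.fix a))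
    fun g hg => memN_of fun x hx => ⟨nconj (h.norm hg.1) hx.1,
      mul_mem (mul_mem hg.2 hx.2) ((stabilizer G b).inv_mem hg.2)⟩
  obtain ⟨P, hP, hUP⟩ := exists_isSylowIn_ge (p := 2) (H := NN a)
    (hU.le.trans inf_le_left) hU.isPGroup
  obtain ⟨z, hz, h2, hzb⟩ := hE a b hab
  have hz2 : IsPGroup 2 (zpowers z) := IsPGroup.of_card (n := 1) (by rw [Nat.card_zpowers, h2]; rfl)
  obtain ⟨g, -, hg⟩ := hU.exists_conj_le (P := zpowers z) (zpowers_le.2 ⟨hz, hzb⟩) hz2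
  have hu := hg (conj_mem_cj (g := g) (mem_zpowers z))
  have h1 : g * z * g⁻¹ ≠ 1 := fun e => ne_of_ord h2 (by simpa using e)
  refine ⟨P, hP, fun w hw => ?_, fun s hs hsb => ?_, _, hUP hu, hu.1, h1, ?_⟩
  · refine (h.bs a).normP hP (h.norm (hW.le hw).1) (hUP hu) h1 (hUP ⟨?_, ?_, ?_⟩)
    · exact mul_mem (mul_mem hw hu.1) (W.inv_mem hw)
    · exact nconj (h.norm (hW.le hw).1) hu.2.1
    · exact mul_mem (mul_mem (hW.le hw).2 hu.2.2) ((stabilizer G b).inv_mem (hW.le hw).2)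
  · have e := hU.max (P ⊓ stabilizer G b) (inf_le_inf_right _ hP.le) hP.isPGroup.to_inf_left
      (le_inf hUP (inf_le_right.trans inf_le_right))
    have : s ∈ P ⊓ stabilizer G b := ⟨hs, hsb⟩
    rw [e] at this
    exact this.1
  · rw [show g * z * g⁻¹ * (g * z * g⁻¹) = g * (z * z) * g⁻¹ by group, sq_of_ord h2]
    group

theorem caseB (a6 : A6Stmt.{u}) (a8 : A8Stmt.{u}) (o1 : O1Stmt.{u}) (hE : Ev NN) {a b : Ω}
    (hab : a ≠ b) : False := by
  obtain ⟨W, hW⟩ := exists_isSylowIn 2 (stabilizer G a ⊓ stabilizer G b)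
  obtain ⟨P, hP, hWP, hPW, u, huP, huW, u1, u2⟩ := exists_part h hE hab hW
  obtain ⟨P', hP', hWP', -, u', huP', huW', u1', u2'⟩ :=
    exists_part h hE hab.symm (W := W) (by rwa [inf_comm])
  have hcm : u * u' = u' * u := hn.comm hab hP hP' huP huP' (hWP' huW) (hWP huW')
  have hu'a : u' ∈ N[NN a] := h.norm (hW.le huW').1
  have hnc := not_cent h hn hT hab hP (hP'.le huP') u1' u2'
  have hZ : ∀ z ∈ zz P, z * u' = u' * z → z = 1 ∨ z = u := fun z hz e => by
    by_cases z1 : z = 1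
    · exact Or.inl z1
    have hzb := hn.fix h (hP'.le huP') u1' u2' e
    exact Or.inr (uniq_inv h hn hT o1 hab.symm hP' hP hz.1 huP hzb (hW.le huW).2
      (hWP' (hPW z hz.1 hzb)) (hWP' huW) z1 u1 ((h.bs a).zsq hP hz) u2)
  have hZ2 : zz P ⊓ C1[u'] = zpowers u := by
    refine le_antisymm (fun z hz => ?_) (zpowers_le.2 ⟨((h.bs a).om hP huP).1 u2, memC1.2 hcm⟩)
    rcases hZ z hz.1 (memC1.1 hz.2) with rfl | rfl
    · exact one_mem _
    · exact mem_zpowers _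
  have hZ3 : Nat.card ↥(zz P ⊓ C1[u']) = 2 := by rw [hZ2, Nat.card_zpowers, ord_two u1 u2]
  obtain ⟨k1, k3⟩ := a8 G _ P q i (h.bs a) hP u' hu'a (hWP huW') u2' hnc
  have h4 := (h.bs a).four_le
  have i3 : i ≠ 3 := fun e => by
    rw [inf_eq_left.2 fun z hz => memC1.2 (memC.1 (k3 e) z hz), (h.bs a).cardZ hP] at hZ3
    omega
  have q4 : q = 4 := by rw [← k1 i3, hZ3]; rfl
  have i1 : i = 1 := by
    rcases (h.bs a).ty with e | e | e
    · exact e
    · omega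
    · exact (i3 e).elim
  have hzP := (h.bs a).zz_eq hP i1
  have hsq : ∀ s ∈ P, s * s = 1 := fun s hs => (h.bs a).zsq hP (hzP.symm ▸ hs)
  have hab' : ∀ s ∈ P, ∀ t ∈ P, s * t = t * s := fun s hs t ht =>
    (mem_zz.1 (hzP.symm ▸ ht)).2 s hs
  obtain ⟨P1, hP1, hne, hN1⟩ : ∃ P1, Syl (NN a) P1 ∧ P1 ≠ P ∧ u' ∈ N[P1] := by
    obtain ⟨Q, hQ, hQP⟩ := (h.bs a).ne P hP
    obtain ⟨t, ht, hy⟩ := (h.bs a).dec hP hQ hQP hu'a (hWP huW')
    have hu'i : u'⁻¹ = u' := inv_eq_of_mul_eq_one_right u2'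
    have hy2 : t⁻¹ * u' * (t⁻¹ * u') = 1 := by
      refine (h.bs a).reg hP hQ hQP ?_ (mul_mem hy hy)
      have := mul_mem (P.inv_mem ht) (nconj (hWP huW') (P.inv_mem ht))
      rwa [hu'i, ← mul_assoc, ← mul_assoc, mul_assoc (t⁻¹ * u')] at this
    have htc : t * u' = u' * t := by
      rw [inv_eq_of_mul_eq_one_right (hsq t ht)] at hy2
      calc t * u' = (t * u')⁻¹ := (inv_eq_of_mul_eq_one_right hy2).symm
        _ = _ := by rw [mul_inv_rev, hu'i, inv_eq_of_mul_eq_one_right (hsq t ht)]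
    rcases hZ t (hzP.symm ▸ ht) htc with rfl | rfl
    · exact ⟨Q, hQ, hQP, by simpa using hy⟩
    obtain ⟨s, hs, hsc⟩ : ∃ s ∈ P, s * u' ≠ u' * s := by
      by_contra! e
      exact hnc (memC.2 e)
    have hr : s⁻¹ * (u' * s * u'⁻¹) ∈ P := mul_mem (P.inv_mem hs) (nconj (hWP huW') hs)
    have hrc : s⁻¹ * (u' * s * u'⁻¹) * u' = u' * (s⁻¹ * (u' * s * u'⁻¹)) := by
      have e1 := hab' _ hs _ (nconj (hWP huW') hs)
      rw [inv_eq_of_mul_eq_one_right (hsq s hs), hu'i] at *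
      calc s * (u' * s * u') * u' = s * u' * s * (u' * u') := by group
        _ = (u' * u') * s * u' * s := by rw [u2']; group
        _ = u' * (u' * s * u' * s) := by group
        _ = _ := by rw [← e1]
    rcases hZ _ (hzP.symm ▸ hr) hrc with e | e
    · exact (hsc (by
        rw [inv_mul_eq_one, eq_mul_inv_iff_mul_eq] at e
        exact e)).elim
    · refine ⟨cj s Q, hQ.cj_of_mem (hP.le hs), fun e2 => hQP ?_, ?_⟩
      · rw [← cj_eq_self (le_normalizer hs)] at e2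
        exact cj_inj.1 e2
      · rw [inv_eq_of_mul_eq_one_right u2] at hy
        rw [← cj_eq_self_iff, ← cj_mul, show u' * s = s * (s⁻¹ * (u' * s * u'⁻¹) * u') by group, e,
          cj_mul, cj_eq_self hy]
  have hu2 : IsPGroup 2 (zpowers u') :=
    IsPGroup.of_card (n := 1) (by rw [Nat.card_zpowers, ord_two u1' u2']; rfl)
  obtain ⟨w, hw, w1, hwc⟩ := exists_cent hu2 hP1.isPGroup (zpowers_le.2 hN1) (by
    obtain ⟨z, hz, z1⟩ := (h.bs a).exists_z hP1
    exact fun e => z1 (mem_bot.1 (e ▸ hz.1)))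
  have hwc' := hwc u' (mem_zpowers u')
  have w2 : w * w = 1 := (h.bs a).zsq hP1 (((h.bs a).zz_eq hP1 i1).symm ▸ hw)
  have hwb := hn.fix h (hP'.le huP') u1' u2' hwc'.symm
  have ho := (h.bs a).odd_mul hP hP1 hne huP hw (ord_two u1 u2) (ord_two w1 w2)
  have y1 : u * w ≠ 1 := fun e => hne ((h.bs a).ti _ _ hP1 hP w hw
    (by rw [eq_inv_of_mul_eq_one_right e]; exact P.inv_mem huP) w1)
  have hyc : u * w * u' = u' * (u * w) := by rw [mul_assoc, ← hwc', ← mul_assoc, hcm, mul_assoc]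
  have hya : u * w ∈ NN a := mul_mem (hP.le huP) (hP1.le hw)
  have hyb : u * w ∈ N[NN b] := h.norm (by rw [mul_smul, hwb]; exact (hW.le huW).2)
  generalize u * w = y at ho y1 hyc hya hyb
  have hyP : y ∈ C[P'] := cent_four (by rw [(h.bs b).cardP hP', q4, i1]; rfl) huP'
    (ord_two u1' u2') ((h.bs b).normP' hP' hyb huP' u1' hyc) hyc ho
  obtain ⟨z, hz, hc⟩ := a6 G _ P' q i (h.bs b) hP' y hyb hyP
  have hyC : y ∈ C[NN b] := by
    refine mem_of_sq ho ?_
    have e1 := memC.1 hc z (hP'.le hz.1)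
    have e2 : y * y = z⁻¹ * y * (z⁻¹ * y) := by
      calc y * y = z * (z⁻¹ * y) * (z * (z⁻¹ * y)) := by group
        _ = z * (z⁻¹ * y * z) * (z⁻¹ * y) := by group
        _ = z * z * (z⁻¹ * y) * (z⁻¹ * y) := by rw [← e1]; group
        _ = _ := by rw [(h.bs b).zsq hP' hz, one_mul]
    rw [e2]
    exact mul_mem hc hc
  obtain ⟨n, hn', hna⟩ : ∃ n ∈ NN b, n • a ≠ a := by
    by_contra! e
    exact hab (h.only e)
  obtain ⟨g, g1, g2⟩ := h.two a (n • a) a b hna.symm hab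
  have hy' : y ∈ NN (n • a) := by
    have := h.conj n hya
    rwa [memC.1 hyC n hn', mul_inv_cancel_right] at this
  have he1 := h.conj g hya
  have he2 := h.conj g hy'
  rw [g1] at he1
  rw [g2] at he2
  have := mem_zpowers_sixty (h.bs a).simple ((h.bs a).c60 i1 q4) hya he1
    (fun e => y1 (by simpa using e)) (memC.1 hyC _ he2).symm ho
    (by rwa [show g * y * g⁻¹ = MulAut.conj g y from rfl, MulEquiv.orderOf_eq])
  exact y1 ((h.bs b).zc (zpowers_le.2 he2 this) hyC)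

end caseB

theorem s1 : S1Task.{u, v} := by
  intro a6 a8 o1 G Ω _ _ _ _ _ NN q i h hE a b hab
  by_contra hG
  have hn : NG NN := fun x y hxy z hx hy h2 => by
    by_contra h1
    obtain ⟨g, rfl, rfl⟩ := h.two x y a b hxy hab
    refine hG ⟨_, h.conj g hx, ?_, h.conj g hy⟩
    rw [show g * z * g⁻¹ = MulAut.conj g z from rfl, MulEquiv.orderOf_eq, ord_two h1 h2]
  by_cases hT : ∀ x y, x ≠ y → ∀ T, Syl (NN x) T → ¬ T ≤ stabilizer G y
  · exact caseB h hn hT a6 a8 o1 hE hab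
  push Not at hT
  obtain ⟨c, d, hcd, T, hT1, hT2⟩ := hT
  refine caseA a6 h hn (fun x y hxy => ?_) hab
  obtain ⟨g, rfl, rfl⟩ := h.two c d x y hcd hxy
  refine ⟨_, h.syl g hT1, fun s hs => ?_⟩
  have := hT2 (mem_cj.1 hs)
  rwa [mem_stabilizer_iff, mul_smul, mul_smul, inv_smul_eq_iff] at this

end Cfsg.Agent.H38.HbS1
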