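import Mathlib
import Cfsg.Agent.H43.Cent
import Cfsg.Agent.H55.EjJ2
import Cfsg.Agent.H46.J2M

set_option autoImplicit false
set_option maxRecDepth 200000
set_option linter.style.longLine false

namespace Cfsg.Agent.H38.J2RJ

open Cfsg.Agent.H43 Cfsg.Agent.H17

theorem r_hn : NOk 100 := by decide

theorem r_hk : 100 ≤ 2 ^ 7 := by decide

noncomputable def r_g1 : Net := (Net.cons (nat_lit 1) (nat_lit 0x5000414004510401404010050) (Net.cons (nat_lit 2) (nat_lit 0x3313301130013200230302100) (Net.cons (nat_lit 4) (nat_lit 0xa0e0f030602050d00000204) (Net.cons (nat_lit 8) (nat_lit 0x500020026000400010000) (Net.cons (nat_lit 16) (nat_lit 0xca860000164800000001) (Net.cons (nat_lit 32) (nat_lit 0x100000000a4475800) (Net.cons (nat_lit 64) (nat_lit 0xeb4675a81) (Net.cons (nat_lit 32) (nat_lit 0x100000000a0275a09) (Net.cons (nat_lit 16) (nat_lit 0xca86000079b10000168e) (Net.cons (nat_lit 8) (nat_lit 0x93000d004e000300980018)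 (Net.cons (nat_lit 4) (nat_lit 0x5070f0c06040a0b01090d0a) (Net.cons (nat_lit 2) (nat_lit 0x20031203310233203032133) (Net.cons (nat_lit 1) (nat_lit 0x401101011041114151545505) Net.nil)))))))))))))

theorem r_g1_ok : Net.ok 100 r_g1 = true := by decide +kernel

noncomputable def r_g2 : Net := (Net.cons (nat_lit 1) (nat_lit 0x1151540104445000540510044) (Net.cons (nat_lit 2) (nat_lit 0x310320123012201220330120) (Net.cons (nat_lit 4) (nat_lit 0x70700010107090d050f010b) (Net.cons (nat_lit 8) (nat_lit 0xaf0088000e001b00100000) (Net.cons (nat_lit 16) (nat_lit 0x4caa000000500000000c) (Net.cons (nat_lit 32) (nat_lit 0x600000000ce920460) (Net.cons (nat_lit 64) (nat_lit 0xfcf978460) (Net.cons (nat_lit 32) (nat_lit 0x8000000004bc7846a) (Net.cons (nat_lit 16) (nat_lit 0x39af00007a010000d08f) (Net.cons (nat_lit 8) (nat_lit 0xb500e200ce007800d000e6) (Net.cons (nat_lit 4) (nat_lit 0x70d0b04030f0f0e0d07050f)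 (Net.cons (nat_lit 2) (nat_lit 0x1221300121212311033030131) (Net.cons (nat_lit 1) (nat_lit 0x1505501444544511454104100) Net.nil)))))))))))))

theorem r_g2_ok : Net.ok 100 r_g2 = true := by decide +kernel

noncomputable def r_g3 : Net := (Net.cons (nat_lit 1) (nat_lit 0x4441051014510014404154500) (Net.cons (nat_lit 2) (nat_lit 0x2101022110033333210201000) (Net.cons (nat_lit 4) (nat_lit 0xc0a040b0803060a020d0300) (Net.cons (nat_lit 8) (nat_lit 0x9b00900043002500340006) (Net.cons (nat_lit 16) (nat_lit 0xd0ab0000133900000002) (Net.cons (nat_lit 32) (nat_lit 0xe0000000012c4a030) (Net.cons (nat_lit 64) (nat_lit 0xd5bd4a232) (Net.cons (nat_lit 32) (nat_lit 0x10000000004bd89e5) (Net.cons (nat_lit 16) (nat_lit 0xc9f00000382c00000089) (Net.cons (nat_lit 8) (nat_lit 0xc009700ee003d0004001c) (Net.cons (nat_lit 4) (nat_lit 0x40801090008070302090b05) (Net.cons (nat_lit 2) (nat_lit 0x2020003102113021200311100)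 (Net.cons (nat_lit 1) (nat_lit 0x1050051100555010444110501) Net.nil)))))))))))))

theorem r_g3_ok : Net.ok 100 r_g3 = true := by decide +kernel

noncomputable def EH : List Net := [H55.EjJ2.q_g30, H55.EjJ2.q_g31, H55.EjJ2.q_g32, r_g3]

theorem EH_ok : okE 100 EH = true := (okE_cons.2 ⟨H55.EjJ2.q_g30_ok, (okE_cons.2 ⟨H55.EjJ2.q_g31_ok, (okE_cons.2 ⟨H55.EjJ2.q_g32_ok, (okE_cons.2 ⟨r_g3_ok, (okE_nil 100)⟩)⟩)⟩)⟩)

noncomputable def r_g4 : Net := (Net.cons (nat_lit 1) (nat_lit 0x400100000151044001554400) (Net.cons (nat_lit 2) (nat_lit 0x1223221101201000002320210) (Net.cons (nat_lit 4) (nat_lit 0x50c060708070d0a0a050e0c) (Net.cons (nat_lit 8) (nat_lit 0xd500cb006e0052009a0008) (Net.cons (nat_lit 16) (nat_lit 0x61560000a10800000000) (Net.cons (nat_lit 32) (nat_lit 0x37e10ca0) (Net.cons (nat_lit 64) (nat_lit 0xd77fb0ca0) (Net.cons (nat_lit 32) (nat_lit 0x7000000007fffffa0) (Net.cons (nat_lit 16) (nat_lit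 0x9bd60000f32100005ee4) (Net.cons (nat_lit 8) (nat_lit 0xbc000f00c700a4008c0014) (Net.cons (nat_lit 4) (nat_lit 0xd0808030c080d0a030604) (Net.cons (nat_lit 2) (nat_lit 0x3031133012230012111003020) (Net.cons (nat_lit 1) (nat_lit 0x4405441501141155444001100) Net.nil)))))))))))))

theorem r_g4_ok : Net.ok 100 r_g4 = true := by decide +kernel

noncomputable def r_g5 : Net := (Net.cons (nat_lit 1) (nat_lit 0x154101541054501501511040) (Net.cons (nat_lit 2) (nat_lit 0x1002030200102302103112010) (Net.cons (nat_lit 4) (nat_lit 0xb0a0b05000e0407080e0c00) (Net.cons (nat_lit 8) (nat_lit 0xc10058003400c600210003) (Net.cons (nat_lit 16) (nat_lit 0x6cf7000003a700000000) (Net.cons (nat_lit 32) (nat_lit 0x400000000a21084e0) (Net.cons (nat_lit 64) (nat_lit 0xdfa109ce3) (Net.cons (nat_lit 32) (nat_lit 0xa00000000ddbc34f7) (Net.cons (nat_lit 16) (nat_lit 0xddd500003057000092b2) (Net.cons (nat_lit 8) (nat_lit 0x440084008600ae001900b5)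 (Net.cons (nat_lit 4) (nat_lit 0x504060a010f07000a0004) (Net.cons (nat_lit 2) (nat_lit 0x3223012332002030122221300) (Net.cons (nat_lit 1) (nat_lit 0x544405444510011050005054) Net.nil)))))))))))))

theorem r_g5_ok : Net.ok 100 r_g5 = true := by decide +kernel

noncomputable def r_V6 : List Net := [r_g4, r_g5]

theorem r_V6_ok : okE 100 r_V6 = true := (okE_cons.2 ⟨r_g4_ok, (okE_cons.2 ⟨r_g5_ok, (okE_nil 100)⟩)⟩)

noncomputable def r_g8 : Net := (Net.cons (nat_lit 1) (nat_lit 0x1044044051145550115410040) (Net.cons (nat_lit 2) (nat_lit 0x2012302201330101201230120) (Net.cons (nat_lit 4) (nat_lit 0x4080102030f0b0803000400) (Net.cons (nat_lit 8) (nat_lit 0x1000f60050008000160000) (Net.cons (nat_lit 16) (nat_lit 0x2c28000020b200000000) (Net.cons (nat_lit 32) (nat_lit 0xf0000000044881370) (Net.cons (nat_lit 64) (nat_lit 0xffecf9770) (Net.cons (nat_lit 32) (nat_lit 0x400000000daf72cb2) (Net.cons (nat_lit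 16) (nat_lit 0x3b750000338d00002ec8) (Net.cons (nat_lit 8) (nat_lit 0xc300fb00f100e900a200c2) (Net.cons (nat_lit 4) (nat_lit 0x10f0d070c0c030f030c0b0a) (Net.cons (nat_lit 2) (nat_lit 0x2310311020201020221202) (Net.cons (nat_lit 1) (nat_lit 0x1450040155101014504411500) Net.nil)))))))))))))

theorem r_g8_ok : Net.ok 100 r_g8 = true := by decide +kernel

noncomputable def r_V9 : List Net := [H47.J2P.h_g49, r_g8]

theorem r_V9_ok : okE 100 r_V9 = true := (okE_cons.2 ⟨H47.J2P.h_g49_ok, (okE_cons.2 ⟨r_g8_ok, (okE_nil 100)⟩)⟩)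

noncomputable def r_V11 : List Net := [H47.J2P.h_g83, H47.J2P.h_g44]

theorem r_V11_ok : okE 100 r_V11 = true := (okE_cons.2 ⟨H47.J2P.h_g83_ok, (okE_cons.2 ⟨H47.J2P.h_g44_ok, (okE_nil 100)⟩)⟩)

noncomputable def r_V13 : List Net := [H47.J2P.h_a0, EvJ2.p_g11]

theorem r_V13_ok : okE 100 r_V13 = true := (okE_cons.2 ⟨H47.J2P.h_a0_ok, (okE_cons.2 ⟨EvJ2.p_g11_ok, (okE_nil 100)⟩)⟩)

noncomputable def r_V15 : List Net := [H47.J2P.h_a0, H47.J2P.h_g50]

theorem r_V15_ok : okE 100 r_V15 = true := (okE_cons.2 ⟨H47.J2P.h_a0_ok, (okE_cons.2 ⟨H47.J2P.h_g50_ok, (okE_nil 100)⟩)⟩)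

noncomputable def r_V17 : List Net := [H47.J2P.h_a0, H47.J2P.h_a0]

theorem r_V17_ok : okE 100 r_V17 = true := (okE_cons.2 ⟨H47.J2P.h_a0_ok, (okE_cons.2 ⟨H47.J2P.h_a0_ok, (okE_nil 100)⟩)⟩)

noncomputable def EHlb_E : List Net := [H55.EjJ2.q_g30, H55.EjJ2.q_g31, H55.EjJ2.q_g32, r_g3, r_g4, r_g5, H47.J2P.h_g49, r_g8, H47.J2P.h_g83, H47.J2P.h_g44, H47.J2P.h_a0, EvJ2.p_g11, H47.J2P.h_a0, H47.J2P.h_g50, H47.J2P.h_a0, H47.J2P.h_a0]

theorem EHlb_E_ok : okE 100 EHlb_E = true := (okE_cons.2 ⟨H55.EjJ2.q_g30_ok, (okE_cons.2 ⟨H55.EjJ2.q_g31_ok, (okE_cons.2 ⟨H55.EjJ2.q_g32_ok, (okE_cons.2 ⟨r_g3_ok, (okE_cons.2 ⟨r_g4_ok, (okE_cons.2 ⟨r_g5_ok, (okE_cons.2 ⟨H47.J2P.h_g49_ok, (okE_cons.2 ⟨r_g8_ok, (okE_cons.2 ⟨H47.J2P.h_g83_ok, (okE_cons.2 ⟨H47.J2P.h_g44_ok, (okE_cons.2 ⟨H47.J2P.h_a0_ok, (okE_cons.2 ⟨EvJ2.p_g11_ok, (okE_cons.2 ⟨H47.J2P.h_a0_ok, (okE_cons.2 ⟨H47.J2P.h_g50_ok, (okE_cons.2 ⟨H47.J2P.h_a0_ok, (okE_cons.2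 ⟨H47.J2P.h_a0_ok, (okE_nil 100)⟩)⟩)⟩)⟩)⟩)⟩)⟩)⟩)⟩)⟩)⟩)⟩)⟩)⟩)⟩)⟩)

theorem x3_G : Net.toPerm 100 EvJ2.p_g206 ∈ (grp 100 H47.J2P.h_E0) :=
  (le_refl (grp 100 H47.J2P.h_E0)) (mem_grp_of_memB r_hn r_hk H47.J2P.h_E0_ok EvJ2.p_g206_ok (w := (nat_lit 0x18190f12070711010b02)) (by decide +kernel))

theorem r3_U : (Net.toPerm 100 r_g1) ∈ grp 100 H55.EjJ2.U :=
  H55.Ej.pr_one (n := 100) r_g1 ▸ H55.Ej.mem_of_inB r_hn r_hk H55.EjJ2.U_ok (H55.Ej.ok_one r_g1_ok) (m := 111) (by decide +kernel)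

theorem q3_U : (Net.toPerm 100 H55.EjJ2.q_g1) ∈ grp 100 H55.EjJ2.U :=
  toPerm_mem_grp (by simp [H55.EjJ2.U])

theorem b3 : (Net.toPerm 100 EvJ2.p_g206) * (Net.toPerm 100 H55.EjJ2.q_g1) = (Net.toPerm 100 r_g1) * ((Net.toPerm 100 H55.EjJ2.q_g1) * (Net.toPerm 100 EvJ2.p_g206)) :=
  H55.Ej.brk_net r_hn r_hk (by decide +kernel)

theorem x5_G : Net.toPerm 100 EvJ2.p_g207 ∈ (grp 100 H47.J2P.h_E0) :=
  (le_refl (grp 100 H47.J2P.h_E0)) (mem_grp_of_memB r_hn r_hk H47.J2P.h_E0_ok EvJ2.p_g207_ok (w := (nat_lit 0x190f12080801070d)) (by decide +kernel))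

theorem r5_U : (Net.toPerm 100 r_g2) ∈ grp 100 H55.EjJ2.U :=
  H55.Ej.pr_one (n := 100) r_g2 ▸ H55.Ej.mem_of_inB r_hn r_hk H55.EjJ2.U_ok (H55.Ej.ok_one r_g2_ok) (m := 84) (by decide +kernel)

theorem q5_U : (Net.toPerm 100 H55.EjJ2.q_g3) ∈ grp 100 H55.EjJ2.U :=
  toPerm_mem_grp (by simp [H55.EjJ2.U])

theorem b5 : (Net.toPerm 100 EvJ2.p_g207) * (Net.toPerm 100 H55.EjJ2.q_g3) = (Net.toPerm 100 r_g2) * ((Net.toPerm 100 H55.EjJ2.q_g3) * (Net.toPerm 100 EvJ2.p_g207)) :=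
  H55.Ej.brk_net r_hn r_hk (by decide +kernel)

theorem h_G : Net.toPerm 100 r_g3 ∈ (grp 100 H47.J2P.h_E0) :=
  (le_refl (grp 100 H47.J2P.h_E0)) (mem_grp_of_memB r_hn r_hk H47.J2P.h_E0_ok r_g3_ok (w := (nat_lit 0x1618100707130107)) (by decide +kernel))

theorem r_le7 : grp 100 r_V6 ≤ grp 100 EH :=
  grp_le_of_memB r_hn r_hk EH_ok r_V6_ok (ws := [nat_lit 0x105040107030702, nat_lit 0x60803080208060105]) (by decide +kernel)

theorem r_le10 : grp 100 r_V9 ≤ grp 100 r_V6 :=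
  grp_le_of_memB r_hn r_hk r_V6_ok r_V9_ok (ws := [nat_lit 0x30303020301010402040204, nat_lit 0x4010401030104020204020401]) (by decide +kernel)

theorem r_le12 : grp 100 r_V11 ≤ grp 100 r_V9 :=
  grp_le_of_memB r_hn r_hk r_V9_ok r_V11_ok (ws := [nat_lit 0x101030301030203, nat_lit 0x10302040104]) (by decide +kernel)

theorem r_le14 : grp 100 r_V13 ≤ grp 100 r_V11 :=
  grp_le_of_memB r_hn r_hk r_V11_ok r_V13_ok (ws := [nat_lit 0x4010302020202, nat_lit 0x40101030301]) (by decide +kernel)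

theorem r_le16 : grp 100 r_V15 ≤ grp 100 r_V13 :=
  grp_le_of_memB r_hn r_hk r_V13_ok r_V15_ok (ws := [nat_lit 0x3030202030104, nat_lit 0x301010302]) (by decide +kernel)

theorem r_le18 : grp 100 r_V17 ≤ grp 100 r_V15 :=
  grp_le_of_memB r_hn r_hk r_V15_ok r_V17_ok (ws := [nat_lit 0x1010303030204, nat_lit 0x202040104]) (by decide +kernel)

theorem EHlb_le : grp 100 EHlb_E ≤ grp 100 EH :=
  (grp_cons_le ((le_refl (grp 100 EH)) (toPerm_mem_grp (E := EH) (by simp [EH]))) (grp_cons_le ((le_refl (grp 100 EH)) (toPerm_mem_grp (E := EH) (by simp [EH]))) (grp_cons_le ((le_refl (grp 100 EH)) (toPerm_mem_grp (E := EH) (by simp [EH]))) (grp_cons_le ((le_refl (grp 100 EH)) (toPerm_mem_grp (E := EH) (by simp [EH]))) (grp_cons_le ((r_le7.trans (le_refl (grp 100 EH))) (toPerm_mem_grp (E := r_V6) (by simp [r_V6]))) (grp_cons_le ((r_le7.trans (le_refl (grp 100 EH))) (toPerm_mem_grp (E := r_V6) (by simp [r_V6])))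 (grp_cons_le ((r_le10.trans (r_le7.trans (le_refl (grp 100 EH)))) (toPerm_mem_grp (E := r_V9) (by simp [r_V9]))) (grp_cons_le ((r_le10.trans (r_le7.trans (le_refl (grp 100 EH)))) (toPerm_mem_grp (E := r_V9) (by simp [r_V9]))) (grp_cons_le ((r_le12.trans (r_le10.trans (r_le7.trans (le_refl (grp 100 EH))))) (toPerm_mem_grp (E := r_V11) (by simp [r_V11]))) (grp_cons_le ((r_le12.trans (r_le10.trans (r_le7.trans (le_refl (grp 100 EH))))) (toPerm_mem_grp (E := r_V11) (by simp [r_V11]))) (grp_cons_le ((r_le14.trans (r_le12.trans (r_le10.trans (r_le7.trans (le_refl (grp 100 EH)))))) (toPerm_mem_grp (E := r_V13) (by simp [r_V13]))) (grp_cons_le ((r_le14.trans (r_le12.trans (r_le10.trans (r_le7.trans (le_refl (grp 100 EH)))))) (toPerm_mem_grp (E := r_V13) (by simp [r_V13]))) (grp_cons_le ((r_le16.trans (r_le14.trans (r_le12.trans (r_le10.trans (r_le7.trans (le_refl (grp 100 EH))))))) (toPerm_mem_grp (E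 := r_V15) (by simp [r_V15]))) (grp_cons_le ((r_le16.trans (r_le14.trans (r_le12.trans (r_le10.trans (r_le7.trans (le_refl (grp 100 EH))))))) (toPerm_mem_grp (E := r_V15) (by simp [r_V15]))) (grp_cons_le ((r_le18.trans (r_le16.trans (r_le14.trans (r_le12.trans (r_le10.trans (r_le7.trans (le_refl (grp 100 EH)))))))) (toPerm_mem_grp (E := r_V17) (by simp [r_V17]))) (grp_cons_le ((r_le18.trans (r_le16.trans (r_le14.trans (r_le12.trans (r_le10.trans (r_le7.trans (le_refl (grp 100 EH)))))))) (toPerm_mem_grp (E := r_V17) (by simp [r_V17]))) (grp_nil_le _)))))))))))))))))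

noncomputable def EHlb_ch : Ch := (Ch.cons (nat_lit 0) [nat_lit 1, nat_lit 3, nat_lit 5, nat_lit 7] (Ch.cons (nat_lit 2) [nat_lit 9, nat_lit 11] (Ch.cons (nat_lit 3) [nat_lit 13, nat_lit 15] (Ch.cons (nat_lit 15) [nat_lit 17, nat_lit 19] (Ch.cons (nat_lit 1) [nat_lit 21, nat_lit 23] (Ch.cons (nat_lit 4) [nat_lit 25, nat_lit 27] (Ch.cons (nat_lit 8) [nat_lit 29, nat_lit 31] Ch.nil)))))))

theorem EHlb_chk : Ch.chk 100 7 (lab 100 7) EHlb_E EHlb_ch 604800 = true :=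
  by decide +kernel

theorem EHlb_ge : 604800 ≤ Nat.card (grp 100 EH) :=
  (Ch.le_card_grp r_hn EHlb_E_ok EHlb_chk).trans (Subgroup.card_le_of_le EHlb_le)

theorem u_c : (Net.toPerm 100 H55.EjJ2.q_g3) * (Net.toPerm 100 EvJ2.p_g194) * (Net.toPerm 100 H55.EjJ2.q_g3)⁻¹ = (Net.toPerm 100 EvJ2.p_g18) * (Net.toPerm 100 EvJ2.p_g194) :=
  H55.Ej.conj_net2 r_hn r_hk (by decide +kernel)

theorem u_U : (Net.toPerm 100 H55.EjJ2.q_g3) ∈ grp 100 H55.EjJ2.U :=
  toPerm_mem_grp (by simp [H55.EjJ2.U])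

theorem h_c : (Net.toPerm 100 r_g3) * (Net.toPerm 100 EvJ2.p_g194) = (Net.toPerm 100 EvJ2.p_g194) * (Net.toPerm 100 r_g3) :=
  EvG.comm_net r_hn r_hk (by decide +kernel)

end Cfsg.Agent.H38.J2RJ
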