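import Mathlib
import Cfsg.Agent.H76.K0Defs

/-! The arithmetic lemma for three characters of height zero. -/

set_option autoImplicit false

namespace Cfsg.Agent.H38.K0Ar

open Finset Cfsg.Agent.H76.K0

theorem quad (A B C : ℤ) (N : ℕ) : 6 * ∑ a ∈ range N, (A * (a : ℤ) ^ 2 + B * a + C) =
    A * ((N - 1) * N * (2 * N - 1)) + 3 * B * (N * (N - 1)) + 6 * C * N := by
  induction N with
  | zero => simp
  | succ N ih => rw [sum_range_succ, mul_add, ih]; push_cast; ring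

theorem ident (n : ℕ) : ∑ a ∈ range (2 * n + 1), ((a : ℤ) * ((2 * n + 1 : ℕ) - a)) =
    2 * ∑ a ∈ range (2 * n + 1), ((min a (2 * n + 1 - a) : ℕ) : ℤ) ^ 2 := by
  have h1 := quad (-1) (2 * n + 1) 0 (2 * n + 1)
  have h2 := quad 1 0 0 (n + 1)
  have h3 := quad 1 (-2 * n) (n ^ 2) n
  have e1 : ∑ a ∈ range (2 * n + 1), ((a : ℤ) * ((2 * n + 1 : ℕ) - a)) =
      ∑ a ∈ range (2 * n + 1), ((-1) * (a : ℤ) ^ 2 + (2 * n + 1) * a + 0) :=
    sum_congr rfl fun a _ => by push_cast; ring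
  have e2 : ∑ a ∈ range (2 * n + 1), ((min a (2 * n + 1 - a) : ℕ) : ℤ) ^ 2 =
      ∑ a ∈ range (n + 1), (1 * (a : ℤ) ^ 2 + 0 * a + 0) +
        ∑ a ∈ range n, (1 * (a : ℤ) ^ 2 + (-2 * n) * a + n ^ 2) := by
    rw [show range (2 * n + 1) = range (n + 1 + n) by congr 1; ring, sum_range_add]
    congr 1
    · refine sum_congr rfl fun a ha => ?_
      have := mem_range.1 ha
      rw [min_eq_left (by omega)]; ring
    · refine sum_congr rfl fun a ha => ?_
      have := mem_range.1 ha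
      rw [min_eq_right (by omega), show 2 * n + 1 - (n + 1 + a) = n - a by omega,
        Nat.cast_sub this.le]; ring
  rw [e1, e2]
  push_cast at h1 h2 h3 ⊢
  nlinarith

theorem sum_val (p : ℕ) [NeZero p] (f : ℕ → ℤ) : ∑ x : ZMod p, f x.val = ∑ a ∈ range p, f a := by
  cases p with
  | zero => exact absurd rfl (NeZero.ne 0)
  | succ p => exact Fin.sum_univ_eq_sum_range f (p + 1)

theorem ar : ArStmt := by
  intro p hp hp2 d e hd he h
  have : Fact p.Prime := ⟨hp⟩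
  obtain ⟨n, hn⟩ := hp.odd_of_ne_two hp2
  have hd' : (d : ZMod p) ≠ 0 := fun h0 => hd ((ZMod.intCast_zmod_eq_zero_iff_dvd d p).1 h0)
  have he' : (e : ZMod p) ≠ 0 := fun h0 => he ((ZMod.intCast_zmod_eq_zero_iff_dvd e p).1 h0)
  have hdv : ∀ (x : ZMod p) (d : ℤ), (p : ℤ) ∣ (x * d).valMinAbs - (x.val : ℤ) * d := by
    intro x d
    rw [← ZMod.intCast_zmod_eq_zero_iff_dvd]
    push_cast
    simp
  have hm : ∑ x : ZMod p, ((x.val : ℤ) * (p - x.val)) = 2 * ∑ x : ZMod p, x.valMinAbs ^ 2 := by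
    have e1 : ∀ x : ZMod p, x.valMinAbs ^ 2 = ((min x.val (p - x.val) : ℕ) : ℤ) ^ 2 := by
      intro x
      rw [← ZMod.valMinAbs_natAbs_eq_min, Int.natAbs_sq]
    rw [sum_congr rfl fun x _ => e1 x, sum_val p (fun a => (a : ℤ) * (p - a)),
      sum_val p (fun a => ((min a (p - a) : ℕ) : ℤ) ^ 2)]
    subst hn
    exact ident n
  have hs : ∀ y : ZMod p, y ≠ 0 →
      ∑ x : ZMod p, (x * y).valMinAbs ^ 2 = ∑ x : ZMod p, x.valMinAbs ^ 2 := fun y hy =>
    Equiv.sum_comp (Equiv.mulRight₀ y hy) (fun x => x.valMinAbs ^ 2)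
  have hz : ∑ x : ZMod p, ((x * d).valMinAbs ^ 2 + (x * e).valMinAbs ^ 2 -
      (x.val : ℤ) * (p - x.val)) = 0 := by
    rw [sum_sub_distrib, sum_add_distrib, hs _ hd', hs _ he', hm]; ring
  have heq := (sum_eq_zero_iff_of_nonneg (fun x _ => by
    have := h x.val _ _ (hdv x d) (hdv x e)
    nlinarith)).1 hz
  have h3 : 2 < p := lt_of_le_of_ne hp.two_le (Ne.symm hp2)
  have v1 : (1 : ZMod p).val = 1 := ZMod.val_one p
  have v2 : (2 : ZMod p).val = 2 := by
    have := ZMod.val_cast_of_lt h3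
    simpa using this
  have q1 := heq 1 (mem_univ _)
  have q2 := heq 2 (mem_univ _)
  have d1 := hdv 1 d
  have d2 := hdv 2 d
  have e1 := hdv 1 e
  have e2 := hdv 2 e
  rw [v1] at q1 d1 e1
  rw [v2] at q2 d2 e2
  have nb : ((1 : ZMod p) * d).valMinAbs ≠ 0 := by simpa using hd'
  have nc : ((1 : ZMod p) * e).valMinAbs ≠ 0 := by simpa using he'
  generalize ((1 : ZMod p) * d).valMinAbs = b1 at *
  generalize ((1 : ZMod p) * e).valMinAbs = c1 at *
  generalize ((2 : ZMod p) * d).valMinAbs = b2 at *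
  generalize ((2 : ZMod p) * e).valMinAbs = c2 at *
  push_cast at q1 q2 d1 d2 e1 e2
  have pb : 0 < b1 ^ 2 := by positivity
  have pc : 0 < c1 ^ 2 := by positivity
  by_cases h11 : 11 ≤ p
  · exfalso
    have h11' : (11 : ℤ) ≤ p := by exact_mod_cast h11
    have key : ∀ x y : ℤ, (p : ℤ) ∣ x - 2 * y → x ^ 2 ≤ 2 * p - 4 → y ^ 2 ≤ p - 2 → x = 2 * y := by
      intro x y hxy hx hy
      have := Int.eq_zero_of_abs_lt_dvd hxy (abs_lt_of_sq_lt_sq (by
        nlinarith [sq_nonneg (3 * x + 4 * y)]) (by omega))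
      omega
    have k1 := key b2 b1 (by
      have := d2.sub (d1.mul_left 2)
      rwa [show b2 - 2 * d - 2 * (b1 - 1 * d) = b2 - 2 * b1 by ring] at this)
      (by nlinarith [sq_nonneg c2]) (by omega)
    have k2 := key c2 c1 (by
      have := e2.sub (e1.mul_left 2)
      rwa [show c2 - 2 * e - 2 * (c1 - 1 * e) = c2 - 2 * c1 by ring] at this)
      (by nlinarith [sq_nonneg b2]) (by omega)
    subst k1 k2
    nlinarith
  · have hb : |b1| < 4 := abs_lt_of_sq_lt_sq (by omega) (by norm_num)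
    have hc : |c1| < 4 := abs_lt_of_sq_lt_sq (by omega) (by norm_num)
    rw [abs_lt] at hb hc
    obtain ⟨hb1, hb2⟩ := hb
    obtain ⟨hc1, hc2⟩ := hc
    have hp9 : p ≠ 9 := by rintro rfl; norm_num at hp
    clear heq hz hs hm hdv h
    interval_cases b1 <;> interval_cases c1 <;> omega

end Cfsg.Agent.H38.K0Ar
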