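import Cfsg.Agent.H17.KnDef2

/-!
# The twisted action on the group of order 128: finite facts
-/

set_option autoImplicit false
set_option maxRecDepth 100000
set_option synthInstance.maxSize 4000
set_option synthInstance.maxHeartbeats 200000

namespace Cfsg.Agent.H38.KnTwk

open Equiv Subgroup Cfsg.Agent.H17.Kn

universe u

/-- Sign vectors. -/
abbrev V := Fin 8 → ZMod 2

/-- A sign change. -/
def sv (v : V) : N2 := ⟨1, v⟩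
/-- Even vectors. -/
def Ev (v : V) : Prop := ∑ p, v p = 0

instance (v : V) : Decidable (Ev v) := by unfold Ev; infer_instance

theorem sv_mem {v : V} : sv v ∈ EE ↔ Ev v := ⟨fun h => h.2, fun h => ⟨rfl, h⟩⟩

theorem eq_sv {e : N2} (h : e ∈ EE) : e = sv e.f := N2.ext h.1 rfl

theorem sv_mul (v w : V) : sv v * sv w = sv (v + w) :=
  N2.ext (mul_one _) (funext fun _ => add_comm _ _)

theorem all8 {q : V → Prop} (h : ∀ a b c d e f g k, q ![a, b, c, d, e, f, g, k]) (v : V) : q v := by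
  have e : v = ![v 0, v 1, v 2, v 3, v 4, v 5, v 6, v 7] := by
    funext i; fin_cases i <;> rfl
  rw [e]; exact h ..

/-- A permutation of the coordinates with a constant added. -/
def tw (i0 i1 i2 i3 i4 i5 i6 i7 : Fin 8) (c : ZMod 2) (v : V) : V :=
  ![v i0 + c, v i1 + c, v i2 + c, v i3 + c, v i4 + c, v i5 + c, v i6 + c, v i7 + c]

/-- coefficient -/
def k0 (v : V) : ZMod 2 := v 0 + v 2 + v 4 + v 6
/-- coefficient -/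
def k1 (v : V) : ZMod 2 := v 0 + v 1 + v 4 + v 5
/-- coefficient -/
def k2 (v : V) : ZMod 2 := v 0 + v 1 + v 2 + v 3

/-- action -/
def a12 (v : V) : V := tw 0 1 3 2 4 5 7 6 (k2 v) v
/-- action -/
def a13 (v : V) : V := tw 0 1 2 3 5 4 7 6 (k1 v + k2 v) v
/-- action -/
def a23 (v : V) : V := tw 0 1 2 3 6 7 4 5 (k0 v) v
/-- action -/
def a21 (v : V) : V := tw 0 3 2 1 4 7 6 5 (k0 v + k2 v) v
/-- action -/
def a14 (v : V) : V := tw 1 0 3 2 5 4 7 6 0 v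
/-- action -/
def a24 (v : V) : V := tw 2 3 0 1 6 7 4 5 0 v
/-- action -/
def a34 (v : V) : V := tw 4 5 6 7 0 1 2 3 0 v
/-- action -/
def az (v : V) : V := tw 0 1 2 3 4 5 6 7 (k2 v) v

/-- The claims on the explicit maps. -/
def Cm (v : V) : Prop := Ev v →
  (Ev (a12 v) ∧ xe 1 2 * sv v * (xe 1 2)⁻¹ * zp (cf 2 (sv v)) = sv (a12 v)) ∧
  (Ev (a13 v) ∧ xe 1 3 * sv v * (xe 1 3)⁻¹ * zp (cf 1 (sv v) + cf 2 (sv v)) = sv (a13 v)) ∧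
  (Ev (a23 v) ∧ xe 2 3 * sv v * (xe 2 3)⁻¹ * zp (cf 0 (sv v)) = sv (a23 v)) ∧
  (Ev (a21 v) ∧ xe 2 1 * sv v * (xe 2 1)⁻¹ * zp (cf 0 (sv v) + cf 2 (sv v)) = sv (a21 v)) ∧
  (Ev (a14 v) ∧ xe 1 4 * sv v * (xe 1 4)⁻¹ = sv (a14 v)) ∧
  (Ev (a24 v) ∧ xe 2 4 * sv v * (xe 2 4)⁻¹ = sv (a24 v)) ∧
  (Ev (a34 v) ∧ xe 3 4 * sv v * (xe 3 4)⁻¹ = sv (a34 v)) ∧
  sv v * zp (ch ![0, 0, 1] (sv v)) = sv (az v)

instance (v : V) : Decidable (Cm v) := by unfold Cm; infer_instance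

theorem cm : ∀ v, Cm v := all8 (by decide +kernel)

/-- constant on the blocks -/
def blk (a b c d : ZMod 2) : V := ![a, a, b, b, c, c, d, d]
/-- generator -/
def g0 : V := ![0, 1, 0, 1, 0, 1, 0, 1]
/-- generator -/
def g1 : V := ![0, 0, 0, 1, 0, 0, 0, 1]
/-- generator -/
def g2 : V := ![0, 0, 0, 0, 0, 1, 0, 1]
/-- coordinate -/
def l0 (v : V) : ZMod 2 := v 0 + v 1
/-- coordinate -/
def l1 (v : V) : ZMod 2 := v 0 + v 1 + v 2 + v 3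
/-- coordinate -/
def l2 (v : V) : ZMod 2 := v 0 + v 1 + v 4 + v 5

/-- one entry -/
def be (c0 c1 c2 v : V) (p : Fin 8) : ZMod 2 := v p + l0 v * c0 p + l1 v * c1 p + l2 v * c2 p

/-- The action of `f`. -/
def β (c0 c1 c2 v : V) : V := ![be c0 c1 c2 v 0, be c0 c1 c2 v 1, be c0 c1 c2 v 2, be c0 c1 c2 v 3,
  be c0 c1 c2 v 4, be c0 c1 c2 v 5, be c0 c1 c2 v 6, be c0 c1 c2 v 7]

theorem β_eq (c0 c1 c2 v : V) : β c0 c1 c2 v = v + l0 v • c0 + l1 v • c1 + l2 v • c2 := by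
  funext i; fin_cases i <;> rfl

theorem dec : ∀ v, Ev v → v = l0 v • g0 + l1 v • g1 + l2 v • g2 + blk (v 0) (v 2) (v 4) (v 6) :=
  all8 (by decide +kernel)

/-- The three relations at one vector. -/
def Rl (b : V → V) (v : V) : Prop :=
  a24 (b v) = b (a13 (a24 v)) ∧ a34 (b v) = b (a12 (a34 v)) ∧ a23 (b v) = b (a13 (a14 (a23 v)))

instance (b : V → V) (v : V) : Decidable (Rl b v) := by unfold Rl; infer_instance

/-- The word. -/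
def wd (b : V → V) (v : V) : V := b (a21 (a34 v))

/-- The sixth power of the word. -/
def Fn (b : V → V) (v : V) : Prop := Ev v → wd b (wd b (wd b (wd b (wd b (wd b v))))) = az v

instance (b : V → V) (v : V) : Decidable (Fn b v) := by unfold Fn; infer_instance

theorem sol0 : ∀ a b c d : ZMod 2, sv (blk a b c d) ∉ U1 → Rl (β (blk a b c d) 0 0) g0 →
    ∀ a'' b'' c'' d'' : ZMod 2, Rl (β (blk a b c d) 0 (blk a'' b'' c'' d'')) g2 →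
    ∀ a' b' c' d' : ZMod 2, Rl (β (blk a b c d) (blk a' b' c' d') (blk a'' b'' c'' d'')) g1 →
    (blk a b c d = blk 0 0 0 1 ∧ blk a'' b'' c'' d'' = blk 1 0 1 1 ∧
      (blk a' b' c' d' = blk 0 1 1 1 ∨ blk a' b' c' d' = blk 1 0 0 0)) ∨
    (blk a b c d = blk 1 1 1 0 ∧ blk a'' b'' c'' d'' = blk 1 0 0 0 ∧
      (blk a' b' c' d' = blk 0 0 1 0 ∨ blk a' b' c' d' = blk 1 1 0 1)) := by decide +kernel

theorem fn1 : ∀ v, Fn (β (blk 0 0 0 1) (blk 0 1 1 1) (blk 1 0 1 1)) v := all8 (by decide +kernel)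
theorem fn2 : ∀ v, Fn (β (blk 0 0 0 1) (blk 1 0 0 0) (blk 1 0 1 1)) v := all8 (by decide +kernel)
theorem fn3 : ∀ v, Fn (β (blk 1 1 1 0) (blk 0 0 1 0) (blk 1 0 0 0)) v := all8 (by decide +kernel)
theorem fn4 : ∀ v, Fn (β (blk 1 1 1 0) (blk 1 1 0 1) (blk 1 0 0 0)) v := all8 (by decide +kernel)

theorem β_l1 {c0 c1 c2 v : V} (h : l1 v = 0) : β c0 c1 c2 v = β c0 0 c2 v := by
  simp only [β_eq, h, zero_smul]

theorem β_l2 {c0 c1 c2 v : V} (h : l2 v = 0) : β c0 c1 c2 v = β c0 c1 0 v := by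
  simp only [β_eq, h, zero_smul]

theorem sols (a b c d : ZMod 2) (h : sv (blk a b c d) ∉ U1) (a' b' c' d' a'' b'' c'' d'' : ZMod 2)
    (h0 : Rl (β (blk a b c d) (blk a' b' c' d') (blk a'' b'' c'' d'')) g0)
    (h2 : Rl (β (blk a b c d) (blk a' b' c' d') (blk a'' b'' c'' d'')) g2)
    (h1 : Rl (β (blk a b c d) (blk a' b' c' d') (blk a'' b'' c'' d'')) g1) :
    ∀ v, Fn (β (blk a b c d) (blk a' b' c' d') (blk a'' b'' c'' d'')) v := by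
  have k0 : Rl (β (blk a b c d) 0 0) g0 := by
    unfold Rl at h0 ⊢
    rwa [β_l1 (v := g0) (by decide), β_l2 (v := g0) (by decide),
      β_l1 (v := a13 (a24 g0)) (by decide), β_l2 (v := a13 (a24 g0)) (by decide),
      β_l1 (v := a12 (a34 g0)) (by decide), β_l2 (v := a12 (a34 g0)) (by decide),
      β_l1 (v := a13 (a14 (a23 g0))) (by decide), β_l2 (v := a13 (a14 (a23 g0))) (by decide)] at h0
  have k2 : Rl (β (blk a b c d) 0 (blk a'' b'' c'' d'')) g2 := by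
    unfold Rl at h2 ⊢
    rwa [β_l1 (v := g2) (by decide), β_l1 (v := a13 (a24 g2)) (by decide),
      β_l1 (v := a12 (a34 g2)) (by decide), β_l1 (v := a13 (a14 (a23 g2))) (by decide)] at h2
  rcases sol0 a b c d h k0 _ _ _ _ k2 _ _ _ _ h1 with ⟨e0, e2, e1 | e1⟩ | ⟨e0, e2, e1 | e1⟩ <;>
    rw [e0, e1, e2]
  exacts [fn1, fn2, fn3, fn4]

theorem facts : xe 0 1 = sv g0 ∧ e34 = sv (blk 0 0 0 1) ∧
    sv (a24 (blk 0 0 0 1)) = e34 * xe 0 3 ∧ sv (a34 (blk 0 0 0 1)) = e34 * xe 0 2 ∧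
    sv (a23 (blk 0 0 0 1)) = e34 * (xe 0 3 * z2) ∧
    (xe 2 4 ∈ XX ∧ s12 * pm2 (xe 2 4) * s12⁻¹ = pm2 (xe 2 4)) ∧
    (xe 3 4 ∈ XX ∧ s12 * pm2 (xe 3 4) * s12⁻¹ = pm2 (xe 3 4)) ∧
    (xe 2 3 ∈ XX ∧ s12 * pm2 (xe 2 3) * s12⁻¹ = pm2 (xe 2 3)) ∧
    (xe 0 3 ∈ AE ∧ xe 0 3 ∈ XX ∧ xe 1 3 ∈ XX ∧ s12 * pm2 (xe 0 3) * s12⁻¹ = pm2 (xe 1 3)) ∧
    (xe 0 2 ∈ AE ∧ xe 0 2 ∈ XX ∧ xe 1 2 ∈ XX ∧ s12 * pm2 (xe 0 2) * s12⁻¹ = pm2 (xe 1 2)) ∧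
    (xe 0 3 * z2 ∈ AE ∧ xe 0 3 * z2 ∈ XX ∧ xe 1 3 * xe 1 4 ∈ XX ∧
      s12 * pm2 (xe 0 3 * z2) * s12⁻¹ = pm2 (xe 1 3 * xe 1 4)) ∧
    e34 ∈ AE ∧ xe 1 4 ∈ AE ∧ xe 2 4 ∈ AE ∧ xe 3 4 ∈ AE ∧ xe 1 3 ∈ T0 ∧ xe 1 4 ∈ T0 ∧
    Ev g0 ∧ Ev g1 ∧ Ev g2 ∧ Ev (blk 0 0 0 1) ∧ ch ![0, 0, 1] (sv g1) ≠ 0 ∧
    ∀ a b c d, sv (blk a b c d) ∈ E1 := by decide +kernel

end Cfsg.Agent.H38.KnTwk
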