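import Cfsg.Agent.H46.L40Defs
import Cfsg.Agent.H69.SlRed
import Cfsg.Agent.S1754

/-! Project L40: the reduction to frames. -/

set_option autoImplicit false

namespace Cfsg.Agent.H38.L40Top

open Cfsg Subgroup Cfsg.Agent.H83 Cfsg.Agent.H46.L40
open Cfsg.Agent.H69.SlRed (dich cent_bot)

universe u

theorem aut_of (au : AutS) {G : Type u} [Group G] {φ : S3 →* G} (inj : Function.Injective φ)
    {c : G} (hc : c ∈ normalizer (φ.range : Set G)) :
    ∃ m, (∀ x, c * φ x * c⁻¹ = φ (m * x * m⁻¹)) ∨ ∀ x, c * φ x * c⁻¹ = φ (m * tr x * m⁻¹) := by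
  let e := MonoidHom.ofInjective inj
  let ψ : S3 ≃* S3 := (e.trans (normalizerMonoidHom φ.range ⟨c, hc⟩)).trans e.symm
  have k : ∀ x, c * φ x * c⁻¹ = φ (ψ x) := fun x =>
    (MonoidHom.apply_ofInjective_symm inj (normalizerMonoidHom φ.range ⟨c, hc⟩ (e x))).symm
  obtain ⟨m, h⟩ := au ψ
  exact ⟨m, h.imp (fun h x => by rw [k, h]) fun h x => by rw [k, h]⟩

theorem top : TopS.{u} := by
  intro au exg r2a r2b r2c main G _ _ hO φ inj hL sX na le nn
  have : Fact (Nat.Prime 2) := ⟨Nat.prime_two⟩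
  have hP : pCore 2 G = ⊥ := by
    obtain ⟨g, hg⟩ : ∃ g, g ∉ normalizer (φ.range : Set G) := by
      by_contra! h
      exact nn (normalizer_eq_top_iff.1 (eq_top_iff.2 fun g _ => h g))
    have h1 : pCore 2 G ≤ centralizer (φ.range : Set G) := by
      have := H52.commutator_layer_pCore (G := G) (p := 2)
      rw [commutator_comm, commutator_eq_bot_iff_le_centralizer] at this
      exact this.trans (centralizer_le le)
    have h2 := hL.2.1.2 g (hL.2.2.2 ▸ hg)
    have h3 : pCore 2 G ≤ centralizer (φ.range : Set G) ⊓ cj g (centralizer (φ.range : Set G)) :=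
      le_inf h1 fun x hx => mem_cj.2 (h1 ((pCore_normal 2 G).conj_mem' x hx g))
    obtain ⟨k, hk⟩ := (H52.pCore_isPGroup (G := G) (p := 2)).exists_card_eq
    have h4 := h2.of_dvd_nat (card_dvd_of_le h3)
    rw [hk] at h4
    rcases k with _ | k
    · exact card_eq_one.1 hk
    · exact absurd h4 (by simp [pow_succ])
  have hF : generalizedFittingSubgroup G = layer G := by
    rw [H52.fstar_eq_layer_sup_pCore (p := 2) hO, hP, sup_bot_eq]
  rw [← hF] at sX na le
  have := H52.fstar_normal (G := G)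
  have hc := cent_bot sX na H52.centralizer_fstar_le
  have n4 : ¬ 4 ∣ Nat.card (centralizer (φ.range : Set G)) := fun h4 => by
    obtain ⟨g, v, h1, h2, h3, h5⟩ := exg G φ inj hL sX na le
    obtain ⟨g', k, k1, k2, k3, k4⟩ := r2a au G φ inj hL g v h1 h2 h3 h5
    exact r2c au G φ inj hL h4 g' k1 (r2b au G φ inj hL h4 g' k k1 k2 k3 k4)
  set X := generalizedFittingSubgroup G
  refine ⟨le_antisymm (normalClosure_le_normal le) ?_, ?_⟩
  · refine (dich (N := normalClosure (φ.range : Set G)) sX fun x _ n h =>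
      Normal.conj_mem inferInstance n h x).resolve_left fun e => ?_
    have := e (φ z0) (le ⟨z0, rfl⟩) (le_normalClosure ⟨z0, rfl⟩)
    exact absurd (inj (this.trans (map_one φ).symm)) (by decide)
  obtain ⟨t, tc, t2⟩ := H10.Std.exists_invol hL
  have tt : t * t = 1 := by rw [← pow_two, ← t2, pow_orderOf_eq_one]
  let H := X ⊔ zpowers t
  have XH : X ≤ H := le_sup_left
  have tH : t ∈ H := (le_sup_right : zpowers t ≤ H) (mem_zpowers t)
  have eX : X.subgroupOf H ≃* X := subgroupOfEquivOfLe XH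
  have o2 : orderOf (⟨t, tH⟩ : H) = 2 := by rw [← t2]; exact (orderOf_coe _).symm
  let φ' : S3 →* H := φ.codRestrict H fun m => XH (le ⟨m, rfl⟩)
  let f : Fr H :=
    { X := X.subgroupOf H
      t := ⟨t, tH⟩
      φ := φ'
      inj := fun a b e => inj (congrArg Subtype.val e)
      Xn := inferInstance
      Xs := eX.isSimpleGroup
      Xa := fun h => na ⟨⟨fun a b => eX.symm.injective (by rw [map_mul, map_mul, h.1.1])⟩⟩
      Xc := eq_bot_iff.2 fun x hx => Subtype.ext
        (hc.le fun y hy => congrArg Subtype.val (hx ⟨y, XH hy⟩ hy))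
      cov := fun g => by
        classical
        obtain ⟨x, hx, y, hy, e⟩ := mem_sup_of_normal_left.1 g.2
        rw [mem_zpowers_iff_mem_range_orderOf, t2, Finset.mem_image] at hy
        obtain ⟨i, hi, rfl⟩ := hy
        rw [Finset.mem_range] at hi
        interval_cases i
        · exact .inl (by rw [mem_subgroupOf, ← e, pow_zero, mul_one]; exact hx)
        · refine .inr ?_
          change g.1 * t ∈ X
          rwa [← e, pow_one, mul_assoc, tt, mul_one]
      LX := fun m => le ⟨m, rfl⟩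
      t2 := o2
      tL := fun m => Subtype.ext (tc _ ⟨m, rfl⟩).symm
      sylK := by
        have c2 : Nat.card (zpowers (⟨t, tH⟩ : H)) = 2 := by rw [Nat.card_zpowers, o2]
        refine ⟨zpowers_le.2 ?_, IsPGroup.of_card (n := 1) c2, fun Q h1 h2 h3 => ?_⟩
        · rintro _ ⟨m, rfl⟩
          exact Subtype.ext (tc _ ⟨m, rfl⟩)
        · refine (eq_of_le_of_card_ge h3 ?_).symm
          obtain ⟨k, hk⟩ := h2.exists_card_eq
          have d : Nat.card (Q.map H.subtype) ∣ Nat.card (centralizer (φ.range : Set G)) :=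
            card_dvd_of_le (by
              rintro _ ⟨x, hx, rfl⟩ _ ⟨m, rfl⟩
              exact congrArg Subtype.val (h1 hx (φ' m) ⟨m, rfl⟩))
          rw [card_map_of_injective H.subtype_injective, hk] at d
          rw [c2, hk]
          by_contra! lt
          have : 2 ≤ k := by
            by_contra! k2
            interval_cases k <;> omega
          exact n4 ((pow_dvd_pow 2 this).trans d)
      aut := fun c h => by
        obtain ⟨m, hm⟩ := aut_of au inj ((S1754.result _ hL t t2 tc).1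
          (mem_centralizer_singleton_iff.2 (congrArg Subtype.val h)))
        exact ⟨m, hm.imp (fun h x => Subtype.ext (h x)) fun h x => Subtype.ext (h x)⟩ }
  rcases main H f with ⟨K, _, _, c, ⟨e⟩⟩ | ⟨K, _, _, c, h⟩
  · exact .inl ⟨K, _, _, c, ⟨eX.symm.trans e⟩⟩
  · exact .inr ⟨K, _, _, c, h.imp (fun ⟨e⟩ => ⟨eX.symm.trans e⟩)
      (Or.imp (fun ⟨e⟩ => ⟨eX.symm.trans e⟩) fun ⟨e⟩ => ⟨eX.symm.trans e⟩)⟩

end Cfsg.Agent.H38.L40Top
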