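import Cfsg.Agent.H1.MlD

/-!
Project ML, piece EXT: a stable central extension of a Sylow subgroup extends to the group.
-/

set_option autoImplicit false
set_option linter.unusedSectionVars false

namespace Cfsg.Agent.H38.MlExt

open Subgroup
open scoped IsMulCommutative

universe u v

section
variable {S : Type u} {L : Type v} [Group S] [Group L] (θ : S →* L)

/-- Representatives of the cosets adapted to the orbits of `S`. -/
theorem exists_data : ∃ (g : L ⧸ θ.range → L) (u : L ⧸ θ.range → S),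
    (∀ s x, g (θ s • x) = g x) ∧ ∀ x, ((θ (u x) * g x : L) : L ⧸ θ.range) = x := by
  let o : L ⧸ θ.range → L ⧸ θ.range := fun x =>
    (Quotient.mk'' x : MulAction.orbitRel.Quotient θ.range (L ⧸ θ.range)).out
  have h1 : ∀ x, ∃ s : S, θ s • o x = x := by
    intro x
    have h : (MulAction.orbitRel θ.range (L ⧸ θ.range)) x (o x) :=
      Quotient.exact (Quotient.out_eq (Quotient.mk'' x :
        MulAction.orbitRel.Quotient θ.range (L ⧸ θ.range))).symm
    obtain ⟨⟨_, s, rfl⟩, hs⟩ := MulAction.orbitRel_apply.1 h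
    exact ⟨s, hs⟩
  choose u hu using h1
  refine ⟨fun x => (o x).out, u, fun s x => ?_, fun x => ?_⟩
  · have : (Quotient.mk'' (θ s • x) : MulAction.orbitRel.Quotient θ.range (L ⧸ θ.range)) =
        Quotient.mk'' x :=
      Quotient.sound' (MulAction.orbitRel_apply.2 ⟨⟨θ s, s, rfl⟩, rfl⟩)
    simp only [o, this]
  · rw [← smul_eq_mul, ← MulAction.Quotient.smul_mk, QuotientGroup.out_eq', hu]

variable (S L) in
/-- The wreath product. -/
abbrev W (X : Type v) [MulAction L X] : Type (max u v) :=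
  (X → S) ⋊[mulAutArrow (G := L) (A := X) (M := S)] L

variable {X : Type v} [MulAction L X]

theorem mul_left (a b : W S L X) (x : X) :
    (a * b).left x = a.left x * b.left (a.right⁻¹ • x) := rfl

theorem inv_left (a : W S L X) (x : X) : a⁻¹.left x = (a.left (a.right • x))⁻¹ := by
  change (a.left (a.right⁻¹⁻¹ • x))⁻¹ = _
  rw [inv_inv]

/-- The pull back of the embedding of `L` into the wreath product of `θ S`. -/
def G1 (r : X → L) : Subgroup (W S L X) where
  carrier := {y | ∀ x, θ (y.left x) = (r x)⁻¹ * y.right * r (y.right⁻¹ • x)}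
  one_mem' x := by simp
  mul_mem' {a b} ha hb x := by
    rw [mul_left, map_mul, ha, hb, SemidirectProduct.mul_right, mul_inv_rev, mul_smul]
    group
  inv_mem' {a} ha x := by
    rw [inv_left, map_inv, ha, SemidirectProduct.inv_right, inv_inv, inv_smul_smul]
    group

open Classical in
/-- The projection to the centre. -/
noncomputable def cz (s : S) : center S := if h : s ∈ center S then ⟨s, h⟩ else 1

theorem cz_eq {s : S} (h : s ∈ center S) : cz s = ⟨s, h⟩ := dif_pos h

variable [Fintype X] {θ} {r : X → L}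

/-- The product of the coordinates. -/
noncomputable def nu (y : G1 θ r) : center S := ∏ x, cz (y.1.left x)

theorem left_ker {y : G1 θ r} (h : y.1.right = 1) (x : X) : y.1.left x ∈ θ.ker := by
  rw [MonoidHom.mem_ker, y.2 x, h]
  simp

theorem nu_mul (hk : θ.ker ≤ center S) {y z : G1 θ r} (hy : y.1.right = 1) (hz : z.1.right = 1) :
    nu (y * z) = nu y * nu z := by
  rw [nu, nu, nu, ← Finset.prod_mul_distrib]
  refine Finset.prod_congr rfl fun x _ => ?_
  rw [Subgroup.coe_mul, mul_left, hy, inv_one, one_smul, cz_eq (hk (left_ker hy x)),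
    cz_eq (hk (left_ker hz x)), cz_eq (mul_mem (hk (left_ker hy x)) (hk (left_ker hz x)))]
  rfl

theorem nu_one : nu (1 : G1 θ r) = 1 := by
  refine Finset.prod_eq_one fun x _ => ?_
  exact cz_eq (one_mem _)

theorem nu_conj (hk : θ.ker ≤ center S) {y : G1 θ r} (hy : y.1.right = 1) (z : G1 θ r) :
    nu (z * y * z⁻¹) = nu y := by
  rw [nu, nu, ← Equiv.prod_comp (MulAction.toPerm z.1.right⁻¹) (fun x => cz (y.1.left x))]
  refine Finset.prod_congr rfl fun x _ => congrArg cz ?_
  rw [Subgroup.coe_mul, Subgroup.coe_mul, Subgroup.coe_inv, mul_left, mul_left, inv_left,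
    SemidirectProduct.mul_right, hy, mul_one, smul_inv_smul, MulAction.toPerm_apply,
    mem_center_iff.1 (hk (left_ker hy _)), mul_inv_cancel_right]

/-- The elements of the base group with product one. -/
def A0 (hk : θ.ker ≤ center S) (r : X → L) : Subgroup (G1 θ r) where
  carrier := {y | y.1.right = 1 ∧ nu y = 1}
  one_mem' := ⟨rfl, nu_one⟩
  mul_mem' {a b} ha hb := ⟨by rw [Subgroup.coe_mul, SemidirectProduct.mul_right, ha.1, hb.1,
    one_mul], by rw [nu_mul hk ha.1 hb.1, ha.2, hb.2, one_mul]⟩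
  inv_mem' {a} ha := by
    have h : (a⁻¹ : G1 θ r).1.right = 1 := by
      rw [Subgroup.coe_inv, SemidirectProduct.inv_right, ha.1, inv_one]
    refine ⟨h, ?_⟩
    have := nu_mul hk h ha.1
    rwa [inv_mul_cancel, nu_one, ha.2, mul_one, eq_comm] at this

instance A0_normal (hk : θ.ker ≤ center S) (r : X → L) : (A0 hk r).Normal where
  conj_mem y hy z := ⟨by
    rw [Subgroup.coe_mul, Subgroup.coe_mul, Subgroup.coe_inv, SemidirectProduct.mul_right,
      SemidirectProduct.mul_right, SemidirectProduct.inv_right, hy.1, mul_one, mul_inv_cancel],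
    by rw [nu_conj hk hy.1, hy.2]⟩

theorem mk_eq (hk : θ.ker ≤ center S) {y z : G1 θ r} (hy : y.1.right = 1) (hz : z.1.right = 1) :
    (y : G1 θ r ⧸ A0 hk r) = z ↔ nu y = nu z := by
  have h : (y⁻¹ : G1 θ r).1.right = 1 := by
    rw [Subgroup.coe_inv, SemidirectProduct.inv_right, hy, inv_one]
  have h1 := nu_mul hk h hy
  rw [inv_mul_cancel, nu_one, eq_comm, mul_eq_one_iff_eq_inv] at h1
  rw [QuotientGroup.eq]
  change ((y⁻¹ * z : G1 θ r).1.right = 1 ∧ nu (y⁻¹ * z) = 1) ↔ _
  rw [nu_mul hk h hz, h1, inv_mul_eq_one, Subgroup.coe_mul, SemidirectProduct.mul_right, h, hz,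
    one_mul]
  simp

/-- The projection to `L`. -/
def pi0 (θ : S →* L) (r : X → L) : G1 θ r →* L :=
  SemidirectProduct.rightHom.comp (G1 θ r).subtype

/-- The projection to `L` on the quotient. -/
def pi1 (hk : θ.ker ≤ center S) (r : X → L) : G1 θ r ⧸ A0 hk r →* L :=
  QuotientGroup.lift _ (pi0 θ r) fun _ h => h.1

theorem pi1_mk (hk : θ.ker ≤ center S) (y : G1 θ r) : pi1 hk r y = y.1.right := rfl

end

theorem extStmt : H1.ML.ExtStmt.{u, v} := by
  intro S L _ _ _ _ p _ hS θ hk hp hφ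
  classical
  choose φ hφ1 hφ2 using hφ
  obtain ⟨g, u, hg, hu⟩ := exists_data θ
  have : Fintype (L ⧸ θ.range) := Fintype.ofFinite _
  let r : L ⧸ θ.range → L := fun x => θ (u x) * g x
  have hr : ∀ (l : L) x, (r x)⁻¹ * l * r (l⁻¹ • x) ∈ θ.range := by
    intro l x
    rw [mul_assoc, ← QuotientGroup.eq, ← smul_eq_mul, ← MulAction.Quotient.smul_mk]
    simp only [r, hu, smul_inv_smul]
  have hw : ∀ (s : S) x, (g x)⁻¹ * θ ((u x)⁻¹ * s * u ((θ s)⁻¹ • x)) * (g x)⁻¹⁻¹ =
      (r x)⁻¹ * θ s * r ((θ s)⁻¹ • x) := by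
    intro s x
    simp only [r]
    rw [← map_inv θ s, hg, map_mul, map_mul, map_inv]
    group
  have hw' : ∀ (s : S) x, (g x)⁻¹ * θ ((u x)⁻¹ * s * u ((θ s)⁻¹ • x)) * (g x)⁻¹⁻¹ ∈ θ.range :=
    fun s x => (hw s x).symm ▸ hr (θ s) x
  let i0 : S → G1 θ r := fun s =>
    ⟨⟨fun x => φ (g x)⁻¹ ((u x)⁻¹ * s * u ((θ s)⁻¹ • x)), θ s⟩, fun x =>
      ((hφ2 _ _ (hw' s x)).1).trans (hw s x)⟩
  have hi0 : ∀ s t, i0 (s * t) = i0 s * i0 t := by
    intro s t
    refine Subtype.ext (SemidirectProduct.ext (funext fun x => ?_) (map_mul θ s t))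
    change φ (g x)⁻¹ ((u x)⁻¹ * (s * t) * u ((θ (s * t))⁻¹ • x)) =
      φ (g x)⁻¹ ((u x)⁻¹ * s * u ((θ s)⁻¹ • x)) *
        φ (g ((θ s)⁻¹ • x))⁻¹ ((u ((θ s)⁻¹ • x))⁻¹ * t * u ((θ t)⁻¹ • (θ s)⁻¹ • x))
    have h := hw' t ((θ s)⁻¹ • x)
    have e : g ((θ s)⁻¹ • x) = g x := by rw [← map_inv θ s, hg]
    rw [e] at h ⊢
    rw [← (hφ2 _ _ (hw' s x)).2 _ h, map_mul, mul_inv_rev, mul_smul]
    congr 1
    group
  let i1 : S →* G1 θ r := MonoidHom.mk' i0 hi0
  have hnu : ∀ (a : S) (ha : a ∈ θ.ker), nu (i0 a) = ⟨a, hk ha⟩ ^ θ.range.index := by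
    intro a ha
    rw [Subgroup.index, Nat.card_eq_fintype_card, ← Finset.card_univ, ← Finset.prod_const]
    refine Finset.prod_congr rfl fun x _ => ?_
    change cz (φ (g x)⁻¹ ((u x)⁻¹ * a * u ((θ a)⁻¹ • x))) = _
    rw [MonoidHom.mem_ker.1 ha, inv_one, one_smul, mul_assoc, ← mem_center_iff.1 (hk ha),
      inv_mul_cancel_left, hφ1 _ _ ha, cz_eq (hk ha)]
  have hcop : (Nat.card S).Coprime θ.range.index := by
    obtain ⟨n, hn⟩ := IsPGroup.iff_card.1 hS
    rw [hn]
    exact Nat.Coprime.pow_left _ ((Nat.Prime.coprime_iff_not_dvd Fact.out).2 hp)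
  have hfin : Finite (W S L (L ⧸ θ.range)) :=
    Finite.of_equiv _ SemidirectProduct.equivProd.symm
  refine ⟨G1 θ r ⧸ A0 hk r, inferInstance, inferInstance, pi1 hk r,
    (QuotientGroup.mk' _).comp i1, fun l => ?_, ?_, fun s => rfl, ?_, ?_⟩
  · choose n hn using hr l
    exact ⟨((⟨⟨n, l⟩, hn⟩ : G1 θ r) : G1 θ r ⧸ A0 hk r), rfl⟩
  · rw [injective_iff_map_eq_one]
    intro a ha
    have h : i0 a ∈ A0 hk r := (QuotientGroup.eq_one_iff _).1 ha
    have h1 : a ∈ θ.ker := h.1
    have h2 := congrArg Subtype.val ((hnu a h1).symm.trans h.2)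
    exact (powCoprime hcop).injective (h2.trans (one_pow _).symm)
  · ext y
    obtain ⟨y, rfl⟩ := QuotientGroup.mk_surjective y
    rw [MonoidHom.mem_ker, pi1_mk]
    constructor
    · intro hy
      have h1 : ((nu y : center S) : S) ∈ θ.ker := by
        have : nu y ∈ θ.ker.subgroupOf (center S) := by
          refine Subgroup.prod_mem _ fun x _ => ?_
          rw [cz_eq (hk (left_ker hy x))]
          exact left_ker hy x
        exact this
      have hc : (Nat.card θ.ker).Coprime θ.range.index :=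
        Nat.Coprime.coprime_dvd_left (card_subgroup_dvd_card _) hcop
      obtain ⟨a, ha⟩ := (powCoprime hc).surjective ⟨_, h1⟩
      refine ⟨a, a.2, ?_⟩
      change ((i0 a : G1 θ r) : G1 θ r ⧸ A0 hk r) = y
      rw [mk_eq hk (y := i0 a) a.2 hy, hnu a a.2]
      exact Subtype.ext (congrArg (Subtype.val : θ.ker → S) ha)
    · rintro ⟨a, ha, e⟩
      have := congrArg (pi1 hk r) e
      rw [pi1_mk] at this
      rw [← this]
      exact ha
  · intro y hy
    obtain ⟨y, rfl⟩ := QuotientGroup.mk_surjective y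
    rw [MonoidHom.mem_ker, pi1_mk] at hy
    refine mem_center_iff.2 fun z => ?_
    obtain ⟨z, rfl⟩ := QuotientGroup.mk_surjective z
    rw [← mul_inv_eq_iff_eq_mul, ← QuotientGroup.mk_inv, ← QuotientGroup.mk_mul,
      ← QuotientGroup.mk_mul, mk_eq hk _ hy, nu_conj hk hy]
    rw [Subgroup.coe_mul, Subgroup.coe_mul, Subgroup.coe_inv, SemidirectProduct.mul_right,
      SemidirectProduct.mul_right, SemidirectProduct.inv_right, hy, mul_one, mul_inv_cancel]

end Cfsg.Agent.H38.MlExt
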