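import Cfsg.Agent.H38.MlExt
import Cfsg.Agent.H99.Model
import Cfsg.Agent.H97.FactorSat
import Cfsg.Agent.H97.Rk2Fus

/-!
Project ML, piece FINAL: a saturated fusion system is exotic if and only if its quotient by a
central subgroup is, from the uniqueness statement.
-/

set_option autoImplicit false

namespace Cfsg.Agent.H38.MlFinal

open Cfsg Cfsg.FusionSystem Subgroup H97 H99

universe u v

section
variable {Ω : Type u} [Group Ω] {S : Subgroup Ω} {F : FusionSystem S} {A : Subgroup Ω}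
  {Ω' : Type v} [Group Ω'] {S' : Subgroup Ω'} {θ : S →* Ω'} {E : FusionSystem S'}

theorem stronglyClosed_of_isCentral (hA : F.IsCentral A) : F.StronglyClosed A :=
  stronglyClosed_iff.2 ⟨hA.1, fun _ _ hf _ hx hxA => by
    rw [hf.fix_of_isCentral hA hx hxA]; exact hxA⟩

theorem comm_of_isCentral (hA : F.IsCentral A) {a s : Ω} (ha : a ∈ A) (hs : s ∈ S) :
    s * a * s⁻¹ = a :=
  (mor_conj F hA.1 hs).fix_of_isCentral hA ha ha

theorem mem_map_iff {G : Type*} [Group G] {ι : S →* G} (hAS : A ≤ S) {y : G} :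
    y ∈ (A.subgroupOf S).map ι ↔ ∃ a ∈ A, fn ι a = y := by
  rw [← img_fn_eq_map hAS, mem_img_fn hAS]

/-- A realization passes to the centralizer of a central subgroup. -/
theorem realized_centralizer (hA : F.IsCentral A) {G : Type*} [Group G] {ι : S →* G}
    (h : F.IsRealizedBy ι)
    (hH : ∀ s, ι s ∈ centralizer ((A.subgroupOf S).map ι : Set G)) :
    F.IsRealizedBy (ι.codRestrict _ hH) := by
  have e : ∀ x ∈ S, ((fn (ι.codRestrict _ hH) x : centralizer ((A.subgroupOf S).map ι : Set G)) :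
      G) = fn ι x := fun x hx => by
    rw [fn_apply _ hx, fn_apply _ hx]; rfl
  refine isRealizedBy_of_mor (fun a b e => h.1 (congrArg Subtype.val e)) (fun P f hf => ?_)
    fun P f g hP hf hg => ?_
  · obtain ⟨f', hf', e1, e2⟩ := (isCentral_iff.1 hA).2 P f hf
    obtain ⟨g, hg⟩ := Realized.exists_conj h hf'
    refine ⟨⟨g, mem_centralizer_iff.2 fun y hy => ?_⟩, fun x hx => Subtype.ext ?_⟩
    · obtain ⟨a, ha, rfl⟩ := (mem_map_iff hA.1).1 hy
      have := hg a (mem_sup_right ha)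
      rw [e2 a ha, eq_mul_inv_iff_mul_eq] at this
      exact this
    · rw [Subgroup.coe_mul, Subgroup.coe_mul, Subgroup.coe_inv, e _ (hf.mem hx), e _ (hf.le hx),
        ← e1 x hx]
      exact hg x (mem_sup_left hx)
  · refine (realized_mor_iff h hP hf).2 ⟨g, fun x hx => ?_⟩
    have := congrArg Subtype.val (hg x hx)
    rwa [Subgroup.coe_mul, Subgroup.coe_mul, Subgroup.coe_inv, e _ (hf x hx), e _ (hP hx)] at this

/-- A realization passes to the factor system. -/
theorem realized_factor (hE : F.IsFactorSystem A θ E) {G L : Type*} [Group G] [Group L]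
    {ι : S →* G} (h : F.IsRealizedBy ι) {π : G →* L} (hπ : Function.Surjective π)
    (hk : π.ker = (A.subgroupOf S).map ι) :
    ∃ κ : S' →* L, E.IsRealizedBy κ ∧ κ.range = ι.range.map π := by
  have hm : ∀ s, θ s ∈ S' := fun s => hE.2.2.1 ▸ ⟨s, rfl⟩
  have hs : Function.Surjective (θ.codRestrict S' hm) := by
    rintro ⟨y, hy⟩
    rw [← hE.2.2.1] at hy
    obtain ⟨s, rfl⟩ := hy
    exact ⟨s, rfl⟩
  have hker : (θ.codRestrict S' hm).ker ≤ (π.comp ι).ker := by
    intro s hs
    have h1 : (s : Ω) ∈ A := (hE.2.1 s).1 (congrArg Subtype.val hs)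
    have h2 : ι s ∈ π.ker := hk ▸ ⟨s, h1, rfl⟩
    exact h2
  let κ : S' →* L := (θ.codRestrict S' hm).liftOfSurjective hs ⟨π.comp ι, hker⟩
  have hκ0 : ∀ s, κ (θ.codRestrict S' hm s) = π (ι s) := fun s =>
    MonoidHom.liftOfRightInverse_comp_apply _ _ _ _ s
  have hκ : ∀ x ∈ S, fn κ (fn θ x) = π (fn ι x) := fun x hx => by
    rw [fn_apply θ hx, fn_apply ι hx, fn_apply κ (hm _)]
    exact hκ0 ⟨x, hx⟩
  have hinj : Function.Injective κ := by
    rw [injective_iff_map_eq_one]
    intro y hy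
    obtain ⟨s, rfl⟩ := hs y
    rw [hκ0, ← MonoidHom.mem_ker, hk] at hy
    obtain ⟨a, ha, e⟩ := hy
    rw [← h.1 e]
    exact Subtype.ext ((hE.2.1 a).2 ha)
  refine ⟨κ, isRealizedBy_of_mor hinj (fun P f' hf' => ?_) fun P f' γ hP hf' hγ => ?_, ?_⟩
  · obtain ⟨hP, f, hf, e⟩ := (factor_mor_iff hE).1 hf'
    obtain ⟨g, hg⟩ := Realized.exists_conj h hf
    refine ⟨π g, fun y hy => ?_⟩
    obtain ⟨x, hx, rfl⟩ := factor_exists_preimage hE hP hy
    rw [e x hx, hκ _ (hf.mem hx), hκ _ (hf.le hx), hg x hx, map_mul, map_mul, map_inv]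
  · obtain ⟨g, rfl⟩ := hπ γ
    have h1 : ∀ x ∈ preimageAlong θ P, π (g * fn ι x * g⁻¹) = fn κ (f' (fn θ x)) := by
      intro x hx
      obtain ⟨hx1, hx2⟩ := mem_preimageAlong.1 hx
      rw [hγ _ hx2, hκ x hx1, map_mul, map_mul, map_inv]
    obtain ⟨f, hf, e⟩ := Realized.exists_mor h (P := preimageAlong θ P) preimageAlong_le (g := g)
      fun x hx => by
        obtain ⟨s, hs, e⟩ := factor_exists_preimage hE le_rfl
          (hf' _ (mem_preimageAlong.1 hx).2)
        have h2 := h1 x hx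
        rw [← e, hκ s (preimageAlong_le hs), eq_comm, ← inv_mul_eq_one, ← map_inv, ← map_mul,
          ← MonoidHom.mem_ker, hk] at h2
        have h3 : (fn ι s)⁻¹ * (g * fn ι x * g⁻¹) ∈ ι.range := map_le_range _ _ h2
        exact (mul_mem_cancel_left (ι.range.inv_mem (fn_mem_range ι s))).1 h3
    refine (factor_mor_iff hE).2 ⟨hP, f, hf, fun x hx => ?_⟩
    refine fn_inj hinj (hf' _ (mem_preimageAlong.1 hx).2) (factor_mem hE (hf.mem hx)) ?_
    rw [← h1 x hx, hκ _ (hf.mem hx), e x hx]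
  · ext l
    constructor
    · rintro ⟨y, rfl⟩
      obtain ⟨s, rfl⟩ := hs y
      exact ⟨ι s, ⟨s, rfl⟩, (hκ0 s).symm⟩
    · rintro ⟨_, ⟨s, rfl⟩, rfl⟩
      exact ⟨_, hκ0 s⟩

variable {p : ℕ} [Fact p.Prime]

theorem realizable_factor (hA : F.IsCentral A) (hE : F.IsFactorSystem A θ E)
    (h : F.IsRealizable p) : E.IsRealizable p := by
  obtain ⟨G, _, _, ι, h, T, hT⟩ := h
  have hH : ∀ s, ι s ∈ centralizer ((A.subgroupOf S).map ι : Set G) := by
    intro s
    refine mem_centralizer_iff.2 ?_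
    rintro _ ⟨a, ha, rfl⟩
    rw [← map_mul, ← map_mul]
    refine congrArg ι (Subtype.ext ?_)
    have := comm_of_isCentral hA ha s.2
    rw [mul_inv_eq_iff_eq_mul] at this
    exact this.symm
  have h' := realized_centralizer hA h hH
  set H := centralizer ((A.subgroupOf S).map ι : Set G)
  have hTH : (T : Subgroup G) ≤ H := by
    rw [hT]
    rintro _ ⟨s, rfl⟩
    exact hH s
  have hT' : (T.subtype hTH : Subgroup H) = (ι.codRestrict H hH).range := by
    ext y
    rw [Sylow.coe_subtype, mem_subgroupOf, hT]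
    exact ⟨fun ⟨s, e⟩ => ⟨s, Subtype.ext e⟩, fun ⟨s, e⟩ => ⟨s, congrArg Subtype.val e⟩⟩
  have hN : ((A.subgroupOf S).map (ι.codRestrict H hH)).Normal := by
    refine ⟨?_⟩
    rintro _ ⟨a, ha, rfl⟩ g
    refine ⟨a, ha, Subtype.ext ?_⟩
    have := mem_centralizer_iff.1 g.2 (ι a) ⟨a, ha, rfl⟩
    change ι a = g * ι a * (g : G)⁻¹
    rw [← this, mul_inv_cancel_right]
  obtain ⟨κ, h1, h2⟩ := realized_factor hE h' (QuotientGroup.mk'_surjective _)
    (QuotientGroup.ker_mk' ((A.subgroupOf S).map (ι.codRestrict H hH)))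
  refine isRealizable_of_isRealizedBy h1
    ((T.subtype hTH).mapSurjective (QuotientGroup.mk'_surjective _)) ?_
  rw [Sylow.coe_mapSurjective, hT', h2]

theorem realizable_of_factor [Finite S] (hu : H1.ML.UniqStmt.{u, max u v}) (hS : IsPGroup p S)
    (hF : F.IsSaturated p) (hA : F.IsCentral A) (hE : F.IsFactorSystem A θ E)
    (h : E.IsRealizable p) : F.IsRealizable p := by
  classical
  obtain ⟨L, _, _, κ, h, T, hT⟩ := h
  have hm : ∀ s, θ s ∈ S' := fun s => hE.2.2.1 ▸ ⟨s, rfl⟩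
  let θ' : S →* L := κ.comp (θ.codRestrict S' hm)
  have hθ' : ∀ (x : Ω) (hx : x ∈ S), θ' ⟨x, hx⟩ = fn κ (fn θ x) := fun x hx => by
    rw [fn_apply θ hx, fn_apply κ (hm _)]; rfl
  have hker : θ'.ker = A.subgroupOf S := by
    ext s
    rw [MonoidHom.mem_ker, mem_subgroupOf, ← hE.2.1 s]
    exact ⟨fun e => congrArg Subtype.val (h.1 (e.trans (map_one κ).symm)),
      fun e => (congrArg κ (Subtype.ext e)).trans (map_one κ)⟩
  have hr : θ'.range = κ.range := by
    ext l
    constructor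
    · rintro ⟨s, rfl⟩
      exact ⟨_, rfl⟩
    · rintro ⟨⟨y, hy⟩, rfl⟩
      rw [← hE.2.2.1] at hy
      obtain ⟨s, rfl⟩ := hy
      exact ⟨s, rfl⟩
  have hidx : ¬ p ∣ θ'.range.index := by
    rw [hr, ← hT]
    exact T.not_dvd_index
  obtain ⟨G, _, _, π, ι, hπ, hι, hπι, hk, hc⟩ := MlExt.extStmt.{u, v} S L p hS θ'
    (by
      rw [hker]
      intro a ha
      refine mem_center_iff.2 fun s => Subtype.ext ?_
      have := comm_of_isCentral hA ha s.2
      rw [mul_inv_eq_iff_eq_mul] at this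
      exact this) hidx
    (by
      intro g
      let P' := pre κ (κ.range.comap (MulAut.conj g).toMonoidHom)
      obtain ⟨f', hf', e'⟩ := Realized.exists_mor h (P := P') (pre_le _ _) (g := g)
        fun y hy => (mem_pre.1 hy).2
      obtain ⟨-, f, hf, e⟩ := (factor_mor_iff hE).1 hf'
      have hP : ∀ s : S, g * θ' s * g⁻¹ ∈ θ'.range → (s : Ω) ∈ preimageAlong θ P' := by
        intro s hs
        rw [hr, hθ' s s.2] at hs
        exact mem_preimageAlong.2 ⟨s.2, mem_pre.2 ⟨factor_mem hE s.2, hs⟩⟩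
      let φ : S → S := fun s => if h : f s ∈ S then ⟨f s, h⟩ else 1
      have hφ : ∀ (s : S) (hs : (s : Ω) ∈ preimageAlong θ P'), φ s = ⟨f s, hf.mem hs⟩ :=
        fun s hs => dif_pos (hf.mem hs)
      refine ⟨φ, fun a ha => ?_, fun s hs => ⟨?_, fun t ht => ?_⟩⟩
      · rw [hker] at ha
        rw [hφ a (factor_ker_le hE ha)]
        exact Subtype.ext (hf.fix_of_isCentral hA (factor_ker_le hE ha) ha)
      · rw [hφ s (hP s hs), hθ', ← e _ (hP s hs), e' _ (mem_preimageAlong.1 (hP s hs)).2,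
          hθ' s s.2]
      · rw [hφ s (hP s hs), hφ t (hP t ht), hφ (s * t) (mul_mem (hP s hs) (hP t ht))]
        exact Subtype.ext (hf.map_mul (hP s hs) (hP t ht)))
  rw [hker] at hk
  have hpi : IsPGroup p ι.range := hS.of_surjective _ ι.rangeRestrict_surjective
  have hcomap : ι.range = θ'.range.comap π := by
    ext y
    constructor
    · rintro ⟨s, rfl⟩
      exact ⟨s, (hπι s).symm⟩
    · rintro ⟨s, hs⟩
      rw [← hπι, ← inv_mul_eq_one, ← map_inv, ← map_mul, ← MonoidHom.mem_ker, hk] at hs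
      exact (mul_mem_cancel_left (ι.range.inv_mem ⟨s, rfl⟩)).1 (map_le_range _ _ hs)
  have hidx' : ¬ p ∣ ι.range.index := by
    rw [hcomap, index_comap_of_surjective _ hπ]
    exact hidx
  obtain ⟨α, h1, h2⟩ := hu Ω S p F hF A hA G ι (hpi.toSylow hidx') hι rfl (hk ▸ hc)
    (fun P hP hAP φ hφ => by
      have hf := mor_of_mem hφ
      obtain ⟨f', e⟩ := hf.exists_induced (factor_ker hE) (stronglyClosed_of_isCentral hA)
      obtain ⟨l, hl⟩ := Realized.exists_conj h (hf.factor_mor hE hAP e)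
      obtain ⟨g, rfl⟩ := hπ l
      refine ⟨g, fun x hx => ?_⟩
      rw [← hk, MonoidHom.mem_ker, map_mul, map_inv, map_mul, map_mul, map_inv, hπι, hπι, hθ',
        hθ', ← hl _ (mem_img_of_mem _ x.2), e _ x.2, fn_coe, mul_inv_cancel])
    (fun P hP hAP g hg => by
      obtain ⟨f', hf', e'⟩ := Realized.exists_mor h (factor_img_le hE hP) (g := π g)
        fun y hy => by
          obtain ⟨x, hx, rfl⟩ := (mem_img_fn hP).1 hy
          have := hg ⟨x, hx⟩
          rw [hcomap, mem_comap, map_mul, map_mul, map_inv, hπι, hθ', hr] at this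
          exact this
      obtain ⟨-, f, hf, e⟩ := (factor_mor_iff hE).1 hf'
      have hle : P ≤ preimageAlong θ (img P (fn θ)) := by
        rw [factor_preimage_img hE hP]
        exact le_sup_left
      refine ⟨(hf.mono hle).homOn.toHom, (hf.mono hle).toHom_mem, fun x hx => ?_⟩
      rw [← hk, MonoidHom.mem_ker, map_mul, map_inv, map_mul, map_mul, map_inv, hπι, hπι, hθ',
        hθ', ← e' _ (mem_img_of_mem _ x.2), e _ (hle x.2)]
      exact mul_inv_cancel _)
  exact isRealizable_of_isRealizedBy h1 _ h2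

end

/-- The statement of S5242 from the uniqueness statement. -/
theorem final (hu : H1.ML.UniqStmt.{u, max u v}) {Ω : Type u} [Group Ω] {S : Subgroup Ω}
    [Finite S] (p : ℕ) [Fact p.Prime] (hS : IsPGroup p S) (F : Cfsg.FusionSystem S)
    (hF : F.IsSaturated p) (A : Subgroup Ω) (hA : F.IsCentral A) {Ω' : Type v} [Group Ω']
    {S' : Subgroup Ω'} [Finite S'] (θ : ↥S →* Ω') (E : Cfsg.FusionSystem S')
    (hE : F.IsFactorSystem A θ E) : F.IsExotic p ↔ E.IsExotic p :=
  ⟨fun h => ⟨factor_saturated hS hF hE (stronglyClosed_of_isCentral hA),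
      fun h' => h.2 (realizable_of_factor hu hS hF hA hE h')⟩,
    fun h => ⟨hF, fun h' => h.2 (realizable_factor hA hE h')⟩⟩

end Cfsg.Agent.H38.MlFinal
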