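import Cfsg.Agent.H95.ParBase
import Cfsg.Agent.H48.Rep

/-!
# Project PAR, piece DET: a determinant on a common eigenspace
-/

set_option autoImplicit false
set_option linter.unusedSectionVars false

namespace Cfsg.Agent.H38.ParDet

open Cfsg Subgroup Cfsg.Agent.H48 Cfsg.Agent.H48.Rec Cfsg.Agent.H49 Cfsg.Agent.H95.Par Complex Module

theorem hc : (8 : ℂ) * 8⁻¹ = 1 := by norm_num

/-- the complex representation -/
noncomputable abbrev ρ : Co0 →* Module.End ℂ (GolayPt → ℂ) := repHom hc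

theorem ρ_neg : ρ negEl = -1 := by
  have : repM (8⁻¹ : ℂ) negEl = -1 := by
    rw [← repM_one hc]
    ext i j
    simp [repM, negEl_smul]
  change Matrix.toLin' (repM (8⁻¹ : ℂ) negEl) = -1
  rw [this, map_neg, Matrix.toLin'_one]; rfl

theorem ρ_tr (g : Co0) : LinearMap.trace ℂ _ (ρ g) = 8⁻¹ * (tr8 g : ℂ) := by
  change LinearMap.trace ℂ _ (Matrix.toLin' (repM (8⁻¹ : ℂ) g)) = _
  rw [Matrix.trace_toLin'_eq]
  simp only [Matrix.trace, Matrix.diag, repM, tr8, Int.cast_sum, Finset.mul_sum]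

theorem eq_zero_of_fix {g : Co0} (h : Fpf g) (v : Lam) (hv : g • v = v) : v = 0 := by
  have key : ∀ n : ℕ, ∀ v : Lam, g • v = v → ∃ u : Lam, v = 2 ^ n • u ∧ g • u = u := by
    intro n
    induction n with
    | zero => exact fun v hv => ⟨v, by simp, hv⟩
    | succ n ih =>
      intro v hv
      obtain ⟨u, rfl, hu⟩ := ih v hv
      obtain ⟨w, hw⟩ := h u ⟨0, by rw [hu]; simp⟩
      rw [zero_add] at hw
      refine ⟨w, by rw [hw, ← two_smul ℕ, smul_smul, pow_succ], ?_⟩
      rw [hw, smul_add, ← two_smul ℕ, ← two_smul ℕ] at hu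
      exact smul_right_injective _ two_ne_zero hu
  ext i
  obtain ⟨u, hu, -⟩ := key (v.1 i).natAbs v hv
  have h1 : ((2 ^ (v.1 i).natAbs : ℕ) : ℤ) ∣ v.1 i := ⟨u.1 i, by
    conv_lhs => rw [hu]
    simp⟩
  exact Int.eq_zero_of_dvd_of_natAbs_lt_natAbs h1 (by simpa using Nat.lt_two_pow_self)

theorem ρ_cube {ω : Co0} (h3 : ω ^ 3 = 1) (h : Fpf ω) : ρ ω * ρ ω + ρ ω + 1 = 0 := by
  have h1 : ∀ v : Lam, (ω * ω) • v + ω • v + v = 0 := fun v => eq_zero_of_fix h _ (by
    rw [smul_add, smul_add, smul_smul, smul_smul, ← mul_assoc, ← pow_three', h3, one_smul]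
    abel)
  have h2 : repM (8⁻¹ : ℂ) (ω * ω) + repM (8⁻¹ : ℂ) ω + repM (8⁻¹ : ℂ) 1 = 0 := by
    ext i j
    have := congrArg (fun v : Lam => ((v.1 i : ℤ) : ℂ)) (h1 (e8 j))
    simp only [AddSubgroup.coe_add, Pi.add_apply, Int.cast_add, ZeroMemClass.coe_zero,
      Pi.zero_apply, Int.cast_zero] at this
    simp only [Matrix.add_apply, repM, one_smul, Matrix.zero_apply]
    linear_combination 8⁻¹ * this
  rw [← map_mul, ← map_one ρ]
  change Matrix.toLin' _ + Matrix.toLin' _ + Matrix.toLin' _ = 0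
  rw [← map_add, ← map_add, h2, map_zero]

section

variable {V : Type} [AddCommGroup V] [Module ℂ V] [FiniteDimensional ℂ V] {J W : Module.End ℂ V}

/-- the projection onto the common eigenspace -/
noncomputable def P (J W : Module.End ℂ V) : Module.End ℂ V :=
  (2 * I * √3 : ℂ)⁻¹ • ((1 - I • J) * (W - ((-1 - I * √3) / 2 : ℂ) • 1))

theorem s3 : ((√3 : ℝ) : ℂ) * (√3 : ℝ) = 3 := by
  rw [← ofReal_mul, Real.mul_self_sqrt (by norm_num)]; norm_num

theorem s0 : (2 * I * √3 : ℂ) ≠ 0 :=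
  mul_ne_zero (mul_ne_zero two_ne_zero I_ne_zero) (by simp)

theorem P_comm {g : Module.End ℂ V} (h1 : Commute g J) (h2 : Commute g W) : Commute g (P J W) :=
  (((Commute.one_right g).sub_right (h1.smul_right _)).mul_right
    (h2.sub_right ((Commute.one_right g).smul_right _))).smul_right _

theorem J_P (hJ : J * J = -1) : J * P J W = I • P J W := by
  have : J * (1 - I • J) = I • (1 - I • J) := by
    rw [mul_sub, mul_one, mul_smul_comm, hJ, smul_sub, smul_smul, I_mul_I]
    simp [add_comm]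
  rw [P, mul_smul_comm, ← mul_assoc, this, smul_mul_assoc, smul_comm]

theorem P_idem (hJ : J * J = -1) (hW : W * W + W + 1 = 0) (hc : Commute J W) :
    IsIdempotentElem (P J W) := by
  set A : Module.End ℂ V := 1 - I • J with hA
  set B : Module.End ℂ V := W - ((-1 - I * √3) / 2 : ℂ) • 1 with hB
  have h1 : A * A = (2 : ℂ) • A := by
    simp only [hA, mul_sub, sub_mul, mul_one, one_mul, mul_smul_comm, smul_mul_assoc, hJ]
    match_scalars
    · linear_combination (-1 : ℂ) * I_mul_I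
    · ring
  have h2 : B * B = (I * √3 : ℂ) • B := by
    have : W * W = -W - 1 := by rw [← sub_eq_zero, ← hW]; abel
    simp only [hB, mul_sub, sub_mul, mul_one, one_mul, mul_smul_comm, smul_mul_assoc, this]
    match_scalars
    · ring
    · linear_combination (-(√3 * √3 : ℂ) / 4) * I_mul_I + (1 / 4 : ℂ) * s3
  have h3 : Commute A B :=
    ((Commute.one_left B).sub_left
      ((hc.sub_right ((Commute.one_right J).smul_right _)).smul_left _))
  change P J W * P J W = P J W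
  rw [P, ← hA, ← hB, smul_mul_assoc, mul_smul_comm, h3.symm.mul_mul_mul_comm, h1, h2,
    smul_mul_assoc, mul_smul_comm, smul_smul, smul_smul, smul_smul]
  congr 1
  have := s0
  field_simp

theorem rank_P (hJ : J * J = -1) (hW : W * W + W + 1 = 0) (hc : Commute J W)
    (hV : finrank ℂ V = 24) {a b t : ℤ} (ha : LinearMap.trace ℂ _ J = 8⁻¹ * (a : ℂ))
    (hb : LinearMap.trace ℂ _ W = 8⁻¹ * (b : ℂ)) (ht : LinearMap.trace ℂ _ (J * W) = 8⁻¹ * (t : ℂ)) :
    finrank ℂ (LinearMap.range (P J W)) = 6 := by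
  have h1 := (LinearMap.IsIdempotentElem.isProj_range _ (P_idem hJ hW hc)).trace
  set n := finrank ℂ (LinearMap.range (P J W))
  rw [P, map_smul, smul_eq_mul, inv_mul_eq_iff_eq_mul₀ s0] at h1
  simp only [mul_sub, sub_mul, mul_one, one_mul, mul_smul_comm, smul_mul_assoc, map_sub, map_smul,
    ha, hb, ht, smul_eq_mul, LinearMap.trace_one, hV] at h1
  have h2 := congrArg im h1
  simp at h2
  by_contra hn
  have h3 : ((16 * (12 - 2 * (n : ℤ)) : ℤ) : ℝ) ≠ 0 := by
    rw [Int.cast_ne_zero]; omega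
  refine Nat.prime_three.irrational_sqrt.ne_rational (2 * t + a) (16 * (12 - 2 * (n : ℤ))) ?_
  rw [eq_div_iff h3]
  push_cast
  linarith

end

theorem det : DetStmt := by
  intro j ω hj h3 hf hjω k hk hkj
  have hJ : ρ j * ρ j = -1 := by rw [← map_mul, hj, ρ_neg]
  have hW := ρ_cube h3 hf
  have hc : Commute (ρ j) (ρ ω) := (show Commute j ω from hjω).map ρ
  have hr := rank_P hJ hW hc (by simp) (ρ_tr j) (ρ_tr ω)
    (by rw [← map_mul]; exact ρ_tr _)
  set U := LinearMap.range (P (ρ j) (ρ ω)) with hU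
  let C : Subgroup Co0 := centralizer {j} ⊓ centralizer {ω}
  have hmap : ∀ g : C, ∀ x ∈ U, ρ g x ∈ U := by
    rintro g _ ⟨y, rfl⟩
    have h1 : Commute (g : Co0) j := mem_centralizer_singleton_iff.1 g.2.1
    have h2 : Commute (g : Co0) ω := mem_centralizer_singleton_iff.1 g.2.2
    exact ⟨ρ g y, (LinearMap.congr_fun (P_comm (h1.map ρ) (h2.map ρ)).eq y).symm⟩
  let d : C →* ℂ :=
    { toFun := fun g => LinearMap.det ((ρ g).restrict (hmap g))
      map_one' := by
        rw [← LinearMap.det_id (A := ℂ) (M := U)]; congr 1; ext x; simp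
      map_mul' := fun g h => by
        rw [← map_mul LinearMap.det]; congr 1; ext x; simp }
  let K : Subgroup Co0 :=
    { carrier := {g | ∃ h : g ∈ C, ∃ m, Odd m ∧ d ⟨g, h⟩ ^ m = 1}
      one_mem' := ⟨one_mem _, 1, odd_one, by rw [pow_one]; exact map_one d⟩
      mul_mem' := by
        rintro a b ⟨ha, m, hm, e⟩ ⟨hb, n, hn, e'⟩
        refine ⟨mul_mem ha hb, m * n, hm.mul hn, ?_⟩
        change d (⟨a, ha⟩ * ⟨b, hb⟩) ^ (m * n) = 1
        rw [map_mul, mul_pow, pow_mul, e, mul_comm m, pow_mul, e', one_pow, one_pow, one_mul]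
      inv_mem' := by
        rintro a ⟨ha, m, hm, e⟩
        refine ⟨inv_mem ha, m, hm, ?_⟩
        change d (⟨a, ha⟩⁻¹) ^ m = 1
        rw [map_inv, inv_pow, e, inv_one] }
  obtain ⟨hkC, m, hm, e⟩ : k ∈ K := by
    refine (closure_le K).2 ?_ hk
    rintro g ⟨h1, h2, h4⟩
    have hg : g ∈ C := ⟨mem_centralizer_singleton_iff.2 h1, mem_centralizer_singleton_iff.2 h2⟩
    refine ⟨hg, orderOf g, h4, ?_⟩
    rw [← map_pow, ← map_one d]
    congr 1
    exact Subtype.ext (pow_orderOf_eq_one g)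
  have hJU : ∀ x ∈ U, ρ j x = I • x := by
    rintro _ ⟨y, rfl⟩
    exact LinearMap.congr_fun (J_P (W := ρ ω) hJ) y
  have fin : ∀ c : ℂ, c ^ 6 = -1 → (∀ x ∈ U, ρ k x = c • x) → False := fun c h1 h2 => by
    have h4 : d ⟨k, hkC⟩ = -1 := by
      change LinearMap.det ((ρ k).restrict (hmap ⟨k, hkC⟩)) = -1
      rw [show (ρ k).restrict (hmap ⟨k, hkC⟩) = c • LinearMap.id from
        LinearMap.ext fun x => Subtype.ext (h2 x x.2), LinearMap.det_smul, hr, h1,
        LinearMap.det_id, mul_one]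
    rw [h4, hm.neg_one_pow] at e
    norm_num at e
  have i6 : I ^ 6 = -1 := by rw [show 6 = 2 * 3 from rfl, pow_mul, I_sq]; norm_num
  rcases mk1_eq.1 hkj with rfl | rfl
  · exact fin I i6 hJU
  · refine fin (-I) (by rw [neg_pow, i6]; norm_num) fun x hx => ?_
    rw [map_mul, ρ_neg, Module.End.mul_apply, LinearMap.neg_apply, Module.End.one_apply, map_neg,
      hJU x hx, neg_smul]

end Cfsg.Agent.H38.ParDet
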