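import Cfsg.Agent.H42.PcDefs
import Cfsg.Agent.H89.PBasic

/-! Project PC: a chief factor at the top of a normal `2`-subgroup. -/

set_option autoImplicit false
set_option linter.unusedVariables false

namespace Cfsg.Agent.H38.PcW

open Subgroup Cfsg.Agent.H42.Pc

universe u

theorem core {G : Type u} [Group G] [Finite G] {U Z : Subgroup G} (nU : U.Normal) (nZ : Z.Normal)
    (pU : IsPGroup 2 U) (le : Z ≤ U) (ne : Z ≠ ⊥)
    (mn : ∀ D : Subgroup G, D.Normal → D ≤ Z → D = ⊥ ∨ Z ≤ D) :
    ∀ x ∈ Z, x * x = 1 ∧ ∀ a ∈ U, a * x = x * a := by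
  have := Fact.mk Nat.prime_two
  have c : Z ≤ centralizer (U : Set G) := by
    rcases mn (Z ⊓ centralizer (U : Set G)) inferInstance inf_le_left with e | e
    · exfalso
      have h1 : Z.subgroupOf U ≠ ⊥ := fun h =>
        ne ((subgroupOf_eq_bot.1 h).eq_bot_of_le le)
      refine H89.inf_center_ne_bot pU h1 ((eq_bot_iff_forall _).2 fun x hx => ?_)
      have h2 : (x : G) ∈ Z ⊓ centralizer (U : Set G) :=
        ⟨hx.1, mem_centralizer_iff.2 fun a ha =>
          congrArg Subtype.val (mem_center_iff.1 hx.2 ⟨a, ha⟩)⟩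
      rw [e, mem_bot] at h2
      exact Subtype.ext h2
    · exact e.trans inf_le_right
  have cm : ∀ x ∈ Z, ∀ a ∈ U, a * x = x * a := fun x hx a ha => mem_centralizer_iff.1 (c hx) a ha
  let D : Subgroup G :=
    { carrier := {x | x ∈ Z ∧ x * x = 1}
      one_mem' := ⟨one_mem _, one_mul _⟩
      mul_mem' := by
        rintro a b ⟨ha, a2⟩ ⟨hb, b2⟩
        refine ⟨mul_mem ha hb, ?_⟩
        calc a * b * (a * b) = a * (b * a) * b := by group
          _ = a * (a * b) * b := by rw [cm a ha b (le hb)]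
          _ = (a * a) * (b * b) := by group
          _ = 1 := by rw [a2, b2, one_mul]
      inv_mem' := by
        rintro a ⟨ha, a2⟩
        exact ⟨inv_mem ha, by rw [← mul_inv_rev, a2, inv_one]⟩ }
  have nD : D.Normal := ⟨by
    rintro a ⟨ha, a2⟩ g
    refine ⟨nZ.conj_mem a ha g, ?_⟩
    calc g * a * g⁻¹ * (g * a * g⁻¹) = g * (a * a) * g⁻¹ := by group
      _ = 1 := by rw [a2]; group⟩
  rcases mn D nD (fun x hx => hx.1) with e | e
  · exfalso
    have pZ : IsPGroup 2 Z := pU.to_le le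
    have : Nontrivial Z := (nontrivial_iff_ne_bot Z).2 ne
    obtain ⟨n, hn, hc⟩ := pZ.nontrivial_iff_card.1 this
    obtain ⟨x, hx⟩ := exists_prime_orderOf_dvd_card' (G := Z) 2
      (by rw [hc]; exact dvd_pow_self 2 hn.ne')
    have h1 : (x : G) ∈ D := ⟨x.2, by
      have := pow_orderOf_eq_one x
      rw [hx, pow_two] at this
      exact congrArg Subtype.val this⟩
    rw [e, mem_bot] at h1
    rw [show x = 1 from Subtype.ext h1, orderOf_one] at hx
    omega
  · exact fun x hx => ⟨(e hx).2, cm x hx⟩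

theorem ww : WStmt.{u} := by
  intro G _ _ U Z nU nZ pU le ne
  obtain ⟨W, ⟨nW, WZ, hW⟩, mx⟩ := Set.Finite.exists_maximal
    (Set.toFinite {W : Subgroup G | W.Normal ∧ W ≤ Z ∧ ¬ Z ≤ W})
    ⟨⊥, inferInstance, bot_le, fun h => ne (le_bot_iff.1 h)⟩
  refine ⟨W, nW, WZ, hW, fun x hx => ?_⟩
  have sj := QuotientGroup.mk'_surjective W
  have key := core (G := G ⧸ W) (nU.map _ sj) (nZ.map _ sj) (pU.map (QuotientGroup.mk' W))
    (map_mono le) (fun h => hW (by rwa [Subgroup.map_eq_bot_iff, QuotientGroup.ker_mk'] at h)) (by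
      intro D nD hD
      have h1 : D.comap (QuotientGroup.mk' W) ≤ Z := by
        have := comap_mono (f := QuotientGroup.mk' W) hD
        rwa [comap_map_eq, QuotientGroup.ker_mk', sup_eq_left.2 WZ] at this
      have h2 : W ≤ D.comap (QuotientGroup.mk' W) := by
        have := ker_le_comap (QuotientGroup.mk' W) D
        rwa [QuotientGroup.ker_mk'] at this
      by_cases h3 : Z ≤ D.comap (QuotientGroup.mk' W)
      · exact Or.inr (map_le_iff_le_comap.2 h3)
      · left
        have h4 := mx ⟨nD.comap _, h1, h3⟩ h2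
        rw [← map_comap_eq_self_of_surjective sj D, Subgroup.map_eq_bot_iff, QuotientGroup.ker_mk']
        exact h4) _ (mem_map_of_mem _ hx)
  refine ⟨?_, fun a ha => ?_⟩
  · rw [← QuotientGroup.ker_mk' W, MonoidHom.mem_ker, map_mul]
    exact key.1
  · rw [← QuotientGroup.ker_mk' W, MonoidHom.mem_ker, map_mul, map_mul, map_mul,
      key.2 _ (mem_map_of_mem _ ha), map_inv, map_inv]
    group

end Cfsg.Agent.H38.PcW
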