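import Cfsg.Agent.H46.J1Defs

/-!
# Standard subgroups of type `J₁`: the uniqueness of `4³`
-/

set_option autoImplicit false
open scoped Pointwise commutatorElement
open Subgroup

namespace Cfsg.Agent.H38.S94JU
open Cfsg.Agent.H46.S94

universe u

local notation "C[" A "]" => Subgroup.centralizer (SetLike.coe A)
local notation "N[" A "]" => Subgroup.normalizer (SetLike.coe A)

variable {G : Type u} [Group G] [Finite G]

theorem card_rel (K B : Subgroup G) : Nat.card (K ⊓ B : Subgroup G) * K.relIndex B = Nat.card B := by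
  rw [← Subgroup.card_mul_index (K.subgroupOf B), relIndex, ← inf_subgroupOf_right,
    Nat.card_congr (subgroupOfEquivOfLe (inf_le_right : K ⊓ B ≤ B)).toEquiv]

theorem mem_zp {z x : G} (hz : z * z = 1) (hx : x ∈ zpowers z) : x = 1 ∨ x = z := by
  obtain ⟨n, rfl⟩ := hx
  have h2 : z ^ (2 : ℤ) = 1 := by rw [zpow_two, hz]
  rcases Int.even_or_odd' n with ⟨k, rfl | rfl⟩
  · left; simp only [zpow_mul, h2, one_zpow]
  · right; simp only [zpow_add, zpow_mul, h2, one_zpow, zpow_one, one_mul]

/-- squaring -/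
theorem card_sq {V D : Subgroup G} (ab : Ab D) (ex : ∀ x ∈ D, x * x ∈ V)
    (om : ∀ x ∈ D, x * x = 1 → x ∈ V) :
    Nat.card D ≤ Nat.card (D ⊓ V : Subgroup G) * Nat.card (D ⊓ V : Subgroup G) := by
  let f : D →* G :=
    { toFun := fun x => (x : G) * x
      map_one' := by simp
      map_mul' := fun x y => by
        have := ab _ x.2 _ y.2
        simp only [coe_mul]
        calc (x : G) * y * (x * y) = x * (y * x) * y := by group
          _ = _ := by rw [← this]; group }
  have h1 : f.range ≤ D ⊓ V := by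
    rintro _ ⟨x, rfl⟩
    exact ⟨mul_mem x.2 x.2, ex _ x.2⟩
  have h2 : f.ker.map D.subtype ≤ D ⊓ V := by
    rintro _ ⟨x, hx, rfl⟩
    exact ⟨x.2, om _ x.2 hx⟩
  have h3 := card_le_of_le h2
  rw [card_map_of_injective D.subtype_injective] at h3
  rw [← Subgroup.card_mul_index f.ker, index_ker]
  exact Nat.mul_le_mul h3 (card_le_of_le h1)

theorem card_cases {V W : Subgroup G} (cV : Nat.card V = 8) (h : W ≤ V) :
    Nat.card W ≤ 2 ∨ Nat.card W = 4 ∨ W = V := by
  have h1 := card_dvd_of_le h
  rw [cV] at h1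
  have h2 := Nat.le_of_dvd (by norm_num) h1
  by_cases e : Nat.card W = 8
  · exact Or.inr (Or.inr (eq_of_le_of_card_ge h (by omega)))
  · generalize Nat.card W = n at *
    interval_cases n <;> simp_all

theorem half {V T B W : Subgroup G} {z : G} (cV : Nat.card V = 8) (hz : z * z = 1)
    (hT : B ⊓ C[V] ≤ T) (pz : ∀ p ∈ B, Tz V z p) (WV : W ≤ V) (hB : B ≤ C[W])
    (cW : 3 ≤ Nat.card W) : Nat.card B ≤ 2 * Nat.card (B ⊓ T : Subgroup G) := by
  rcases card_cases cV WV with e | e | e
  · omega
  · obtain ⟨v, hv, hw⟩ : ∃ v ∈ V, v ∉ W := by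
      by_contra hn
      push Not at hn
      have := card_le_of_le (show V ≤ W from hn)
      omega
    have gen : W ⊔ zpowers v = V := by
      have l : W ⊔ zpowers v ≤ V := sup_le WV (zpowers_le.2 hv)
      have l2 := card_le_of_le (le_sup_left : W ≤ W ⊔ zpowers v)
      rcases card_cases cV l with k | k | k
      · omega
      · exact absurd (eq_of_le_of_card_ge (le_sup_left : W ≤ W ⊔ zpowers v) (by omega) ▸
          mem_sup_right (mem_zpowers v)) hw
      · exact k
    have l3 : centralizer {v} ⊓ B ≤ B ⊓ T := by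
      rintro b ⟨h1, h2⟩
      refine ⟨h2, hT ⟨h2, ?_⟩⟩
      have : V ≤ centralizer {b} := by
        rw [← gen]
        refine sup_le (fun w hw => mem_centralizer_singleton_iff.2 ((hB h2) w hw)) (zpowers_le.2 ?_)
        exact mem_centralizer_singleton_iff.2 (mem_centralizer_singleton_iff.1 h1).symm
      exact fun w hw => mem_centralizer_singleton_iff.1 (this hw)
    have l4 : (centralizer {v}).relIndex B ∣ 2 := by
      rw [relIindex_dvd_two_iff']
      have cs : ∀ b ∈ B, b ∉ centralizer {v} → b * v * b⁻¹ = z * v := by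
        intro b hb hn
        rcases mem_zp hz (pz b hb v hv) with k | k
        · refine absurd (mem_centralizer_singleton_iff.2 ?_) hn
          rwa [mul_inv_eq_one, mul_inv_eq_iff_eq_mul] at k
        · rwa [mul_inv_eq_iff_eq_mul] at k
      by_cases hx : ∃ a ∈ B, a ∉ centralizer {v}
      · obtain ⟨a, ha, ha'⟩ := hx
        refine ⟨a⁻¹, inv_mem ha, fun b hb => ?_⟩
        by_cases hb' : b ∈ centralizer {v}
        · exact Or.inr hb'
        · left
          have k := (cs a ha ha').trans (cs b hb hb').symm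
          rw [mem_centralizer_singleton_iff]
          calc a⁻¹ * b * v = a⁻¹ * (b * v * b⁻¹) * b := by group
            _ = _ := by rw [← k]; group
      · push Not at hx
        exact ⟨1, one_mem _, fun b hb => Or.inr (hx b hb)⟩
    have l5 := Nat.le_of_dvd (by norm_num) l4
    rw [← card_rel (centralizer {v}) B, mul_comm 2]
    exact Nat.mul_le_mul (card_le_of_le l3) l5
  · subst e
    have : B ≤ B ⊓ T := fun b hb => ⟨hb, hT ⟨hb, hB hb⟩⟩
    have := card_le_of_le this
    omega

theorem ju : JUStmt.{u} := by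
  intro G _ _ H V T R P z ζ ab VT el cV om hz HN PT ph
  have cT := ph.cT
  have cP := ph.card
  refine ⟨fun w hw => ?_, fun A AP abA cA => ?_⟩
  · by_contra hn
    have PT' : P ⊓ T = T := inf_eq_right.2 ph.TP
    have hC : P ≤ C[V ⊓ C[P]] := fun p hp x hx => (hx.2 p hp).symm
    obtain ⟨p, hp, v, hv, hpv⟩ : ∃ p ∈ P, ∃ v ∈ V, v * p ≠ p * v := by
      by_contra hc
      push Not at hc
      have : P ≤ T := fun p hp => PT ⟨hp, hc p hp⟩
      have := card_le_of_le this
      omega
    have ez : p * v * p⁻¹ * v⁻¹ = z := (mem_zp hz (ph.pz p hp v hv)).resolve_left fun k => hpv (by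
      rw [mul_inv_eq_one, mul_inv_eq_iff_eq_mul] at k
      exact k.symm)
    have z1 : z ≠ 1 := fun k => hpv (by
      rw [k, mul_inv_eq_one, mul_inv_eq_iff_eq_mul] at ez
      exact ez.symm)
    have zV : z ∈ V := by
      rw [← ez]
      refine mul_mem (om _ ((mem_normalizer_iff.1 (HN (ph.le hp)) v).1 (VT hv)) ?_) (inv_mem hv)
      calc p * v * p⁻¹ * (p * v * p⁻¹) = p * (v * v) * p⁻¹ := by group
        _ = 1 := by rw [el v hv]; group
    have zP : z ∈ C[P] := by
      intro q hq
      rcases mem_zp hz (ph.pz q hq z zV) with k | k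
      · rwa [mul_inv_eq_one, mul_inv_eq_iff_eq_mul] at k
      · rw [mul_inv_eq_iff_eq_mul, hz, mul_inv_eq_one, mul_eq_left] at k
        exact absurd k z1
    have c3 : 3 ≤ Nat.card (V ⊓ C[P] : Subgroup G) := by
      have l : zpowers z ≤ V ⊓ C[P] := zpowers_le.2 ⟨zV, zP⟩
      have c2 : Nat.card (zpowers z) = 2 := by
        rw [Nat.card_zpowers]
        exact orderOf_eq_prime (by rw [pow_two, hz]) z1
      by_contra hc
      exact hn (eq_of_le_of_card_ge l (by omega) ▸ hw)
    have := half cV hz PT ph.pz inf_le_left hC c3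
    rw [PT'] at this
    omega
  · have s := card_sq (V := V) (D := A ⊓ T) (fun x hx y hy => ab x hx.2 y hy.2)
      (fun x hx => ph.ex x hx.2) fun x hx => om x hx.2
    have r1 := card_rel T P
    have r2 := card_rel T A
    rw [inf_eq_left.2 ph.TP, cT, cP] at r1
    have r3 : T.relIndex A ≤ T.relIndex P := relIndex_le_of_le_right AP (by omega)
    have r4 : T.relIndex P = 4 := by omega
    rw [inf_comm, cA] at r2
    have r5 : 16 ≤ Nat.card (A ⊓ T : Subgroup G) := by nlinarith
    have hC : A ≤ C[A ⊓ T ⊓ V] := fun p hp x hx => abA x hx.1.1 p hp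
    have PT' : A ⊓ C[V] ≤ T := (inf_le_inf_right _ AP).trans PT
    have hf := half cV hz PT' (fun p hp => ph.pz p (AP hp)) inf_le_right hC (by nlinarith)
    rcases card_cases cV (inf_le_right : A ⊓ T ⊓ V ≤ V) with e | e | e
    · nlinarith
    · rw [e] at s
      omega
    · rw [e] at hC
      exact eq_of_le_of_card_ge (fun a ha => PT' ⟨ha, hC ha⟩) (by omega)

end Cfsg.Agent.H38.S94JU
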