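import Cfsg.Agent.Lead.T3Defs

/-!
# Project T3, piece SIG: coherent germs along an apartment
-/

set_option autoImplicit false
set_option linter.unusedSectionVars false

namespace Cfsg.Agent.H38.T3Sig

open Cfsg.Agent.Lead.T3 Cfsg.Agent.H35 Set

universe u

variable {I W : Type} [Group W] [Finite W] {X : Cox I W} {C C' : Type u} {B : Bld X C}
  {B' : Bld X C'}

theorem res_self (J : Set I) (x : C) : x ∈ B.res J x := by
  change B.δ x x ∈ X.WJ J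
  rw [(B.eq_one x x).2 rfl]; exact one_mem _

theorem res_mono {J K : Set I} (h : J ⊆ K) (x : C) : B.res J x ⊆ B.res K x :=
  fun _ hy => Subgroup.closure_mono (image_mono h) hy

theorem s_mem {J : Set I} {i : I} (h : i ∈ J) : X.s i ∈ X.WJ J := InvGen.s_mem_closure h

theorem pan_res {J : Set I} {i : I} (h : i ∈ J) {x y : C} (hy : y ∈ B.pan x i) : y ∈ B.res J x := by
  change B.δ x y ∈ X.WJ J
  rw [show B.δ x y = X.s i from hy]; exact s_mem h

theorem res_E2 (i j : I) (x : C) : B.res {i, j} x ⊆ B.E2 x := fun _ hy => ⟨i, j, hy⟩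

theorem germ_congr {φ ψ : C → C'} {c : C} (h : B.Germ B' φ c) (e : EqOn φ ψ (B.E2 c)) :
    B.Germ B' ψ c := fun i j => by
  refine ⟨fun x hx y hy => ?_, fun z hz => ?_⟩
  · rw [← e (res_E2 i j c hx), ← e (res_E2 i j c hy)]; exact (h i j).1 x hx y hy
  · rw [← e (res_E2 i j c (res_self _ c))] at hz
    obtain ⟨x, hx, rfl⟩ := (h i j).2 hz
    exact ⟨x, hx, (e (res_E2 i j c hx)).symm⟩

theorem link_congr {φ ψ ψ' : C → C'} {c d : C} (h : B.Link B' φ c ψ d) (e : EqOn ψ ψ' (B.E2 d)) :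
    B.Link B' φ c ψ' d :=
  ⟨h.1, fun i j x hx y hy => by rw [← e (res_E2 _ _ d hy)]; exact h.2 i j x hx y hy⟩

theorem three {α : Type*} {a b c : α} (p q : α) (h1 : a ≠ b) (h2 : a ≠ c) (h3 : b ≠ c) :
    (a ≠ p ∧ a ≠ q) ∨ (b ≠ p ∧ b ≠ q) ∨ (c ≠ p ∧ c ≠ q) := by
  grind

/-- The facts used. -/
structure Hy (B : Bld X C) (B' : Bld X C') : Prop where
  l1 : ∀ (φ : C → C') c d d', B.Germ B' φ c → B.Cpt B' φ c d d' →
    ∃ ψ, B.Germ B' ψ d ∧ ψ d = d' ∧ B.Link B' φ c ψ d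
  l2 : ∀ (φ ψ : C → C') c d, B.Link B' φ c ψ d → B.Link B' ψ d φ c ∧ B.Cpt B' φ c d (ψ d)
  l3 : ∀ (φ ψ φ₂ ψ₂ : C → C') c d c₂ d₂ (i j : I), B.Germ B' φ c → B.Germ B' ψ d →
    B.Germ B' ψ₂ d₂ → B.Link B' φ c ψ d → B.Link B' φ₂ c₂ ψ₂ d₂ → c₂ ∈ B.res {i, j} c →
    Set.EqOn φ φ₂ (B.res {i, j} c) → d₂ ∈ B.res {X.op Set.univ i, X.op Set.univ j} d →
    ψ₂ d₂ ∈ B'.res {X.op Set.univ i, X.op Set.univ j} (ψ d) →
    Set.EqOn ψ ψ₂ (B.res {X.op Set.univ i, X.op Set.univ j} d)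
  l4 : ∀ (φ φ₂ : C → C') c d d', B.Germ B' φ c → B.Germ B' φ₂ c → B.Cpt B' φ c d d' →
    B.Cpt B' φ₂ c d d' → φ c = φ₂ c → (∀ i, ∀ x ∈ B.pan c i, φ x = φ₂ x) →
    Set.EqOn φ φ₂ (B.E2 c)
  key : ∀ (φ ψ : C → C') c d e, B.Germ B' φ c → B.Germ B' ψ d → B.Link B' φ c ψ d → e ∈ B.E2 d →
    B.δ c e = X.w0 → B.Cpt B' φ c e (ψ e)
  oo : ∀ i, X.op univ (X.op univ i) = i
  os : ∀ i, X.w0 * X.s i = X.s (X.op univ i) * X.w0
  ww : X.w0 * X.w0 = 1
  top : ∀ v, X.len v ≤ X.len X.w0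
  one : ∀ i w, w ∈ X.WJ {i} ↔ w = 1 ∨ w = X.s i
  req : ∀ J x, ∀ y ∈ B.res J x, B.res J y = B.res J x

/-- A germ together with a residue of rank at most two. -/
structure Side (I : Type) (C C' : Type u) where
  φ : C → C'
  c : C
  i : I
  j : I

/-- The residue. -/
def Side.R (s : Side I C C') (B : Bld X C) : Set C := B.res {s.i, s.j} s.c

/-- Two linked germs at opposite residues. -/
structure Sit (B : Bld X C) (B' : Bld X C') (s t : Side I C C') : Prop where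
  gs : B.Germ B' s.φ s.c
  gt : B.Germ B' t.φ t.c
  lk : B.Link B' s.φ s.c t.φ t.c
  hi : X.op univ s.i = t.i
  hj : X.op univ s.j = t.j

/-- Admissible germs. -/
structure Adm (B : Bld X C) (B' : Bld X C') (s t : Side I C C') (γ : C → C') (x : C) : Prop where
  germ : B.Germ B' γ x
  mem : x ∈ s.R B
  eq : EqOn s.φ γ (s.R B)
  cpt : ∃ e ∈ t.R B, B.Cpt B' γ x e (t.φ e)

/-- Consistent germs. -/
def Con (B : Bld X C) (a : I) (γ γ' : C → C') (x : C) : Prop := ∀ k, EqOn γ γ' (B.res {a, k} x)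

variable (H : Hy B B')
include H

theorem opp_symm {x y : C} (h : B.δ x y = X.w0) : B.δ y x = X.w0 := by
  rw [B.symm, h, inv_eq_of_mul_eq_one_right H.ww]

theorem all_but_one {y z : C} {a : I} (h : B.δ y z = X.w0 ∨ B.δ y z = X.w0 * X.s a) :
    ∃ p, ∀ x ∈ B.res {a} z, x ≠ p → B.δ y x = X.w0 := by
  have key : ∀ p ∈ B.res {a} z, B.δ p y = X.s a * X.w0 → ∀ x ∈ B.res {a} z, x ≠ p →
      B.δ y x = X.w0 := fun p hp e x hx hne => by
    rw [← H.req _ _ x hx, ] at hp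
    have h1 : B.δ x p = X.s a :=
      ((H.one a _).1 hp).resolve_left fun h => hne ((B.eq_one x p).1 h)
    have h2 := B.step_up a x p y h1 (by
      rw [e, ← mul_assoc, X.s_mul_s, one_mul]; exact H.top _)
    rw [e, ← mul_assoc, X.s_mul_s, one_mul] at h2
    exact opp_symm H h2
  rcases h with h | h
  · obtain ⟨p, h1, h2⟩ := B.ex a z y
    refine ⟨p, key p ?_ (by rw [h2, opp_symm H h])⟩
    change B.δ z p ∈ X.WJ {a}
    rw [B.symm, h1]
    exact inv_mem (s_mem rfl)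
  · refine ⟨z, key z (res_self _ z) ?_⟩
    rw [B.symm, h, mul_inv_rev, inv_eq_of_mul_eq_one_right H.ww, InvGen.inv_s]

theorem common_opp {y y' z : C} {a : I} (h : B.δ y z = X.w0 ∨ B.δ y z = X.w0 * X.s a)
    (h' : B.δ y' z = X.w0 ∨ B.δ y' z = X.w0 * X.s a) :
    ∃ x ∈ B.res {a} z, B.δ y x = X.w0 ∧ B.δ y' x = X.w0 := by
  obtain ⟨p, hp⟩ := all_but_one H h
  obtain ⟨p', hp'⟩ := all_but_one H h'
  obtain ⟨x1, x2, hne, h1, h2⟩ := B.thick a z
  have m1 : x1 ∈ B.res {a} z := pan_res (i := a) (mem_singleton a) h1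
  have m2 : x2 ∈ B.res {a} z := pan_res (i := a) (mem_singleton a) h2
  have n : ∀ x, B.δ z x = X.s a → z ≠ x := fun x hx e =>
    X.exch.s_ne_one a (hx.symm.trans ((B.eq_one z x).2 e))
  rcases three p p' (n x1 h1) (n x2 h2) hne with e | e | e
  · exact ⟨z, res_self _ z, hp z (res_self _ z) e.1, hp' z (res_self _ z) e.2⟩
  · exact ⟨x1, m1, hp x1 m1 e.1, hp' x1 m1 e.2⟩
  · exact ⟨x2, m2, hp x2 m2 e.1, hp' x2 m2 e.2⟩

variable {s t : Side I C C'}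

theorem Sit.symm (h : Sit B B' s t) : Sit B B' t s :=
  ⟨h.gt, h.gs, (H.l2 _ _ _ _ h.lk).1, by rw [← h.hi, H.oo], by rw [← h.hj, H.oo]⟩

theorem link_eq (h : Sit B B' s t) {γ χ : C → C'} {x e : C} (hx : x ∈ s.R B)
    (hγ : EqOn s.φ γ (s.R B)) (he : e ∈ t.R B) (g : B.Germ B' χ e) (e1 : χ e = t.φ e)
    (l : B.Link B' γ x χ e) : EqOn t.φ χ (t.R B) := by
  have := H.l3 s.φ t.φ γ χ s.c t.c x e s.i s.j h.gs h.gt g h.lk l hx hγ
  rw [h.hi, h.hj] at this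
  refine this he ?_
  change B'.δ _ _ ∈ X.WJ {t.i, t.j}
  rw [e1, (h.gt t.i t.j).1 _ (res_self _ _) _ he]
  exact he

theorem Adm.all (h : Sit B B' s t) {γ : C → C'} {x e : C} (a : Adm B B' s t γ x)
    (he : e ∈ t.R B) (ho : B.δ x e = X.w0) : B.Cpt B' γ x e (t.φ e) := by
  obtain ⟨e0, h0, c0⟩ := a.cpt
  obtain ⟨χ, g, e1, l⟩ := H.l1 _ _ _ _ a.germ c0
  rw [link_eq H h a.mem a.eq h0 g e1 l he]
  refine H.key _ _ _ _ _ a.germ g l ⟨t.i, t.j, ?_⟩ ho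
  rw [H.req _ _ _ h0]; exact he

theorem Adm.trans (h : Sit B B' s t) {γ : C → C'} {x e : C} (a : Adm B B' s t γ x)
    (he : e ∈ t.R B) (ho : B.δ x e = X.w0) : ∃ χ, Adm B B' t s χ e ∧ B.Link B' γ x χ e := by
  obtain ⟨χ, g, e1, l⟩ := H.l1 _ _ _ _ a.germ (a.all H h he ho)
  refine ⟨χ, ⟨g, he, link_eq H h a.mem a.eq he g e1 l, x, a.mem, ?_⟩, l⟩
  rw [a.eq a.mem]
  exact (H.l2 _ _ _ _ (H.l2 _ _ _ _ l).1).2

theorem Adm.uniq (h : Sit B B' s t) {γ γ' : C → C'} {x : C} (a : Adm B B' s t γ x)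
    (a' : Adm B B' s t γ' x) (e : ∀ k, ∀ y ∈ B.pan x k, γ y = γ' y) : EqOn γ γ' (B.E2 x) := by
  obtain ⟨e0, h0, c0⟩ := a.cpt
  exact H.l4 _ _ _ _ _ a.germ a'.germ c0 (a'.all H h h0 c0.1)
    ((a.eq a.mem).symm.trans (a'.eq a.mem)) e

theorem Adm.con (h : Sit B B' s t) {γ γ' χ : C → C'} {x y e : C} {k : I} (a : Adm B B' s t γ x)
    (a' : Adm B B' s t γ' y) (hy : y ∈ B.res {k} x) (g : B.Germ B' χ e) (l : B.Link B' χ e γ x)
    (l' : B.Link B' χ e γ' y) : Con B k γ γ' x := fun m => by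
  have := H.l3 χ γ χ γ' e x e y (X.op univ k) (X.op univ m) g a.germ a'.germ l l' (res_self _ _)
    (fun _ _ => rfl)
  rw [H.oo, H.oo] at this
  have h1 : y ∈ B.res {k, m} x := res_mono (by simp) x hy
  refine this h1 ?_
  change B'.δ _ _ ∈ X.WJ {k, m}
  rw [← a.eq a.mem, ← a'.eq a'.mem, (h.gs s.i s.j).1 _ a.mem _ a'.mem]
  exact h1

theorem Con.move {γ γ' : C → C'} {x y : C} {k : I} (h : Con B k γ γ' x) (hy : y ∈ B.res {k} x) :
    Con B k γ γ' y := fun m => by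
  rw [H.req _ _ _ (res_mono (by simp) x hy)]; exact h m

omit H in
theorem Con.pan {γ γ' : C → C'} {x : C} {k : I} (h : Con B k γ γ' x) :
    ∀ m, ∀ y ∈ B.pan x m, γ y = γ' y := fun m _ hy => h m (pan_res (by simp) hy)

/-- A family of germs on a panel of the opposite residue controls all transfers. -/
theorem mono (h : Sit B B' s t) {e0 : C} {κ : I} (h0 : e0 ∈ t.R B) (hκ : κ = t.i ∨ κ = t.j)
    (hc : B.δ s.c e0 = X.w0 ∨ B.δ s.c e0 = X.w0 * X.s κ) :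
    ∃ Γ : C → C → C', EqOn (Γ s.c) s.φ (B.E2 s.c) ∧
      (∀ x ∈ s.R B, (B.δ x e0 = X.w0 ∨ B.δ x e0 = X.w0 * X.s κ) → Adm B B' s t (Γ x) x) ∧
      ∀ x ∈ s.R B, ∀ y ∈ s.R B, (B.δ x e0 = X.w0 ∨ B.δ x e0 = X.w0 * X.s κ) →
        (B.δ y e0 = X.w0 ∨ B.δ y e0 = X.w0 * X.s κ) → ∀ k, y ∈ B.res {k} x →
        Con B k (Γ x) (Γ y) x := by
  classical
  have : Nonempty (C → C') := ⟨s.φ⟩
  have h' := h.symm H
  have hρ : ∀ e ∈ B.res {κ} e0, e ∈ t.R B := fun e he => by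
    have := res_mono (K := {t.i, t.j}) (by simpa using hκ) e0 he
    rwa [H.req _ _ _ h0] at this
  have a0 : Adm B B' s t s.φ s.c :=
    ⟨h.gs, res_self _ _, fun _ _ => rfl, t.c, res_self _ _, (H.l2 _ _ _ _ h.lk).2⟩
  obtain ⟨e1, m1, o1, -⟩ := common_opp H hc hc
  obtain ⟨χ1, a1, l1⟩ := a0.trans H h (hρ _ m1) o1
  have ex : ∀ e ∈ B.res {κ} e0, ∃ χ, Adm B B' t s χ e ∧ Con B κ χ1 χ e1 := fun e he => by
    have he1 : e ∈ B.res {κ} e1 := by rw [H.req _ _ _ m1]; exact he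
    have h1 : B.δ e s.c = X.w0 ∨ B.δ e s.c = X.w0 * X.s (X.op univ κ) := by
      have he2 : e1 ∈ B.res {κ} e := by rw [H.req _ _ _ he1]; exact res_self _ _
      rcases (H.one κ _).1 he2 with h2 | h2
      · rw [(B.eq_one _ _).1 h2]; exact .inl (opp_symm H o1)
      · rw [H.os, H.oo, ← opp_symm H o1]
        exact (B.step κ e e1 s.c h2).symm
    obtain ⟨x, mx, o2, o3⟩ := common_opp H h1 (.inl (opp_symm H o1))
    have hx : x ∈ s.R B := by
      refine res_mono ?_ _ mx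
      rcases hκ with rfl | rfl
      · rw [h'.hi]; simp
      · rw [h'.hj]; simp
    obtain ⟨γ, a2, l2⟩ := a1.trans H h' hx o3
    obtain ⟨χ, a3, l3⟩ := a2.trans H h (hρ _ he) (opp_symm H o2)
    exact ⟨χ, a3, a1.con H h' a3 he1 a2.germ (H.l2 _ _ _ _ l2).1 l3⟩
  choose! χ aχ cχ using ex
  have cc : ∀ e ∈ B.res {κ} e0, ∀ e' ∈ B.res {κ} e0, Con B κ (χ e) (χ e') e := fun e he e' he' =>
    Con.move H (fun m => ((cχ e he m).symm.trans (cχ e' he' m))) (by rw [H.req _ _ _ m1]; exact he)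
  have ind : ∀ e ∈ B.res {κ} e0, ∀ e' ∈ B.res {κ} e0, ∀ γ x, Adm B B' s t γ x →
      B.Link B' (χ e) e γ x → B.δ x e' = X.w0 → B.Link B' (χ e') e' γ x :=
    fun e he e' he' γ x a l o => by
      obtain ⟨χ', a2, l2⟩ := a.trans H h (hρ _ he') o
      have hee : e' ∈ B.res {κ} e := by rw [H.req _ _ _ he]; exact he'
      have c1 := (aχ e he).con H h' a2 hee a.germ (H.l2 _ _ _ _ l).1 l2
      have c2 : Con B κ χ' (χ e') e' :=
        Con.move H (fun m => (c1 m).symm.trans (cc e he e' he' m)) hee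
      exact (H.l2 _ _ _ _ (link_congr l2 (a2.uniq H h' (aχ e' he') c2.pan))).1
  have ex2 : ∀ x ∈ s.R B, (B.δ x e0 = X.w0 ∨ B.δ x e0 = X.w0 * X.s κ) → ∃ γ, Adm B B' s t γ x ∧
      ∀ e ∈ B.res {κ} e0, B.δ x e = X.w0 → B.Link B' (χ e) e γ x := fun x hx ho => by
    obtain ⟨e, me, o, -⟩ := common_opp H ho ho
    obtain ⟨γ, a, l⟩ := (aχ e me).trans H h' hx (opp_symm H o)
    exact ⟨γ, a, fun e' he' o' => ind e me e' he' γ x a l o'⟩
  choose! Γ aΓ lΓ using ex2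
  refine ⟨Γ, ?_, aΓ, fun x hx y hy ox oy k hk => ?_⟩
  · have a2 := aΓ s.c (res_self _ _) hc
    have l2 := (H.l2 _ _ _ _ (link_congr l1 (a1.uniq H h' (aχ e1 m1) (cχ e1 m1).pan))).1
    exact a2.uniq H h a0 (a2.con H h a0 (res_self {s.i} _) (aχ e1 m1).germ
      (lΓ s.c (res_self _ _) hc e1 m1 o1) l2).pan
  · obtain ⟨e, me, o, o'⟩ := common_opp H ox oy
    exact (aΓ x hx ox).con H h (aΓ y hy oy) hk (aχ e me).germ (lΓ x hx ox e me o)
      (lΓ y hy oy e me o')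

theorem conj_mem {i j : I} {u : W} (hu : u ∈ X.WJ {i, j}) :
    X.w0 * u * X.w0 ∈ X.WJ {X.op univ i, X.op univ j} := by
  induction hu using Subgroup.closure_induction with
  | mem w hw =>
    obtain ⟨k, hk, rfl⟩ := hw
    rw [H.os, mul_assoc, H.ww, mul_one]
    refine s_mem ?_
    rcases hk with rfl | rfl <;> simp
  | one => rw [mul_one, H.ww]; exact one_mem _
  | mul a b _ _ ha hb =>
    have : X.w0 * (a * b) * X.w0 = X.w0 * a * X.w0 * (X.w0 * b * X.w0) := by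
      rw [mul_assoc (X.w0 * a), ← mul_assoc X.w0 (X.w0 * b), ← mul_assoc X.w0 X.w0, H.ww]
      simp only [one_mul, mul_assoc]
    rw [this]; exact mul_mem ha hb
  | inv a _ ha =>
    have := inv_mem ha
    rwa [mul_inv_rev, mul_inv_rev, inv_eq_of_mul_eq_one_right H.ww, ← mul_assoc] at this

omit H in
theorem mem_univ' (v : W) : v ∈ X.WJ univ := by
  rw [Cox.WJ, image_univ, X.closure_eq]; trivial

/-- The facts about apartments. -/
structure Hz (B : Bld X C) (B' : Bld X C') : Prop where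
  sg0 : ∀ (σ : W → C) (σ' : W → C') (φ : C → C') (w : W), B.Apt σ → B'.Apt σ' →
    B.Germ B' φ (σ w) → φ (σ w) = σ' w → (B.Cpt B' φ (σ w) (σ (w * X.w0)) (σ' (w * X.w0)) ↔
      ∀ i j, ∀ v ∈ X.WJ {i, j}, φ (σ (w * v)) = σ' (w * v))
  panel : ∀ (σ : W → C) i j, B.Apt σ → i ≠ j →
    ∃ e ∈ B.res {i, j} (σ 1), ∃ k, (k = i ∨ k = j) ∧ ∀ w ∈ X.WJ {i, j},
      B.δ (σ w) e = X.wJ {i, j} ∨ B.δ (σ w) e = X.wJ {i, j} * X.s k
  sq : ∀ K, X.wJ K * X.wJ K = 1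
  len : ∀ K, ∀ v ∈ X.WJ K, X.len (X.wJ K * v) + X.len v = X.len (X.wJ K)
  add : ∀ x y z, X.len (B.δ x y * B.δ y z) = X.len (B.δ x y) + X.len (B.δ y z) →
    B.δ x z = B.δ x y * B.δ y z

/-- Germs matching the apartments. -/
structure Gd (B : Bld X C) (B' : Bld X C') (σ : W → C) (σ' : W → C') (φ : C → C') (w : W) :
    Prop where
  germ : B.Germ B' φ (σ w)
  apt : ∀ i j, ∀ v ∈ X.WJ {i, j}, φ (σ (w * v)) = σ' (w * v)

variable (Z : Hz B B') {σ : W → C} {σ' : W → C'} (hσ : B.Apt σ) (hσ' : B'.Apt σ')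

omit H in
theorem Gd.base {φ : C → C'} {w : W} (g : Gd B B' σ σ' φ w) (i : I) : φ (σ w) = σ' w := by
  simpa using g.apt i i 1 (one_mem _)

omit H in
include hσ in
theorem apt_res {J : Set I} (w : W) {u : W} (hu : u ∈ X.WJ J) : σ (w * u) ∈ B.res J (σ w) := by
  change B.δ _ _ ∈ X.WJ J
  rw [hσ, inv_mul_cancel_left]; exact hu

include Z hσ hσ'

omit H in
theorem Gd.cpt {φ : C → C'} {w : W} (g : Gd B B' σ σ' φ w) (i : I) :
    B.Cpt B' φ (σ w) (σ (w * X.w0)) (σ' (w * X.w0)) :=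
  (Z.sg0 σ σ' φ w hσ hσ' g.germ (g.base i)).2 g.apt

theorem Gd.uniq {φ ψ : C → C'} {w : W} {k : I} (g : Gd B B' σ σ' φ w) (g' : Gd B B' σ σ' ψ w)
    (h : Con B k φ ψ (σ w)) : EqOn φ ψ (B.E2 (σ w)) :=
  H.l4 _ _ _ _ _ g.germ g'.germ (g.cpt Z hσ hσ' k) (g'.cpt Z hσ hσ' k)
    ((g.base k).trans (g'.base k).symm) h.pan

/-- No monodromy around a polygon. -/
theorem polygon {φ : C → C'} {w : W} (g : Gd B B' σ σ' φ w) {i j : I} (hij : i ≠ j) :
    ∃ Γ : W → C → C', EqOn (Γ 1) φ (B.E2 (σ w)) ∧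
      (∀ u ∈ X.WJ {i, j}, Gd B B' σ σ' (Γ u) (w * u)) ∧
      ∀ u ∈ X.WJ {i, j}, ∀ k, (k = i ∨ k = j) → Con B k (Γ u) (Γ (u * X.s k)) (σ (w * u)) := by
  obtain ⟨ψ, gψ, eψ, lk⟩ := H.l1 _ _ _ _ g.germ (g.cpt Z hσ hσ' i)
  have ww : w * X.w0 * X.w0 = w := by rw [mul_assoc, H.ww, mul_one]
  have aψ : ∀ a b, ∀ v ∈ X.WJ {a, b}, ψ (σ (w * X.w0 * v)) = σ' (w * X.w0 * v) :=
    (Z.sg0 σ σ' ψ (w * X.w0) hσ hσ' gψ eψ).1 (by
      rw [ww, ← g.base i]; exact (H.l2 _ _ _ _ (H.l2 _ _ _ _ lk).1).2)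
  have sit : Sit B B' ⟨φ, σ w, i, j⟩ ⟨ψ, σ (w * X.w0), X.op univ i, X.op univ j⟩ :=
    ⟨g.germ, gψ, lk, rfl, rfl⟩
  have hne : X.op univ i ≠ X.op univ j := fun e => hij (by rw [← H.oo i, e, H.oo])
  obtain ⟨e0, h0, κ, hκ, hp⟩ := Z.panel (fun v => σ (w * X.w0 * v)) _ _
    (fun a b => by rw [hσ]; group) hne
  simp only [mul_one] at h0
  set J : Set I := {X.op univ i, X.op univ j} with hJ
  have mJ : X.wJ J ∈ X.WJ J := (X.wJ_spec J).1
  have opp : ∀ u ∈ X.WJ {i, j},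
      B.δ (σ (w * u)) e0 = X.w0 ∨ B.δ (σ (w * u)) e0 = X.w0 * X.s κ := fun u hu => by
    have d1 : B.δ (σ (w * u)) (σ (w * X.w0 * (X.w0 * u * X.w0 * X.wJ J))) = X.w0 * X.wJ J := by
      rw [hσ, ← mul_assoc (w * X.w0), ← mul_assoc (w * X.w0), ← mul_assoc (w * X.w0), ww]; group
    have q1 : X.w0 * X.wJ J * X.wJ J = X.w0 := by rw [mul_assoc, Z.sq, mul_one]
    have n1 : X.len (X.w0 * X.wJ J) + X.len (X.wJ J) = X.len X.w0 := Z.len univ _ (mem_univ' _)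
    have n2 : X.len (X.w0 * X.s κ) + X.len (X.s κ) = X.len X.w0 := Z.len univ _ (mem_univ' _)
    have n3 := Z.len J _ (s_mem (J := J) (i := κ) (by simpa [hJ] using hκ))
    have := Z.add (σ (w * u)) (σ (w * X.w0 * (X.w0 * u * X.w0 * X.wJ J))) e0
    rw [d1] at this
    rcases hp _ (mul_mem (conj_mem H hu) mJ) with h | h <;> rw [h] at this
    · rw [q1] at this; exact .inl (this n1.symm)
    · rw [← mul_assoc, q1] at this; exact .inr (this (by omega))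
  obtain ⟨Γ, e1, aΓ, cΓ⟩ := mono H sit h0 hκ (by simpa using opp 1 (one_mem _))
  refine ⟨fun u => Γ (σ (w * u)), by simpa using e1, fun u hu => ?_, fun u hu k hk => ?_⟩
  · have a := aΓ _ (apt_res hσ w hu) (opp u hu)
    have eu : w * u * X.w0 = w * X.w0 * (X.w0 * u * X.w0) := by
      rw [← mul_assoc, ← mul_assoc, ww]
    refine ⟨a.germ, (Z.sg0 σ σ' _ (w * u) hσ hσ' a.germ
      ((a.eq a.mem).symm.trans (g.apt i j u hu))).1 ?_⟩
    have := a.all H sit (e := σ (w * u * X.w0)) (by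
      rw [eu]; exact apt_res hσ _ (conj_mem H hu)) (by rw [hσ, inv_mul_cancel_left])
    rw [← show ψ (σ (w * u * X.w0)) = σ' (w * u * X.w0) by
      rw [eu]; exact aψ _ _ _ (conj_mem H hu)]
    exact this
  · have hu' : u * X.s k ∈ X.WJ {i, j} := mul_mem hu (s_mem (by simpa using hk))
    refine cΓ _ (apt_res hσ w hu) _ (apt_res hσ w hu') (opp u hu) (opp _ hu') k ?_
    rw [← mul_assoc]; exact apt_res hσ _ (s_mem rfl)

omit H Z hσ hσ'

/-- Normalised germs matching the apartments. -/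
def Om (B : Bld X C) (B' : Bld X C') (σ : W → C) (σ' : W → C') : Type u :=
  {p : W × (C → C') // Gd B B' σ σ' p.2 p.1 ∧ ∀ x, x ∉ B.E2 (σ p.1) → p.2 x = σ' p.1}

/-- Adjacent consistent germs. -/
def Rel (k : I) (p q : Om B B' σ σ') : Prop :=
  q.1.1 = p.1.1 * X.s k ∧ Con B k p.1.2 q.1.2 (σ p.1.1)

include hσ in
theorem exists_om {φ : C → C'} {w : W} (g : Gd B B' σ σ' φ w) :
    ∃ p : Om B B' σ σ', p.1.1 = w ∧ EqOn φ p.1.2 (B.E2 (σ w)) := by
  classical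
  have e : EqOn φ (fun x => if x ∈ B.E2 (σ w) then φ x else σ' w) (B.E2 (σ w)) :=
    fun x hx => (if_pos hx).symm
  exact ⟨⟨(w, fun x => if x ∈ B.E2 (σ w) then φ x else σ' w), ⟨germ_congr g.germ e,
    fun i j v hv => (e (res_E2 i j _ (apt_res hσ w hv))).symm.trans (g.apt i j v hv)⟩,
    fun x hx => if_neg hx⟩, rfl, e⟩

theorem Om.ext' {p q : Om B B' σ σ'} (h : p.1.1 = q.1.1) (e : EqOn p.1.2 q.1.2 (B.E2 (σ p.1.1))) :
    p = q := by
  refine Subtype.ext (Prod.ext h (funext fun x => ?_))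
  by_cases hx : x ∈ B.E2 (σ p.1.1)
  · exact e hx
  · rw [p.2.2 x hx, q.2.2 x (h ▸ hx), h]

include H hσ

theorem Rel.move {k : I} {p q : Om B B' σ σ'} (h : Rel k p q) : Con B k p.1.2 q.1.2 (σ q.1.1) := by
  rw [h.1]; exact h.2.move H (apt_res hσ _ (s_mem rfl))

theorem Rel.symm {k : I} {p q : Om B B' σ σ'} (h : Rel k p q) : Rel k q p :=
  ⟨by rw [h.1, InvGen.s_mul_s_cancel_right], fun m => (h.move H hσ m).symm⟩

include Z hσ'

theorem Rel.uniq {k : I} {p q q' : Om B B' σ σ'} (h : Rel k p q) (h' : Rel k p q') : q = q' := by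
  have e : q.1.1 = q'.1.1 := h.1.trans h'.1.symm
  refine Om.ext' e (q.2.1.uniq H Z hσ hσ' (k := k) (e ▸ q'.2.1) fun m => ?_)
  exact (h.move H hσ m).symm.trans (e ▸ h'.move H hσ m)

theorem polygon' (p : Om B B' σ σ') {i j : I} (hij : i ≠ j) :
    ∃ P : W → Om B B' σ σ', P 1 = p ∧
      ∀ u ∈ X.WJ {i, j}, ∀ k, (k = i ∨ k = j) → Rel k (P u) (P (u * X.s k)) := by
  obtain ⟨Γ, e1, gΓ, cΓ⟩ := polygon H Z hσ hσ' p.2.1 hij
  have : Nonempty (Om B B' σ σ') := ⟨p⟩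
  choose! P hP eP using fun u hu => exists_om hσ (gΓ u hu)
  refine ⟨P, ?_, fun u hu k hk => ?_⟩
  · have h1 := hP 1 (one_mem _)
    have h2 := eP 1 (one_mem _)
    rw [mul_one] at h1 h2
    exact Om.ext' h1 (h1 ▸ h2.symm.trans e1)
  · have hu' : u * X.s k ∈ X.WJ {i, j} := mul_mem hu (s_mem (by simpa using hk))
    refine ⟨by rw [hP u hu, hP _ hu', mul_assoc], fun m => ?_⟩
    rw [hP u hu]
    refine (((eP u hu).mono (res_E2 k m _)).symm.trans (cΓ u hu k hk m)).trans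
      ((eP _ hu').mono ?_)
    rw [← H.req _ _ _ (apt_res hσ (w := p.1.1 * u) (s_mem (J := {k, m}) (i := k) (by simp))),
      mul_assoc]
    exact res_E2 k m _

theorem sig [Nontrivial I] {φ : C → C'} (g : Gd B B' σ σ' φ 1) :
    ∃ Φ, SigFam B B' σ σ' Φ ∧ EqOn (Φ 1) φ (B.E2 (σ 1)) := by
  have ex : ∀ (k : I) (p : Om B B' σ σ'), ∃ q, Rel k p q := fun k p => by
    obtain ⟨j, hj⟩ := exists_ne k
    obtain ⟨P, h1, hP⟩ := polygon' H Z hσ hσ' p hj.symm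
    exact ⟨_, h1 ▸ hP 1 (one_mem _) k (.inl rfl)⟩
  choose T hT using ex
  have eT : ∀ k p q, Rel k p q → T k p = q := fun k p q h => (hT k p).uniq H Z hσ hσ' h
  have inv : ∀ k, Function.Involutive (T k) := fun k p => eT k _ _ ((hT k p).symm H hσ)
  let f : I → Equiv.Perm (Om B B' σ σ') := fun k => (inv k).toPerm
  have hf : ∀ i j, (f i * f j) ^ orderOf (X.s i * X.s j) = 1 := fun i j => by
    by_cases hij : i = j
    · subst hij
      have : f i * f i = 1 := Equiv.ext (inv i)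
      rw [this, one_pow]
    refine Equiv.ext fun p => ?_
    obtain ⟨P, h1, hP⟩ := polygon' H Z hσ hσ' p hij
    have mi : X.s i ∈ X.WJ {i, j} := s_mem (by simp)
    have mj : X.s j ∈ X.WJ {i, j} := s_mem (by simp)
    have key : ∀ n, ∀ u ∈ X.WJ {i, j},
        ((f i * f j) ^ n) (P u) = P (u * ((X.s i * X.s j) ^ n)⁻¹) := fun n => by
      induction n with
      | zero => intro u _; simp
      | succ n ih =>
        intro u hu
        have : (f i * f j) (P u) = P (u * X.s j * X.s i) := by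
          change T i (T j (P u)) = _
          rw [eT j _ _ (hP u hu j (.inr rfl)), eT i _ _ (hP _ (mul_mem hu mj) i (.inl rfl))]
        rw [pow_succ, Equiv.Perm.mul_apply, this, ih _ (mul_mem (mul_mem hu mj) mi), pow_succ]
        simp only [mul_inv_rev, InvGen.inv_s, mul_assoc]
    have := key (orderOf (X.s i * X.s j)) 1 (one_mem _)
    rwa [pow_orderOf_eq_one, inv_one, mul_one, h1] at this
  obtain ⟨ω, hω, eω⟩ := exists_om hσ g
  have pos : ∀ l : List I, ((l.map f).prod ω).1.1 = (X.wp l)⁻¹ := fun l => by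
    induction l with
    | nil => simpa using hω
    | cons i l ih =>
      rw [List.map_cons, List.prod_cons, Equiv.Perm.mul_apply, InvGen.wp_cons, mul_inv_rev,
        InvGen.inv_s, ← ih]
      exact (hT i _).1
  choose lw hl using fun w : W => X.wp_surjective w⁻¹
  let Q : W → Om B B' σ σ' := fun w => ((lw w).map f).prod ω
  have hQ : ∀ w, (Q w).1.1 = w := fun w => by rw [pos, hl, inv_inv]
  have sQ : ∀ w i, Q (w * X.s i) = T i (Q w) := fun w i => by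
    have := X.exch.prod_eq_of_wp_eq f hf (l := lw (w * X.s i)) (l' := i :: lw w) (by
      rw [hl, InvGen.wp_cons, hl, mul_inv_rev, InvGen.inv_s])
    simp only [Q]
    rw [this]; rfl
  have Q1 : Q 1 = ω := by
    have := X.exch.prod_eq_of_wp_eq f hf (l := lw 1) (l' := []) (by rw [hl]; simp)
    simp only [Q]
    rw [this]; rfl
  have gQ : ∀ w, Gd B B' σ σ' (Q w).1.2 w := fun w => by
    have := (Q w).2.1
    rwa [hQ] at this
  refine ⟨fun w => (Q w).1.2, ⟨fun w => (gQ w).germ, fun w => (gQ w).apt, fun w i j => ?_⟩, ?_⟩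
  · have := (hT i (Q w)).2 j
    rwa [hQ, ← sQ] at this
  · simp only [Q1]
    exact eω.symm

omit H Z hσ hσ' in
/-- **SIG** -/
theorem sigStmt (hcx : CxStmt) (hba : Ba1Stmt.{u}) (hl : LinkStmt.{u}) (hs : Sg0Stmt.{u})
    (hk : KeyStmt.{u}) (hp : PanelStmt.{u}) : SigStmt.{u} := by
  intro I W _ _ X C C' _ _ B B' _ hm σ σ' φ hσ hσ' g ha
  obtain ⟨c1, c2, c3, -, -, c6, -⟩ := hcx X
  obtain ⟨b1, -, -, -, b5, -⟩ := hba B
  obtain ⟨l1, l2, l3, l4⟩ := hl B B'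
  have H : Hy B B' := ⟨l1, l2, l3, l4, hk B B', fun i => (c3 univ i trivial).2.2,
    fun i => (c3 univ i trivial).2.1, c1 univ, fun v => (X.wJ_spec univ).2 v (mem_univ' v), c6, b5⟩
  have Z : Hz B B' := ⟨hs B B', fun σ i j h hij => hp B σ i j h hij (hm i j hij), c1,
    fun K v hv => (c2 K v hv).1, b1⟩
  exact sig H Z hσ hσ' ⟨g, fun i j v hv => by simpa using ha i j v hv⟩

end Cfsg.Agent.H38.T3Sig
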