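import Cfsg.Agent.H96.VbDefs

/-!
Project VB, piece QA: a critical subgroup inside `Q` whose central involutions lie in `V` is `Q`.
-/

set_option autoImplicit false
set_option linter.unusedSimpArgs false
set_option linter.unnecessarySeqFocus false
set_option linter.unusedSectionVars false

namespace Cfsg.Agent.H38.VbQa

open Cfsg.Agent.H39 Cfsg.Agent.H15.O8 Cfsg.Agent.H96.VB Subgroup
open scoped commutatorElement

universe u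

variable {K : Type u} [Field K] {T : Tits K}

/-- The pairing of `Q / D` with `V / Z`. -/
def bv (g v : U T) : K := g.a1 * v.a6 + g.b2 * v.a5 + g.b6 * v.a3 + g.a7 * v.a2

/-- The alternating form on `Q / D`. -/
def br (g k : U T) : K := g.a1 * k.a7 + g.b2 * k.b6 + g.b6 * k.b2 + g.a7 * k.a1

variable (T) in
/-- An element with given image in `Q / D`. -/
def el (a b c d : K) : U T := ⟨a, b, 0, 0, 0, 0, 0, c, 0, d, 0, 0⟩

theorem el_mem (a b c d : K) : el T a b c d ∈ Q T := ⟨rfl, rfl⟩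

theorem comm_QV {g v : U T} (hg : g ∈ Q T) (hv : v ∈ V T) : ⁅g, v⁆ = x4 T (bv g v) := by
  obtain ⟨a1, b2, a2, a3, b4, a4, a5, b6, a6, a7, b8, a8⟩ := g
  obtain ⟨c1, d2, c2, c3, d4, c4, c5, d6, c6, c7, d8, c8⟩ := v
  obtain ⟨rfl : b8 = 0, rfl : a8 = 0⟩ := hg
  obtain ⟨rfl : c1 = 0, rfl : d2 = 0, rfl : d4 = 0, rfl : d6 = 0, rfl : c7 = 0, rfl : d8 = 0,
    rfl : c8 = 0⟩ := hv
  rw [commutatorElement_def, mul_inv_eq_iff_eq_mul, mul_inv_eq_iff_eq_mul]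
  ext <;> simp only [bv] <;> o8s <;> o8ring T

theorem comm_QQ {g k : U T} (hg : g ∈ Q T) (hk : k ∈ Q T) : ⁅g, k⁆ ∈ V T := by
  obtain ⟨a1, b2, a2, a3, b4, a4, a5, b6, a6, a7, b8, a8⟩ := g
  obtain ⟨c1, d2, c2, c3, d4, c4, c5, d6, c6, c7, d8, c8⟩ := k
  obtain ⟨rfl : b8 = 0, rfl : a8 = 0⟩ := hg
  obtain ⟨rfl : d8 = 0, rfl : c8 = 0⟩ := hk
  refine ⟨?_, ?_, ?_, ?_, ?_, ?_, ?_⟩ <;> o8s <;> o8ring T

theorem sq_Q {g : U T} (hg : g ∈ Q T) : g * g ∈ V T := by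
  obtain ⟨a1, b2, a2, a3, b4, a4, a5, b6, a6, a7, b8, a8⟩ := g
  obtain ⟨rfl : b8 = 0, rfl : a8 = 0⟩ := hg
  refine ⟨?_, ?_, ?_, ?_, ?_, ?_, ?_⟩ <;> o8s <;> o8ring T

theorem comm_QD {g d : U T} (hg : g ∈ Q T) (hd : d ∈ D T) : ⁅g, d⁆.a2 = d.b4 * g.a1 ∧
    ⁅g, d⁆.a3 = d.b4 * g.b2 ∧ ⁅g, d⁆.a5 = d.b4 * g.b6 ∧ ⁅g, d⁆.a6 = d.b4 * g.a7 := by
  obtain ⟨a1, b2, a2, a3, b4, a4, a5, b6, a6, a7, b8, a8⟩ := g
  obtain ⟨c1, d2, c2, c3, d4, c4, c5, d6, c6, c7, d8, c8⟩ := d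
  obtain ⟨rfl : b8 = 0, rfl : a8 = 0⟩ := hg
  obtain ⟨rfl : c1 = 0, rfl : d2 = 0, rfl : d6 = 0, rfl : c7 = 0, rfl : d8 = 0,
    rfl : c8 = 0⟩ := hd
  refine ⟨?_, ?_, ?_, ?_⟩ <;> o8s <;> o8ring T

theorem comm_Y {g p : U T} (hg : g ∈ Y T) (hp : p ∈ Q T) : ⁅g, p⁆.a3 = T.θ p.a1 * g.a7 := by
  obtain ⟨a1, b2, a2, a3, b4, a4, a5, b6, a6, a7, b8, a8⟩ := p
  obtain ⟨c1, d2, c2, c3, d4, c4, c5, d6, c6, c7, d8, c8⟩ := g
  obtain ⟨rfl : b8 = 0, rfl : a8 = 0⟩ := hp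
  obtain ⟨rfl : c1 = 0, rfl : d2 = 0, rfl : c2 = 0, rfl : d4 = 0, rfl : d6 = 0, rfl : d8 = 0,
    rfl : c8 = 0⟩ := hg
  o8s
  o8ring T

theorem comm_Y' {g p : U T} (hQ : g ∈ Q T) (hg : w8 g ∈ Y T) (hp : p ∈ Q T) :
    ⁅g, p⁆.a5 = T.θ p.a7 * g.a1 := by
  obtain ⟨a1, b2, a2, a3, b4, a4, a5, b6, a6, a7, b8, a8⟩ := p
  obtain ⟨c1, d2, c2, c3, d4, c4, c5, d6, c6, c7, d8, c8⟩ := g
  obtain ⟨rfl : b8 = 0, rfl : a8 = 0⟩ := hp
  obtain ⟨rfl : d8 = 0, rfl : c8 = 0⟩ := hQ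
  obtain ⟨rfl : c7 = 0, rfl : d6 = 0, -, rfl : d4 = 0, rfl : d2 = 0, -, -⟩ := hg
  o8s
  o8ring T

theorem x4_mem (t : K) : x4 T t ∈ Z T := by o8s

theorem x4_eq_one {t : K} : x4 T t = 1 ↔ t = 0 := by o8s

theorem eq_x4 {z : U T} (hz : z ∈ Z T) : z = x4 T z.a4 := by
  obtain ⟨h0, h1, h2, h3, h4, h5, h6, h7, h8, h9, h10⟩ := hz
  ext <;> first | rfl | assumption

theorem Z_le_V : Z T ≤ V T := fun _ ⟨h0, h1, _, _, h4, _, h6, _, h8, h9, h10⟩ =>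
  ⟨h0, h1, h4, h6, h8, h9, h10⟩

theorem V_le_D : V T ≤ D T := fun _ ⟨h0, h1, _, h3, h4, h5, h6⟩ => ⟨h0, h1, h3, h4, h5, h6⟩

theorem D_le_Q : D T ≤ Q T := fun _ ⟨_, _, _, _, h4, h5⟩ => ⟨h4, h5⟩

theorem bv_D {d : U T} (hd : d ∈ D T) (v : U T) : bv d v = 0 := by
  obtain ⟨h0, h1, h2, h3, -, -⟩ := hd
  simp [bv, h0, h1, h2, h3]

theorem comm_iff {g v : U T} (hg : g ∈ Q T) (hv : v ∈ V T) : g * v = v * g ↔ bv g v = 0 := by
  rw [← commutatorElement_eq_one_iff_mul_comm, comm_QV hg hv, x4_eq_one]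

theorem comm_Z (g : U T) {z : U T} (hz : z ∈ Z T) : ⁅g, z⁆ = 1 :=
  commutatorElement_eq_one_iff_mul_comm.2 (cZ z hz g)

theorem sq_Z {z : U T} (hz : z ∈ Z T) : z * z = 1 := sqV z (Z_le_V hz)

theorem nZ : (Z T).Normal := ⟨fun z hz g => by rw [cZ z hz g, mul_inv_cancel_right]; exact hz⟩

theorem bar_mul {g k : U T} (hg : g ∈ Q T) : (g * k).a1 = g.a1 + k.a1 ∧
    (g * k).b2 = g.b2 + k.b2 ∧ (g * k).b6 = g.b6 + k.b6 ∧ (g * k).a7 = g.a7 + k.a7 := by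
  obtain ⟨h1, h2⟩ := hg
  refine ⟨?_, ?_, ?_, ?_⟩ <;> o8s <;> (try simp only [h1, h2]) <;> o8ring T

theorem bar_inv {g : U T} (hg : g ∈ Q T) : g⁻¹.a1 = g.a1 ∧ g⁻¹.b2 = g.b2 ∧ g⁻¹.b6 = g.b6 ∧
    g⁻¹.a7 = g.a7 := by
  obtain ⟨h1, h2⟩ := hg
  refine ⟨?_, ?_, ?_, ?_⟩ <;> o8s <;> (try simp only [h1, h2]) <;> o8ring T

theorem bv_inv_mul (g : U T) {x y : U T} (hx : x ∈ V T) (hy : y ∈ V T) :
    bv g (x⁻¹ * y) = bv g x + bv g y := by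
  obtain ⟨h0, h1, h2, h3, h4, h5, h6⟩ := hx
  obtain ⟨k0, k1, k2, k3, k4, k5, k6⟩ := hy
  simp only [bv]
  o8s
  simp only [h0, h1, h2, h3, h4, h5, h6, k0, k1, k2, k3, k4, k5, k6]
  o8ring T

variable (T) in
/-- The preimage of a line. -/
def Ln (α δ : K) : Subgroup (U T) where
  carrier := {g | g ∈ Q T ∧ ∃ c, g.a1 = c * α ∧ g.b2 = 0 ∧ g.b6 = 0 ∧ g.a7 = c * δ}
  one_mem' := ⟨one_mem _, 0, by simp⟩
  mul_mem' := fun {g k} ⟨hg, c, h1, h2, h3, h4⟩ ⟨hk, d, k1, k2, k3, k4⟩ => by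
    obtain ⟨e1, e2, e3, e4⟩ := bar_mul (k := k) hg
    refine ⟨mul_mem hg hk, c + d, ?_, ?_, ?_, ?_⟩
    · rw [e1, h1, k1, add_mul]
    · rw [e2, h2, k2, add_zero]
    · rw [e3, h3, k3, add_zero]
    · rw [e4, h4, k4, add_mul]
  inv_mem' := fun {g} ⟨hg, c, h1, h2, h3, h4⟩ => by
    obtain ⟨e1, e2, e3, e4⟩ := bar_inv hg
    exact ⟨(Q T).inv_mem hg, c, e1.trans h1, e2.trans h2, e3.trans h3, e4.trans h4⟩

variable {P : Subgroup (U T)}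

theorem Z_le_z0 (h : Cr P) : Z T ≤ z0 P := fun z hz =>
  h.mem_z0 (sq_Z hz) fun x _ => (cZ z hz x).symm

theorem V_le (h : Cr P) (hQ : P ≤ Q T) (hz : z0 P ≤ V T) : V T ≤ P := fun g hg =>
  h.chain [z0 P] (by simpa using ch_z0) g ⟨fun x hx => by
    rw [← commutatorElement_inv, comm_QV (hQ hx) hg]
    exact (z0 P).inv_mem (Z_le_z0 h (x4_mem _)), fun x hx => by
    rw [comm_QV (D_le_Q (V_le_D hg)) (hz hx), bv_D (V_le_D hg), x4_eq_one]⟩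

theorem eq_of_ch (h : Cr P) (hQ : P ≤ Q T) (hZ : Ch P (Z T)) (hV : Ch P (V T)) : P = Q T :=
  le_antisymm hQ fun g hg => h.chain [V T, Z T] (by simp [hZ, hV]) g
    ⟨fun _ hx => comm_QQ hg (hQ hx), fun _ hx => comm_QV hg hx ▸ x4_mem _, fun _ hx => comm_Z g hx⟩

theorem inv_mem_V (h : Cr P) (hQ : P ≤ Q T) (hz : z0 P ≤ Z T) {g : U T} (hg : g ∈ P)
    (h2 : g * g = 1) (hc : ∀ x ∈ P, ⁅g, x⁆ ∈ Z T) : g ∈ V T := by
  by_cases hE : g ∈ E T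
  · refine (invQ g hE (hQ hg) h2).elim id fun hY => ?_
    by_contra hV
    have h7 : g.a7 ≠ 0 := fun e =>
      hV ⟨hY.1, hY.2.1, hY.2.2.2.1, hY.2.2.2.2.1, e, hY.2.2.2.2.2.1, hY.2.2.2.2.2.2⟩
    have h6 : x6 T 1 ∈ V T := by o8s
    have : x6 T 1 ∈ Z T := hz (h.mem_z0 (sqV _ h6) fun p hp => by
      have e := (hc p hp).2.2.2.1
      rw [comm_Y hY (hQ hp), mul_eq_zero, or_iff_left h7, T.θ_eq_zero] at e
      rw [eq_comm, comm_iff (hQ hp) h6]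
      simp [bv, x6, e])
    exact (one_ne_zero this.2.2.2.2.2.2.2.1).elim
  · obtain ⟨u, -, h1, h3, h4⟩ := invS g h2 hE
    have h7 : (u * g * u⁻¹).a1 ≠ 0 := fun e =>
      h4 ⟨h3.1, h3.2.1, h3.2.2.2.1, h3.2.2.2.2.1, e, rfl, rfl⟩
    have h6 : x2 T 1 ∈ V T := by o8s
    have h5 : u⁻¹ * x2 T 1 * u⁻¹⁻¹ ∈ Z T := hz (h.mem_z0 (conj_sq (sqV _ h6) _) fun p hp => by
      have hp' : u * p * u⁻¹ ∈ Q T := nQ.conj_mem _ (hQ hp) u
      have e := (nZ.conj_mem _ (hc p hp) u).2.2.2.2.2.1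
      rw [show u * ⁅g, p⁆ * u⁻¹ = ⁅u * g * u⁻¹, u * p * u⁻¹⁆ by
        simp only [commutatorElement_def]; group, comm_Y' h1 h3 hp', mul_eq_zero,
        or_iff_left h7, T.θ_eq_zero] at e
      have e2 : u * p * u⁻¹ * x2 T 1 = x2 T 1 * (u * p * u⁻¹) := by
        rw [comm_iff hp' h6]
        simp [bv, x2, e]
      calc u⁻¹ * x2 T 1 * u⁻¹⁻¹ * p = u⁻¹ * (x2 T 1 * (u * p * u⁻¹)) * u := by group
        _ = _ := by rw [← e2]; group)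
    have := nZ.conj_mem _ h5 u
    rw [show u * (u⁻¹ * x2 T 1 * u⁻¹⁻¹) * u⁻¹ = x2 T 1 by group] at this
    exact (one_ne_zero this.2.2.1).elim

theorem case_Z (h : Cr P) (hQ : P ≤ Q T) (hz : z0 P ≤ Z T) : P = Q T := by
  have hV := V_le h hQ (hz.trans Z_le_V)
  have hZ : Ch P (Z T) := le_antisymm hz (Z_le_z0 h) ▸ ch_z0
  refine eq_of_ch h hQ hZ (Ch.of_iff (IvS.inv.inter hZ.ivs.commP) fun g => ⟨fun hg =>
    ⟨hV hg, sqV g hg, fun x hx => ?_⟩, fun hg => inv_mem_V h hQ hz hg.1 hg.2.1 hg.2.2⟩)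
  rw [← commutatorElement_inv, comm_QV (hQ hx) hg]
  exact (Z T).inv_mem (x4_mem _)

variable [Finite K]

theorem Q_le_norm (hQ : P ≤ Q T) (hV : V T ≤ P) : Q T ≤ normalizer (P : Set (U T)) :=
  fun _ hg => mem_normalizer_of_comm fun _ hx => hV (comm_QQ hg (hQ hx))

theorem mem_of_cent (h : Cr P) (hQ : P ≤ Q T) (hz : z0 P ≤ V T) (hn : ¬ z0 P ≤ Z T) {g : U T}
    (hg : g ∈ Q T) (hc : g ∈ centralizer (z0 P : Set (U T))) : g ∈ P := by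
  have hV := V_le h hQ hz
  obtain ⟨v, hv, hvZ⟩ := SetLike.not_le_iff_exists.1 hn
  have hv' := hz hv
  obtain ⟨t, ht, htv⟩ : ∃ t ∈ Q T, bv t v ≠ 0 := by
    by_contra! hall
    have e1 := hall _ (el_mem 1 0 0 0)
    have e2 := hall _ (el_mem 0 1 0 0)
    have e3 := hall _ (el_mem 0 0 1 0)
    have e4 := hall _ (el_mem 0 0 0 1)
    simp only [bv, el, one_mul, zero_mul, add_zero, zero_add] at e1 e2 e3 e4
    obtain ⟨h0, h1, h2, h3, h4, h5, h6⟩ := hv'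
    exact hvZ ⟨h0, h1, e4, e3, h2, e2, h3, e1, h4, h5, h6⟩
  exact h.faith _ ch_z0 z0_le_centralizer t (Q_le_norm hQ hV ht) (hV (sq_Q ht))
    (fun e => htv ((comm_iff ht hv').1 (e v hv).symm)) g (Q_le_norm hQ hV hg) hc

theorem case_form (h : Cr P) (hQ : P ≤ Q T) (hD : D T ≤ P) {p p' : U T} (hp : p ∈ P)
    (hp' : p' ∈ P) (hb : br p' p ≠ 0) : P = Q T := by
  have hy : ∀ b, y4 T b ∈ D T := fun b => by o8s
  have hZ : Ch P (Z T) := by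
    have : Z T = ⁅P, ⁅P, P⁆⁆ := by
      refine le_antisymm (fun z hz => ?_) (commutator_le.2 fun x hx y hy => ?_)
      · have e : z = ⁅p', ⁅p, y4 T (z.a4 / br p' p)⁆⁆ := by
          obtain ⟨e1, e2, e3, e4⟩ := comm_QD (hQ hp) (hy (z.a4 / br p' p))
          rw [comm_QV (hQ hp') (comm_QQ (hQ hp) (D_le_Q (hy _))), bv, e1, e2, e3, e4]
          refine (eq_x4 hz).trans (congrArg (x4 T) ?_)
          rw [← div_mul_cancel₀ z.a4 hb, mul_div_cancel_right₀ _ hb]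
          simp only [br, y4]
          ring
        rw [e]
        exact commutator_mem_commutator hp' (commutator_mem_commutator hp (hD (hy _)))
      · have : y ∈ V T := (commutator_le.2 fun a ha b hb => comm_QQ (hQ ha) (hQ hb)) hy
        rw [comm_QV (hQ hx) this]
        exact x4_mem _
    rw [this]
    exact Ch.self.commutator (Ch.self.commutator Ch.self)
  refine eq_of_ch h hQ hZ (Ch.of_iff hZ.ivs.commP fun g => ⟨fun hg =>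
    ⟨hD (V_le_D hg), fun x hx => ?_⟩, fun ⟨hg, hc⟩ => ?_⟩)
  · rw [← commutatorElement_inv, comm_QV (hQ hx) hg]
    exact (Z T).inv_mem (x4_mem _)
  · obtain ⟨e1, e2, e3, e4⟩ := comm_QD (hQ hg) (hy 1)
    obtain ⟨-, -, k2, k3, -, k5, -, k6, -⟩ := hc _ (hD (hy 1))
    rw [k2] at e1
    rw [k3] at e2
    rw [k5] at e3
    rw [k6] at e4
    simp only [y4, one_mul] at e1 e2 e3 e4
    have hgD : g ∈ D T := ⟨e1.symm, e2.symm, e3.symm, e4.symm, hQ hg⟩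
    have hc' : ⁅p, g⁆ ∈ Z T := by
      rw [← commutatorElement_inv]
      exact (Z T).inv_mem (hc p hp)
    obtain ⟨f1, f2, f3, f4⟩ := comm_QD (hQ hp) hgD
    obtain ⟨-, -, l2, l3, -, l5, -, l6, -⟩ := hc'
    have h4 : g.b4 = 0 := by
      refine (mul_eq_zero.1 (?_ : g.b4 * br p' p = 0)).resolve_right hb
      rw [l2] at f1
      rw [l3] at f2
      rw [l5] at f3
      rw [l6] at f4
      simp only [br]
      linear_combination -p'.a7 * f1 - p'.b6 * f2 - p'.b2 * f3 - p'.a1 * f4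
    exact ⟨hgD.1, hgD.2.1, h4, hgD.2.2.1, hgD.2.2.2.1, hQ hg⟩

theorem kill (h : Cr P) (hQ : P ≤ Q T) (hz : z0 P ≤ V T) (hn : ¬ z0 P ≤ Z T)
    (hi : ∀ p ∈ P, ∀ p' ∈ P, br p p' = 0) {α δ : K} (hw : el T α 0 0 δ ∉ P) {t : U T}
    (ht : t ∈ Q T) (htP : t ∉ P) (hst : el T α 0 0 δ * t ∉ P) : False := by
  have := T.charP
  have hV := V_le h hQ hz
  have hN := Q_le_norm hQ hV
  have hs : el T α 0 0 δ ∈ Ln T α δ := ⟨el_mem .., 1, by simp [el]⟩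
  have hbv : ∀ c ∈ Ln T α δ, ∃ a, ∀ v, bv c v = a * bv (el T α 0 0 δ) v := by
    rintro c ⟨-, a, e1, e2, e3, e4⟩
    refine ⟨a, fun v => ?_⟩
    simp only [bv, el, e1, e2, e3, e4]
    ring
  have key := h.off (z0 P) (Ln T α δ) K (bv (el T α 0 0 δ)) (fun k => el T (k * α) 0 0 (k * δ))
    (el T α 0 0 δ) t ch_z0 z0_le_centralizer (fun x hx => hx.2.1) (fun c hc => hN hc.1)
    (fun c hc d _ x hx => comm_Z d (comm_QV hc.1 (hz hx) ▸ x4_mem _))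
    (fun x hx y hy e c hc => by
      obtain ⟨a, ha⟩ := hbv c hc
      rw [comm_QV hc.1 (mul_mem ((V T).inv_mem (hz hx)) (hz hy)), x4_eq_one, ha,
        bv_inv_mul _ (hz hx) (hz hy), e, CharTwo.add_self_eq_zero, mul_zero])
    (fun k => ⟨el_mem .., k, rfl, rfl, rfl, rfl⟩)
    (fun k l e => by
      by_contra hkl
      have hkl' : k + l ≠ 0 := fun e => hkl (CharTwo.add_eq_zero.1 e)
      refine hw (mem_of_cent h hQ hz hn (el_mem ..) fun v hv => ?_)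
      have hm := (Q T).inv_mem (el_mem (T := T) (k * α) 0 0 (k * δ))
      have e0 := (comm_iff (mul_mem hm (el_mem ..)) (hz hv)).1 (e v hv).symm
      obtain ⟨e1, e2, e3, e4⟩ := bar_mul (k := el T (l * α) 0 0 (l * δ)) hm
      obtain ⟨f1, f2, f3, f4⟩ := bar_inv (el_mem (T := T) (k * α) 0 0 (k * δ))
      rw [bv, e1, e2, e3, e4, f1, f2, f3, f4] at e0
      rw [eq_comm, comm_iff (el_mem ..) (hz hv)]
      refine (mul_eq_zero.1 (?_ : (k + l) * bv (el T α 0 0 δ) v = 0)).resolve_left hkl'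
      simp only [bv, el] at e0 ⊢
      linear_combination e0)
    hs (hV (sq_Q (el_mem ..))) (fun e => hw (mem_of_cent h hQ hz hn (el_mem ..) e)) (hN ht)
    (hV (sq_Q ht)) (hV (comm_QQ (el_mem ..) ht)) htP hst
  obtain ⟨c, hc, h1⟩ := key _ (hN (el_mem 0 1 0 0))
  obtain ⟨d, hd, h2⟩ := key _ (hN (el_mem 0 0 1 0))
  have e := hi _ (mem_of_cent h hQ hz hn (mul_mem ((Q T).inv_mem hc.1) (el_mem ..)) h1) _
    (mem_of_cent h hQ hz hn (mul_mem ((Q T).inv_mem hd.1) (el_mem ..)) h2)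
  obtain ⟨e1, e2, e3, e4⟩ := bar_mul (k := el T 0 1 0 0) ((Q T).inv_mem hc.1)
  obtain ⟨f1, f2, f3, f4⟩ := bar_mul (k := el T 0 0 1 0) ((Q T).inv_mem hd.1)
  obtain ⟨-, a, a1, a2, a3, a4⟩ := (Ln T α δ).inv_mem hc
  obtain ⟨-, b, b1, b2, b3, b4⟩ := (Ln T α δ).inv_mem hd
  rw [br, e1, e2, e3, e4, f1, f2, f3, f4, a1, a2, a3, a4, b1, b2, b3, b4] at e
  simp only [el] at e
  grind

theorem case_iso (h : Cr P) (hQ : P ≤ Q T) (hz : z0 P ≤ V T) (hn : ¬ z0 P ≤ Z T)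
    (hi : ∀ p ∈ P, ∀ p' ∈ P, br p p' = 0) : False := by
  have := T.charP
  obtain ⟨α, δ, α', δ', hw, e⟩ : ∃ α δ α' δ' : K, el T α 0 0 δ ∉ P ∧ α * δ' + δ * α' = 1 := by
    by_cases h1 : el T 1 0 0 0 ∈ P
    · refine ⟨0, 1, 1, 0, fun h2 => ?_, by simp⟩
      simpa [br, el] using hi _ h1 _ h2
    · exact ⟨1, 0, 0, 1, h1, by simp⟩
  obtain ⟨β, γ, hb⟩ : ∃ β γ : K, el T 0 β γ 0 ∉ P := by
    by_cases h1 : el T 0 1 0 0 ∈ P
    · refine ⟨0, 1, fun h2 => ?_⟩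
      simpa [br, el] using hi _ h1 _ h2
    · exact ⟨1, 0, h1⟩
  by_cases hs : el T α 0 0 δ * el T 0 β γ 0 ∈ P
  · obtain ⟨e1, e2, e3, e4⟩ := bar_mul (k := el T 0 β γ 0) (el_mem (T := T) α 0 0 δ)
    obtain ⟨f1, f2, f3, f4⟩ := bar_mul (k := el T α' 0 0 δ') (el_mem (T := T) α 0 0 δ)
    refine kill h hQ hz hn hi hw (el_mem α' 0 0 δ') (fun k => ?_) fun k => ?_
    · have := hi _ hs _ k
      rw [br, e1, e2, e3, e4] at this
      simp only [el] at this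
      grind
    · have := hi _ hs _ k
      rw [br, e1, e2, e3, e4, f1, f2, f3, f4] at this
      simp only [el] at this
      grind
  · exact kill h hQ hz hn hi hw (el_mem 0 β γ 0) hb hs

theorem qa : QaStmt T := fun P h hQ hz => by
  by_cases hn : z0 P ≤ Z T
  · exact case_Z h hQ hn
  by_cases hi : ∀ p ∈ P, ∀ p' ∈ P, br p p' = 0
  · exact (case_iso h hQ hz hn hi).elim
  push Not at hi
  obtain ⟨p', hp', p, hp, hb⟩ := hi
  refine case_form h hQ (fun d hd => mem_of_cent h hQ hz hn (D_le_Q hd) fun v hv => ?_) hp hp' hb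
  exact ((comm_iff (D_le_Q hd) (hz hv)).2 (bv_D hd v)).symm

end Cfsg.Agent.H38.VbQa
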